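import Cfsg.Agent.Lib.Helper83.Special
import Cfsg.Agent.Lib.Helper59.StPair

/-!
# `⟨a, b(a)⟩ ≅ (P)SL₂(p)` in special rank one groups of exponent `p`

Uses the rank-one Steinberg presentation of `SL₂` over a finite field (`Helper59.steinberg_sl2`)
and `b(a^k)^k = b(a)` (`special_pow`).
-/

set_option autoImplicit false

namespace Cfsg.Agent.Lib.Helper83

open Cfsg

variable {G : Type*} [Group G]

/-- `a ^ t` for `t : ZMod p`. -/
def zpw (p : ℕ) (a : G) (t : ZMod p) : G := a ^ t.val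

section Zpw

variable {p : ℕ} [Fact p.Prime] {a : G}

theorem zpw_zero (a : G) : zpw p a 0 = 1 := by
  rw [zpw, ZMod.val_zero, pow_zero]

theorem zpw_one (a : G) : zpw p a 1 = a := by
  rw [zpw, ZMod.val_one, pow_one]

theorem zpw_add (ha : a ^ p = 1) (t u : ZMod p) : zpw p a (t + u) = zpw p a t * zpw p a u := by
  rw [zpw, zpw, zpw, ZMod.val_add, ← pow_add, ← pow_eq_pow_mod _ ha]

theorem zpw_mul (ha : a ^ p = 1) (t u : ZMod p) : zpw p a (t * u) = zpw p a t ^ u.val := by
  rw [zpw, zpw, ZMod.val_mul, ← pow_mul, ← pow_eq_pow_mod _ ha]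

theorem zpw_neg (ha : a ^ p = 1) (t : ZMod p) : zpw p a (-t) = (zpw p a t)⁻¹ := by
  apply eq_inv_of_mul_eq_one_left
  rw [← zpw_add ha, neg_add_cancel, zpw_zero]

theorem zpw_ne_one (ha : a ^ p = 1) (ha1 : a ≠ 1) {t : ZMod p} (ht : t ≠ 0) : zpw p a t ≠ 1 := by
  intro h
  have ho : orderOf a = p := orderOf_eq_prime ha ha1
  have hd : orderOf a ∣ t.val := orderOf_dvd_of_pow_eq_one h
  rw [ho] at hd
  have hlt : t.val < p := ZMod.val_lt t
  have h0 : t.val = 0 := Nat.eq_zero_of_dvd_of_lt hd hlt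
  exact ht ((ZMod.val_eq_zero t).mp h0)

omit [Fact p.Prime] in
theorem zpw_mem {A : Subgroup G} (ha : a ∈ A) (t : ZMod p) : zpw p a t ∈ A := A.pow_mem ha _

end Zpw

section SLp

variable {A B : Subgroup G} {p : ℕ} [Fact p.Prime]

omit [Fact p.Prime] in
/-- `B` has exponent `p` when `A` does. -/
theorem special_exp_right (hs : IsSpecialRankOnePair A B) (hA : ∀ x ∈ A, x ^ p = 1) :
    ∀ y ∈ B, y ^ p = 1 := by
  intro y hy
  by_cases hy1 : y = 1
  · rw [hy1, one_pow]
  obtain ⟨x, r⟩ := rpartner_exists' hs.1 hy hy1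
  have h1 := special_n_left hs r
  have h2 : y⁻¹ = (x * y⁻¹ * x)⁻¹ * x * (x * y⁻¹ * x) := by rw [mul_assoc, h1]; group
  have h3 : (y⁻¹) ^ p = 1 := by
    rw [h2]
    have := conj_pow (a := (x * y⁻¹ * x)⁻¹) (b := x) (i := p)
    rw [inv_inv] at this
    rw [this, hA x r.1]; group
  rwa [inv_pow, inv_eq_one] at h3

/-- The partner of `a^t` is `b^(1/t)`. -/
theorem special_zpw_partner (hs : IsSpecialRankOnePair A B) (hA : ∀ x ∈ A, x ^ p = 1) {a b : G}
    (r : RPartner A B a b) {t : ZMod p} (ht : t ≠ 0) :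
    RPartner A B (zpw p a t) (zpw p b t⁻¹) := by
  have ha1 := rpartner_ne_one_left hs.1 r
  have hap := hA a r.1
  have hB := special_exp_right hs hA
  have hne : zpw p a t ≠ 1 := zpw_ne_one hap ha1 ht
  obtain ⟨b', r'⟩ := rpartner_exists hs.1 (zpw_mem r.1 t) hne
  have hp2 := (Fact.out : p.Prime).two_le
  have hT : ∀ x ∈ A, x ≠ 1 → ∀ j, 1 ≤ j → j ≤ p - 1 → x ^ j ≠ 1 := by
    intro x hx hx1 j hj1 hjp hxj
    have ho : orderOf x = p := orderOf_eq_prime (hA x hx) hx1
    have hd : p ∣ j := by rw [← ho]; exact orderOf_dvd_of_pow_eq_one hxj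
    have := Nat.le_of_dvd (by omega) hd
    omega
  have hk1 : 1 ≤ t.val :=
    Nat.one_le_iff_ne_zero.mpr (fun h0 => ht ((ZMod.val_eq_zero t).mp h0))
  have hk2 : t.val ≤ p - 1 + 1 := by have := ZMod.val_lt t; omega
  have e : b' ^ t.val = b := special_pow hs (p - 1) hT t.val hk1 hk2 a b b' r r'
  have hb' : zpw p b t⁻¹ = b' := by
    have hb'p : b' ^ p = 1 := hB b' r'.2.1
    rw [zpw, ← e, ← pow_mul, pow_eq_pow_mod _ hb'p, ← ZMod.val_mul, mul_inv_cancel₀ ht,
      ZMod.val_one, pow_one]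
  rw [hb']; exact r'

theorem special_st_rel1 (hs : IsSpecialRankOnePair A B) (hA : ∀ x ∈ A, x ^ p = 1) {a b : G}
    (r : RPartner A B a b) {t : ZMod p} (ht : t ≠ 0) (u : ZMod p) :
    (zpw p a t * zpw p b (-t⁻¹) * zpw p a t) * zpw p a u *
        (zpw p a t * zpw p b (-t⁻¹) * zpw p a t)⁻¹ = zpw p b (-(t⁻¹ ^ 2 * u)) := by
  have hap := hA a r.1
  have hbp := special_exp_right hs hA b r.2.1
  have rt := special_zpw_partner hs hA r ht
  have nR := special_n_right hs rt
  rw [zpw_neg hbp]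
  generalize zpw p a t * (zpw p b t⁻¹)⁻¹ * zpw p a t = n at nR
  have e1 : zpw p a u = zpw p a t ^ (t⁻¹ * u).val := by
    rw [← zpw_mul hap, ← mul_assoc, mul_inv_cancel₀ ht, one_mul]
  have e2 : zpw p b (-(t⁻¹ ^ 2 * u)) = ((zpw p b t⁻¹)⁻¹) ^ (t⁻¹ * u).val := by
    rw [← zpw_neg hbp, ← zpw_mul hbp]; congr 1; ring
  have e3 : n * zpw p a t * n⁻¹ = (zpw p b t⁻¹)⁻¹ := by rw [← nR]; group
  rw [e1, e2, ← e3, conj_pow]

theorem special_st_rel2 (hs : IsSpecialRankOnePair A B) (hA : ∀ x ∈ A, x ^ p = 1) {a b : G}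
    (r : RPartner A B a b) {t : ZMod p} (ht : t ≠ 0) (u : ZMod p) :
    (zpw p b t * zpw p a (-t⁻¹) * zpw p b t) * zpw p b u *
        (zpw p b t * zpw p a (-t⁻¹) * zpw p b t)⁻¹ = zpw p a (-(t⁻¹ ^ 2 * u)) := by
  have hap := hA a r.1
  have hbp := special_exp_right hs hA b r.2.1
  have ht' : t⁻¹ ≠ 0 := inv_ne_zero ht
  have rt := special_zpw_partner hs hA r ht'
  rw [inv_inv] at rt
  have rt' := rpartner_inv hs rt
  have br := special_braid hs rt'
  have nL := special_n_left hs rt'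
  rw [inv_inv] at br nL
  rw [zpw_neg hap, ← br]
  generalize (zpw p a t⁻¹)⁻¹ * zpw p b t * (zpw p a t⁻¹)⁻¹ = n at nL
  have e1 : zpw p b u = zpw p b t ^ (t⁻¹ * u).val := by
    rw [← zpw_mul hbp, ← mul_assoc, mul_inv_cancel₀ ht, one_mul]
  have e2 : zpw p a (-(t⁻¹ ^ 2 * u)) = ((zpw p a t⁻¹)⁻¹) ^ (t⁻¹ * u).val := by
    rw [← zpw_neg hap, ← zpw_mul hap]; congr 1; ring
  have e3 : n * zpw p b t * n⁻¹ = (zpw p a t⁻¹)⁻¹ := by rw [← nL]; group
  rw [e1, e2, ← e3, conj_pow]

/-- Images of the Steinberg generators. -/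
def stImg (p : ℕ) (a b : G) : Bool × ZMod p → G
  | (true, t) => zpw p a t
  | (false, t) => zpw p b t

theorem special_stRels (hs : IsSpecialRankOnePair A B) (hA : ∀ x ∈ A, x ^ p = 1) {a b : G}
    (r : RPartner A B a b) :
    ∀ w ∈ Helper59.stRels (ZMod p), FreeGroup.lift (stImg p a b) w = 1 := by
  have hap := hA a r.1
  have hbp := special_exp_right hs hA b r.2.1
  rintro w (⟨c, t, u, rfl⟩ | ⟨c, t, u, ht, rfl⟩)
  · simp only [map_mul, map_inv, FreeGroup.lift_apply_of]
    rw [mul_inv_eq_one]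
    cases c
    · exact (zpw_add hbp t u).symm
    · exact (zpw_add hap t u).symm
  · simp only [map_mul, map_inv, FreeGroup.lift_apply_of]
    rw [mul_inv_eq_one]
    cases c
    · exact special_st_rel2 hs hA r ht u
    · exact special_st_rel1 hs hA r ht u

end SLp

section Hom

variable {A B : Subgroup G} {p : ℕ} [Fact p.Prime]

theorem mat2_ext {R : Type*} {a b c d a' b' c' d' : R} (h1 : a = a') (h2 : b = b') (h3 : c = c')
    (h4 : d = d') : (!![a, b; c, d] : Matrix (Fin 2) (Fin 2) R) = !![a', b'; c', d'] := by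
  subst h1 h2 h3 h4; rfl

theorem scalar2 {R : Type*} [CommRing R] (r : R) :
    (Matrix.scalar (Fin 2) r : Matrix (Fin 2) (Fin 2) R) = !![r, 0; 0, r] := by
  ext i j
  fin_cases i <;> fin_cases j <;> simp

/-- The homomorphism `SL₂(p) → G` with image `⟨a, b⟩`. -/
theorem special_sl2p_hom (hs : IsSpecialRankOnePair A B) (hA : ∀ x ∈ A, x ^ p = 1) {a b : G}
    (r : RPartner A B a b) :
    ∃ ψ : Matrix.SpecialLinearGroup (Fin 2) (ZMod p) →* G,
      (∀ t, ψ (Helper59.slX (ZMod p) t) = zpw p a t) ∧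
      (∀ t, ψ (Helper59.slY (ZMod p) t) = zpw p b t) ∧
      ψ.range = Subgroup.closure ({a, b} : Set G) := by
  obtain ⟨e, hex, hey⟩ := Helper59.steinberg_sl2 (ZMod p)
  have hrel := special_stRels hs hA r
  have hx : ∀ t, (PresentedGroup.toGroup hrel) (e.symm (Helper59.slX (ZMod p) t)) = zpw p a t := by
    intro t
    have h1 : e.symm (Helper59.slX (ZMod p) t) = PresentedGroup.of (true, t) := by
      rw [MulEquiv.symm_apply_eq]
      exact Subtype.ext (hex t).symm
    rw [h1, PresentedGroup.toGroup.of]; rfl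
  have hy : ∀ t, (PresentedGroup.toGroup hrel) (e.symm (Helper59.slY (ZMod p) t)) = zpw p b t := by
    intro t
    have h1 : e.symm (Helper59.slY (ZMod p) t) = PresentedGroup.of (false, t) := by
      rw [MulEquiv.symm_apply_eq]
      exact Subtype.ext (hey t).symm
    rw [h1, PresentedGroup.toGroup.of]; rfl
  refine ⟨(PresentedGroup.toGroup hrel).comp e.symm.toMonoidHom, hx, hy, ?_⟩
  apply le_antisymm
  · rintro _ ⟨g, rfl⟩
    have key : ∀ x : PresentedGroup (Helper59.stRels (ZMod p)),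
        PresentedGroup.toGroup hrel x ∈ Subgroup.closure ({a, b} : Set G) := by
      intro x
      have hx' : x ∈ Subgroup.closure
          (Set.range (PresentedGroup.of (rels := Helper59.stRels (ZMod p)))) := by
        rw [PresentedGroup.closure_range_of]; trivial
      induction hx' using Subgroup.closure_induction with
      | mem y hy =>
        obtain ⟨⟨c, t⟩, rfl⟩ := hy
        rw [PresentedGroup.toGroup.of]
        cases c
        · exact Subgroup.pow_mem _ (Subgroup.subset_closure (by simp)) _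
        · exact Subgroup.pow_mem _ (Subgroup.subset_closure (by simp)) _
      | one => rw [map_one]; exact one_mem _
      | mul y z _ _ hy hz => rw [map_mul]; exact mul_mem hy hz
      | inv y _ hy => rw [map_inv]; exact inv_mem hy
    exact key _
  · rw [Subgroup.closure_le]
    rintro x (rfl | rfl)
    · exact ⟨Helper59.slX (ZMod p) 1, (hx 1).trans (zpw_one _)⟩
    · exact ⟨Helper59.slY (ZMod p) 1, (hy 1).trans (zpw_one _)⟩

/-- The kernel consists of `±1`. -/
theorem special_sl2p_ker (hp1 : IsRankOnePair A B) (hA : ∀ x ∈ A, x ^ p = 1)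
    (hB : ∀ y ∈ B, y ^ p = 1) {a b : G} (ha : a ∈ A) (hb : b ∈ B) (ha1 : a ≠ 1) (hb1 : b ≠ 1)
    (ψ : Matrix.SpecialLinearGroup (Fin 2) (ZMod p) →* G)
    (hx : ∀ t, ψ (Helper59.slX (ZMod p) t) = zpw p a t)
    (hy : ∀ t, ψ (Helper59.slY (ZMod p) t) = zpw p b t)
    {g : Matrix.SpecialLinearGroup (Fin 2) (ZMod p)} (hg : ψ g = 1) :
    g.1 = !![1, 0; 0, 1] ∨ g.1 = !![-1, 0; 0, -1] := by
  have hAB : ∀ x, x ∈ A → x ∈ B → x = 1 := by
    intro x hxA hxB
    have : x ∈ A ⊓ Subgroup.normalizer (B : Set G) := ⟨hxA, Subgroup.le_normalizer hxB⟩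
    rw [rankOne_inf_normalizer hp1] at this
    exact this
  have hap := hA a ha
  have hbp := hB b hb
  obtain ⟨α, β, γ, δ, hM⟩ : ∃ α β γ δ, g.1 = !![α, β; γ, δ] :=
    ⟨_, _, _, _, Matrix.eta_fin_two g.1⟩
  have hdet : α * δ - β * γ = 1 := by
    have := g.2
    rw [hM, Matrix.det_fin_two_of] at this
    exact this
  have hγ : γ = 0 := by
    by_contra hγ
    have hfac : g = Helper59.slX (ZMod p) ((α - 1) * γ⁻¹) * Helper59.slY (ZMod p) γ *
        Helper59.slX (ZMod p) ((δ - 1) * γ⁻¹) := by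
      apply Subtype.ext
      change g.1 = !![1, (α - 1) * γ⁻¹; 0, 1] * !![1, 0; γ, 1] * !![1, (δ - 1) * γ⁻¹; 0, 1]
      rw [hM, Matrix.mul_fin_two, Matrix.mul_fin_two]
      refine mat2_ext ?_ ?_ ?_ ?_
      · field_simp; ring
      · field_simp; linear_combination (-1 : ZMod p) * hdet
      · ring
      · field_simp; ring
    have h1 := congrArg ψ hfac
    rw [hg, map_mul, map_mul, hx, hy, hx] at h1
    have h2 : zpw p b γ = (zpw p a ((α - 1) * γ⁻¹))⁻¹ * 1 * (zpw p a ((δ - 1) * γ⁻¹))⁻¹ := by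
      rw [h1]; group
    have h3 : zpw p b γ ∈ A := by
      rw [h2]
      exact mul_mem (mul_mem (inv_mem (zpw_mem ha _)) (one_mem _)) (inv_mem (zpw_mem ha _))
    exact zpw_ne_one hbp hb1 hγ (hAB _ h3 (zpw_mem hb _))
  have hβ : β = 0 := by
    by_contra hβ
    have hfac : g = Helper59.slY (ZMod p) ((δ - 1) * β⁻¹) * Helper59.slX (ZMod p) β *
        Helper59.slY (ZMod p) ((α - 1) * β⁻¹) := by
      apply Subtype.ext
      change g.1 = !![1, 0; (δ - 1) * β⁻¹, 1] * !![1, β; 0, 1] * !![1, 0; (α - 1) * β⁻¹, 1]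
      rw [hM, Matrix.mul_fin_two, Matrix.mul_fin_two]
      refine mat2_ext ?_ ?_ ?_ ?_
      · field_simp; ring
      · ring
      · field_simp; linear_combination (-1 : ZMod p) * hdet
      · field_simp; ring
    have h1 := congrArg ψ hfac
    rw [hg, map_mul, map_mul, hy, hx, hy] at h1
    have h2 : zpw p a β = (zpw p b ((δ - 1) * β⁻¹))⁻¹ * 1 * (zpw p b ((α - 1) * β⁻¹))⁻¹ := by
      rw [h1]; group
    have h3 : zpw p a β ∈ B := by
      rw [h2]
      exact mul_mem (mul_mem (inv_mem (zpw_mem hb _)) (one_mem _)) (inv_mem (zpw_mem hb _))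
    exact zpw_ne_one hap ha1 hβ (hAB _ (zpw_mem ha _) h3)
  subst hγ hβ
  have hαδ : α * δ = 1 := by linear_combination hdet
  have hcomm : g * Helper59.slX (ZMod p) 1 = Helper59.slX (ZMod p) (α ^ 2) * g := by
    apply Subtype.ext
    change g.1 * !![1, 1; 0, 1] = !![1, α ^ 2; 0, 1] * g.1
    rw [hM, Matrix.mul_fin_two, Matrix.mul_fin_two]
    refine mat2_ext ?_ ?_ ?_ ?_
    · ring
    · linear_combination (-α) * hαδ
    · ring
    · ring
  have h1 := congrArg ψ hcomm
  rw [map_mul, map_mul, hg, one_mul, mul_one, hx, hx] at h1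
  have hα2 : α ^ 2 = 1 := by
    by_contra h
    have h2 : zpw p a (α ^ 2 - 1) = 1 := by
      rw [sub_eq_add_neg, zpw_add hap, zpw_neg hap, ← h1, mul_inv_cancel]
    exact zpw_ne_one hap ha1 (sub_ne_zero.mpr h) h2
  have hα : α = 1 ∨ α = -1 := by
    have h2 : (α - 1) * (α + 1) = 0 := by linear_combination hα2
    rcases mul_eq_zero.mp h2 with h3 | h3
    · left; linear_combination h3
    · right; linear_combination h3
  rw [hM]
  rcases hα with rfl | rfl
  · left
    have : δ = 1 := by linear_combination hαδ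
    rw [this]
  · right
    have : δ = -1 := by linear_combination (-1 : ZMod p) * hαδ
    rw [this]

/-- `⟨a, b(a)⟩ ≅ SL₂(p)` or `PSL₂(p)` when `A` has exponent `p`. -/
theorem special_closure_sl2p (hs : IsSpecialRankOnePair A B) (hA : ∀ x ∈ A, x ^ p = 1) {a b : G}
    (r : RPartner A B a b) :
    Nonempty (↥(Subgroup.closure ({a, b} : Set G)) ≃*
        Matrix.SpecialLinearGroup (Fin 2) (ZMod p)) ∨
    Nonempty (↥(Subgroup.closure ({a, b} : Set G)) ≃*
        Matrix.ProjectiveSpecialLinearGroup (Fin 2) (ZMod p)) := by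
  obtain ⟨ψ, hx, hy, hrange⟩ := special_sl2p_hom hs hA r
  have hB := special_exp_right hs hA
  have ha1 := rpartner_ne_one_left hs.1 r
  have hb1 := rpartner_ne_one_right hs.1 r
  have hker : ∀ g, ψ g = 1 → g.1 = !![1, 0; 0, 1] ∨ g.1 = !![-1, 0; 0, -1] := fun g hg =>
    special_sl2p_ker hs.1 hA hB r.1 r.2.1 ha1 hb1 ψ hx hy hg
  by_cases hinj : ∀ g, ψ g = 1 → g = 1
  · left
    have hinj' : Function.Injective ψ := (injective_iff_map_eq_one ψ).mpr hinj
    exact ⟨((MonoidHom.ofInjective hinj').trans (MulEquiv.subgroupCongr hrange)).symm⟩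
  · right
    push Not at hinj
    obtain ⟨g₀, hg₀, hg₀1⟩ := hinj
    have hg₀m : g₀.1 = !![-1, 0; 0, -1] := by
      rcases hker g₀ hg₀ with h | h
      · exact absurd (Subtype.ext (h.trans (Matrix.one_fin_two (α := ZMod p)).symm)) hg₀1
      · exact h
    have hkc : ψ.ker = Subgroup.center (Matrix.SpecialLinearGroup (Fin 2) (ZMod p)) := by
      apply le_antisymm
      · intro g hg
        rw [Matrix.SpecialLinearGroup.mem_center_iff]
        rcases hker g (MonoidHom.mem_ker.mp hg) with h | h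
        · exact ⟨1, one_pow _, by rw [scalar2, h]⟩
        · exact ⟨-1, by simp, by rw [scalar2, h]⟩
      · intro z hz
        rw [Matrix.SpecialLinearGroup.mem_center_iff] at hz
        obtain ⟨c, hc, hcz⟩ := hz
        rw [scalar2] at hcz
        have hc2 : c ^ 2 = 1 := by simpa using hc
        have hc' : c = 1 ∨ c = -1 := by
          have h2 : (c - 1) * (c + 1) = 0 := by linear_combination hc2
          rcases mul_eq_zero.mp h2 with h3 | h3
          · left; linear_combination h3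
          · right; linear_combination h3
        rcases hc' with rfl | rfl
        · have : z = 1 := Subtype.ext (hcz.symm.trans (Matrix.one_fin_two (α := ZMod p)).symm)
          rw [this]; exact one_mem _
        · have : z = g₀ := Subtype.ext (by rw [← hcz, hg₀m])
          rw [this]; exact MonoidHom.mem_ker.mpr hg₀
    exact ⟨(((QuotientGroup.quotientMulEquivOfEq hkc).symm.trans
      (QuotientGroup.quotientKerEquivRange ψ)).trans (MulEquiv.subgroupCongr hrange)).symm⟩

end Hom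

end Cfsg.Agent.Lib.Helper83
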