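import Cfsg.Agent.Lib.Helper59.StPair
import Cfsg.Agent.Lib.Helper83.SLp

/-!
# Homomorphisms from `SL₂(F)` defined by rank-one Steinberg relations

For a finite field `F` and maps `x y : F → G` satisfying the rank-one Steinberg relations there is
a homomorphism `SL₂(F) → G` sending the elementary matrices to `x t`, `y t`; its kernel consists
of `±1` as soon as `x` and `y` are "independent"; and `G ≅ PSL₂(F)` if moreover `G` is generated
by the `x t`, `y t` and `(x(1) y(-1) x(1))² = 1`.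
-/

set_option autoImplicit false

namespace Cfsg.Agent.Lib.Helper83

section StHom

variable {G : Type*} [Group G] {F : Type*} [Field F]

/-- Images of the Steinberg generators. -/
def stImg2 (x y : F → G) : Bool × F → G
  | (true, t) => x t
  | (false, t) => y t

theorem st_rels (x y : F → G) (x_add : ∀ t u, x t * x u = x (t + u))
    (y_add : ∀ t u, y t * y u = y (t + u))
    (rel1 : ∀ t u, t ≠ 0 →
      (x t * y (-t⁻¹) * x t) * x u * (x t * y (-t⁻¹) * x t)⁻¹ = y (-(t⁻¹ ^ 2 * u)))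
    (rel2 : ∀ t u, t ≠ 0 →
      (y t * x (-t⁻¹) * y t) * y u * (y t * x (-t⁻¹) * y t)⁻¹ = x (-(t⁻¹ ^ 2 * u))) :
    ∀ w ∈ Helper59.stRels F, FreeGroup.lift (stImg2 x y) w = 1 := by
  rintro w (⟨c, t, u, rfl⟩ | ⟨c, t, u, ht, rfl⟩)
  · simp only [map_mul, map_inv, FreeGroup.lift_apply_of]
    rw [mul_inv_eq_one]
    cases c
    · exact y_add t u
    · exact x_add t u
  · simp only [map_mul, map_inv, FreeGroup.lift_apply_of]
    rw [mul_inv_eq_one]
    cases c
    · exact rel2 t u ht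
    · exact rel1 t u ht

/-- The homomorphism `SL₂(F) → G`. -/
theorem st_hom [Finite F] (x y : F → G) (x_add : ∀ t u, x t * x u = x (t + u))
    (y_add : ∀ t u, y t * y u = y (t + u))
    (rel1 : ∀ t u, t ≠ 0 →
      (x t * y (-t⁻¹) * x t) * x u * (x t * y (-t⁻¹) * x t)⁻¹ = y (-(t⁻¹ ^ 2 * u)))
    (rel2 : ∀ t u, t ≠ 0 →
      (y t * x (-t⁻¹) * y t) * y u * (y t * x (-t⁻¹) * y t)⁻¹ = x (-(t⁻¹ ^ 2 * u))) :
    ∃ ψ : Matrix.SpecialLinearGroup (Fin 2) F →* G,
      (∀ t, ψ (Helper59.slX F t) = x t) ∧ (∀ t, ψ (Helper59.slY F t) = y t) := by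
  obtain ⟨e, hex, hey⟩ := Helper59.steinberg_sl2 F
  have hrel := st_rels x y x_add y_add rel1 rel2
  have hx : ∀ t, (PresentedGroup.toGroup hrel) (e.symm (Helper59.slX F t)) = x t := by
    intro t
    have h1 : e.symm (Helper59.slX F t) = PresentedGroup.of (true, t) := by
      rw [MulEquiv.symm_apply_eq]
      exact Subtype.ext (hex t).symm
    rw [h1, PresentedGroup.toGroup.of]; rfl
  have hy : ∀ t, (PresentedGroup.toGroup hrel) (e.symm (Helper59.slY F t)) = y t := by
    intro t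
    have h1 : e.symm (Helper59.slY F t) = PresentedGroup.of (false, t) := by
      rw [MulEquiv.symm_apply_eq]
      exact Subtype.ext (hey t).symm
    rw [h1, PresentedGroup.toGroup.of]; rfl
  exact ⟨(PresentedGroup.toGroup hrel).comp e.symm.toMonoidHom, hx, hy⟩

/-- The kernel consists of `±1`. -/
theorem st_ker (x y : F → G) (x_add : ∀ t u, x t * x u = x (t + u))
    (y_add : ∀ t u, y t * y u = y (t + u)) (hxy : ∀ t u, x t = y u → t = 0 ∧ u = 0)
    (ψ : Matrix.SpecialLinearGroup (Fin 2) F →* G)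
    (hx : ∀ t, ψ (Helper59.slX F t) = x t) (hy : ∀ t, ψ (Helper59.slY F t) = y t)
    {g : Matrix.SpecialLinearGroup (Fin 2) F} (hg : ψ g = 1) :
    g.1 = !![1, 0; 0, 1] ∨ g.1 = !![-1, 0; 0, -1] := by
  have hx0 : x 0 = 1 := by
    have h := x_add 0 0
    rw [add_zero] at h
    exact mul_left_cancel (a := x 0) (by rw [h, mul_one])
  have hy0 : y 0 = 1 := by
    have h := y_add 0 0
    rw [add_zero] at h
    exact mul_left_cancel (a := y 0) (by rw [h, mul_one])
  have hxneg : ∀ t, (x t)⁻¹ = x (-t) := by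
    intro t
    apply inv_eq_of_mul_eq_one_right
    rw [x_add, add_neg_cancel, hx0]
  have hyneg : ∀ t, (y t)⁻¹ = y (-t) := by
    intro t
    apply inv_eq_of_mul_eq_one_right
    rw [y_add, add_neg_cancel, hy0]
  obtain ⟨α, β, γ, δ, hM⟩ : ∃ α β γ δ, g.1 = !![α, β; γ, δ] :=
    ⟨_, _, _, _, Matrix.eta_fin_two g.1⟩
  have hdet : α * δ - β * γ = 1 := by
    have := g.2
    rw [hM, Matrix.det_fin_two_of] at this
    exact this
  have hγ : γ = 0 := by
    by_contra hγ
    have hfac : g = Helper59.slX F ((α - 1) * γ⁻¹) * Helper59.slY F γ *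
        Helper59.slX F ((δ - 1) * γ⁻¹) := by
      apply Subtype.ext
      change g.1 = !![1, (α - 1) * γ⁻¹; 0, 1] * !![1, 0; γ, 1] * !![1, (δ - 1) * γ⁻¹; 0, 1]
      rw [hM, Matrix.mul_fin_two, Matrix.mul_fin_two]
      refine mat2_ext ?_ ?_ ?_ ?_
      · field_simp; ring
      · field_simp; linear_combination (-1 : F) * hdet
      · ring
      · field_simp; ring
    have h1 := congrArg ψ hfac
    rw [hg, map_mul, map_mul, hx, hy, hx] at h1
    have h2 : y γ = (x ((α - 1) * γ⁻¹))⁻¹ * 1 * (x ((δ - 1) * γ⁻¹))⁻¹ := by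
      rw [h1]; group
    rw [mul_one, hxneg, hxneg, x_add] at h2
    exact hγ (hxy _ _ h2.symm).2
  have hβ : β = 0 := by
    by_contra hβ
    have hfac : g = Helper59.slY F ((δ - 1) * β⁻¹) * Helper59.slX F β *
        Helper59.slY F ((α - 1) * β⁻¹) := by
      apply Subtype.ext
      change g.1 = !![1, 0; (δ - 1) * β⁻¹, 1] * !![1, β; 0, 1] * !![1, 0; (α - 1) * β⁻¹, 1]
      rw [hM, Matrix.mul_fin_two, Matrix.mul_fin_two]
      refine mat2_ext ?_ ?_ ?_ ?_
      · field_simp; ring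
      · ring
      · field_simp; linear_combination (-1 : F) * hdet
      · field_simp; ring
    have h1 := congrArg ψ hfac
    rw [hg, map_mul, map_mul, hy, hx, hy] at h1
    have h2 : x β = (y ((δ - 1) * β⁻¹))⁻¹ * 1 * (y ((α - 1) * β⁻¹))⁻¹ := by
      rw [h1]; group
    rw [mul_one, hyneg, hyneg, y_add] at h2
    exact hβ (hxy _ _ h2).1
  subst hγ hβ
  have hαδ : α * δ = 1 := by linear_combination hdet
  have hcomm : g * Helper59.slX F 1 = Helper59.slX F (α ^ 2) * g := by
    apply Subtype.ext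
    change g.1 * !![1, 1; 0, 1] = !![1, α ^ 2; 0, 1] * g.1
    rw [hM, Matrix.mul_fin_two, Matrix.mul_fin_two]
    refine mat2_ext ?_ ?_ ?_ ?_
    · ring
    · linear_combination (-α) * hαδ
    · ring
    · ring
  have h1 := congrArg ψ hcomm
  rw [map_mul, map_mul, hg, one_mul, mul_one, hx, hx] at h1
  have hα2 : α ^ 2 = 1 := by
    have h2 : x (α ^ 2 - 1) = y 0 := by
      rw [sub_eq_add_neg, ← x_add, ← hxneg, ← h1, mul_inv_cancel, hy0]
    exact sub_eq_zero.mp (hxy _ _ h2).1
  have hα : α = 1 ∨ α = -1 := by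
    have h2 : (α - 1) * (α + 1) = 0 := by linear_combination hα2
    rcases mul_eq_zero.mp h2 with h3 | h3
    · left; linear_combination h3
    · right; linear_combination h3
  rw [hM]
  rcases hα with rfl | rfl
  · left
    have : δ = 1 := by linear_combination hαδ
    rw [this]
  · right
    have : δ = -1 := by linear_combination (-1 : F) * hαδ
    rw [this]

/-- `G ≅ PSL₂(F)` for a group generated by a rank-one Steinberg pair over a finite field in which
`(x(1) y(-1) x(1))² = 1`. -/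
theorem st_psl_iso [Finite F] (x y : F → G) (x_add : ∀ t u, x t * x u = x (t + u))
    (y_add : ∀ t u, y t * y u = y (t + u))
    (rel1 : ∀ t u, t ≠ 0 →
      (x t * y (-t⁻¹) * x t) * x u * (x t * y (-t⁻¹) * x t)⁻¹ = y (-(t⁻¹ ^ 2 * u)))
    (rel2 : ∀ t u, t ≠ 0 →
      (y t * x (-t⁻¹) * y t) * y u * (y t * x (-t⁻¹) * y t)⁻¹ = x (-(t⁻¹ ^ 2 * u)))
    (hxy : ∀ t u, x t = y u → t = 0 ∧ u = 0)
    (hgen : Subgroup.closure (Set.range x ∪ Set.range y) = ⊤)
    (hw : (x 1 * y (-1) * x 1) * (x 1 * y (-1) * x 1) = 1) :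
    Nonempty (G ≃* Matrix.ProjectiveSpecialLinearGroup (Fin 2) F) := by
  obtain ⟨ψ, hx, hy⟩ := st_hom x y x_add y_add rel1 rel2
  have hker : ∀ g, ψ g = 1 → g.1 = !![1, 0; 0, 1] ∨ g.1 = !![-1, 0; 0, -1] := fun g hg =>
    st_ker x y x_add y_add hxy ψ hx hy hg
  have hsurj : Function.Surjective ψ := by
    rw [← MonoidHom.range_eq_top, eq_top_iff, ← hgen, Subgroup.closure_le]
    rintro g (⟨t, rfl⟩ | ⟨t, rfl⟩)
    · exact ⟨_, hx t⟩
    · exact ⟨_, hy t⟩
  obtain ⟨g₀, hg₀def⟩ : ∃ g₀ : Matrix.SpecialLinearGroup (Fin 2) F,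
      g₀ = (Helper59.slX F 1 * Helper59.slY F (-1) * Helper59.slX F 1) *
        (Helper59.slX F 1 * Helper59.slY F (-1) * Helper59.slX F 1) := ⟨_, rfl⟩
  have hg₀ : ψ g₀ = 1 := by
    rw [hg₀def]
    simp only [map_mul, hx, hy]
    exact hw
  have hg₀m : g₀.1 = !![-1, 0; 0, -1] := by
    rw [hg₀def]
    change (!![1, 1; 0, 1] * !![1, 0; -1, 1] * !![1, 1; 0, 1]) *
      (!![1, 1; 0, 1] * !![1, 0; -1, 1] * !![1, 1; 0, 1]) = (!![-1, 0; 0, -1] : Matrix _ _ F)
    simp only [Matrix.mul_fin_two]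
    refine mat2_ext ?_ ?_ ?_ ?_ <;> ring
  have hkc : ψ.ker = Subgroup.center (Matrix.SpecialLinearGroup (Fin 2) F) := by
    apply le_antisymm
    · intro g hg
      rw [Matrix.SpecialLinearGroup.mem_center_iff]
      rcases hker g (MonoidHom.mem_ker.mp hg) with h | h
      · exact ⟨1, one_pow _, by rw [scalar2, h]⟩
      · exact ⟨-1, by simp, by rw [scalar2, h]⟩
    · intro z hz
      rw [Matrix.SpecialLinearGroup.mem_center_iff] at hz
      obtain ⟨c, hc, hcz⟩ := hz
      rw [scalar2] at hcz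
      have hc2 : c ^ 2 = 1 := by simpa using hc
      have hc' : c = 1 ∨ c = -1 := by
        have h2 : (c - 1) * (c + 1) = 0 := by linear_combination hc2
        rcases mul_eq_zero.mp h2 with h3 | h3
        · left; linear_combination h3
        · right; linear_combination h3
      rcases hc' with rfl | rfl
      · have : z = 1 := Subtype.ext (hcz.symm.trans (Matrix.one_fin_two (α := F)).symm)
        rw [this]; exact one_mem _
      · have : z = g₀ := Subtype.ext (by rw [← hcz, hg₀m])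
        rw [this]; exact MonoidHom.mem_ker.mpr hg₀
  exact ⟨((QuotientGroup.quotientMulEquivOfEq hkc).symm.trans
    (QuotientGroup.quotientKerEquivOfSurjective ψ hsurj)).symm⟩

end StHom

end Cfsg.Agent.Lib.Helper83
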