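import Mathlib

set_option autoImplicit false

namespace Cfsg.Agent.Lib.Helper83

section ZInvLemmas

variable {G : Type*} [Group G]

/-- An element of odd order is a power of its square. -/
theorem odd_order_pow_sq {t : G} (hodd : Odd (orderOf t)) : ∃ k : ℕ, t = (t * t) ^ k := by
  obtain ⟨u, hu⟩ := hodd
  refine ⟨u + 1, ?_⟩
  rw [← pow_two, ← pow_mul]
  have h2 : 2 * (u + 1) = (2 * u + 1) + 1 := by ring
  rw [h2, pow_succ, ← hu, pow_orderOf_eq_one, one_mul]

theorem commute_of_sq_commute {t g : G} (hodd : Odd (orderOf t)) (h : Commute (t * t) g) :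
    Commute t g := by
  obtain ⟨k, hk⟩ := odd_order_pow_sq hodd
  rw [hk]
  exact h.pow_left k

/-- An automorphism of square one of a cyclic group of odd prime power order is trivial or
inversion. -/
theorem invol_cyclic_dichotomy {q k : ℕ} (hq : q.Prime) (hq2 : q ≠ 2) {g w : G}
    (hg : orderOf g = q ^ k) (hw : w * w = 1) (hn : w * g * w⁻¹ ∈ Subgroup.zpowers g) :
    w * g * w⁻¹ = g ∨ w * g * w⁻¹ = g⁻¹ := by
  obtain ⟨m, hm⟩ := Subgroup.mem_zpowers_iff.mp hn
  have hwinv : w⁻¹ = w := inv_eq_of_mul_eq_one_right hw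
  have h1 : g ^ (m * m) = g := by
    rw [zpow_mul, hm, conj_zpow, hm]
    simp only [hwinv, ← mul_assoc, hw, one_mul]
    rw [mul_assoc, hw, mul_one]
  have h2 : g ^ ((m - 1) * (m + 1)) = 1 := by
    have : (m - 1) * (m + 1) = m * m - 1 := by ring
    rw [this, zpow_sub, h1, zpow_one, mul_inv_cancel]
  have h3 : ((q : ℤ) ^ k) ∣ (m - 1) * (m + 1) := by
    have := orderOf_dvd_iff_zpow_eq_one.mpr h2
    rw [hg] at this
    exact_mod_cast this
  have hqp : Prime (q : ℤ) := Nat.prime_iff_prime_int.mp hq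
  by_cases hd : (q : ℤ) ∣ m - 1
  · have hnd : ¬ (q : ℤ) ∣ m + 1 := by
      intro hd2
      have h4 : (q : ℤ) ∣ 2 := by
        have := dvd_sub hd2 hd
        have h5 : m + 1 - (m - 1) = 2 := by ring
        rwa [h5] at this
      have h6 : q ∣ 2 := by exact_mod_cast h4
      have h7 := Nat.le_of_dvd (by norm_num) h6
      have h8 := hq.two_le
      omega
    have h4 := hqp.pow_dvd_of_dvd_mul_right k hnd h3
    left
    have h5 : g ^ (m - 1) = 1 := by
      apply orderOf_dvd_iff_zpow_eq_one.mp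
      rw [hg]
      exact_mod_cast h4
    rw [← hm]
    have : g ^ m = g ^ (m - 1) * g := by rw [← zpow_add_one]; ring_nf
    rw [this, h5, one_mul]
  · have h4 := hqp.pow_dvd_of_dvd_mul_left k hd h3
    right
    have h5 : g ^ (m + 1) = 1 := by
      apply orderOf_dvd_iff_zpow_eq_one.mp
      rw [hg]
      exact_mod_cast h4
    rw [← hm]
    rw [zpow_add_one] at h5
    exact eq_inv_of_mul_eq_one_left h5

/-- An element normalising a cyclic group of prime power order `q ^ k`, of order prime to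
`q * (q - 1)`, centralises it. -/
theorem cen_of_coprime_order {q k : ℕ} (hq : q.Prime) {g c : G} (hg : orderOf g = q ^ k)
    (hn : c * g * c⁻¹ ∈ Subgroup.zpowers g) (hfin : 0 < orderOf c)
    (hc1 : (orderOf c).Coprime q) (hc2 : (orderOf c).Coprime (q - 1)) :
    c * g * c⁻¹ = g := by
  rcases Nat.eq_zero_or_pos k with hk0 | hkpos
  · rw [hk0, pow_zero, orderOf_eq_one_iff] at hg
    rw [hg, mul_one, mul_inv_cancel]
  obtain ⟨m, hm⟩ := Subgroup.mem_zpowers_iff.mp hn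
  have key : ∀ j : ℕ, c ^ j * g * (c ^ j)⁻¹ = g ^ (m ^ j) := by
    intro j
    induction j with
    | zero => simp
    | succ j ih =>
      have h1 : c ^ (j + 1) * g * (c ^ (j + 1))⁻¹ = c * (c ^ j * g * (c ^ j)⁻¹) * c⁻¹ := by
        rw [pow_succ']; group
      rw [h1, ih, ← conj_zpow, ← hm, ← zpow_mul, pow_succ']
  have h1 : g ^ (m ^ orderOf c) = g ^ (1 : ℤ) := by
    rw [← key, pow_orderOf_eq_one, one_mul, inv_one, mul_one, zpow_one]
  have h2 : m ^ orderOf c ≡ 1 [ZMOD ((q ^ k : ℕ) : ℤ)] := by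
    have := zpow_eq_zpow_iff_modEq.mp h1
    rwa [hg] at this
  have h3 : ((m : ZMod (q ^ k))) ^ orderOf c = 1 := by
    have := (ZMod.intCast_eq_intCast_iff _ _ _).mpr h2
    push_cast at this
    exact this
  obtain ⟨u, hu⟩ : ∃ u : (ZMod (q ^ k))ˣ, (u : ZMod (q ^ k)) = (m : ZMod (q ^ k)) :=
    ⟨Units.ofPowEqOne _ _ h3 hfin.ne', rfl⟩
  have h4 : u ^ orderOf c = 1 := by
    apply Units.ext
    rw [Units.val_pow_eq_pow_val, hu, h3, Units.val_one]
  have h5 : u ^ (q ^ (k - 1) * (q - 1)) = 1 := by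
    rw [← Nat.totient_prime_pow hq hkpos]
    exact ZMod.pow_totient u
  have h6 : orderOf u ∣ orderOf c := orderOf_dvd_of_pow_eq_one h4
  have h7 : orderOf u ∣ q ^ (k - 1) * (q - 1) := orderOf_dvd_of_pow_eq_one h5
  have h8 : (orderOf c).Coprime (q ^ (k - 1) * (q - 1)) :=
    Nat.Coprime.mul_right (Nat.Coprime.pow_right _ hc1) hc2
  have h9 : orderOf u = 1 := Nat.eq_one_of_dvd_coprimes h8 h6 h7
  rw [orderOf_eq_one_iff] at h9
  have h10 : (m : ZMod (q ^ k)) = ((1 : ℤ) : ZMod (q ^ k)) := by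
    rw [← hu, h9, Units.val_one, Int.cast_one]
  have h11 : m ≡ 1 [ZMOD ((q ^ k : ℕ) : ℤ)] := (ZMod.intCast_eq_intCast_iff _ _ _).mp h10
  have h12 : g ^ m = g ^ (1 : ℤ) := by
    apply zpow_eq_zpow_iff_modEq.mpr
    rwa [hg]
  rw [← hm, h12, zpow_one]

theorem commute_of_two_pows {c g : G} {a b : ℕ} (hab : a.Coprime b)
    (ha : Commute (c ^ a) g) (hb : Commute (c ^ b) g) : Commute c g := by
  have h1 := Nat.gcd_eq_gcd_ab a b
  rw [hab.gcd_eq_one] at h1
  have h2 : c = (c ^ a) ^ (a.gcdA b) * (c ^ b) ^ (a.gcdB b) := by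
    rw [← zpow_natCast, ← zpow_natCast, ← zpow_mul, ← zpow_mul, ← zpow_add, ← h1]
    simp
  rw [h2]
  exact (ha.zpow_left _).mul_left (hb.zpow_left _)

/-- Two Sylow subgroups of `G` lying in a subgroup `H` are conjugate under `H`. -/
theorem sylow_conj_in [Finite G] {q : ℕ} [Fact q.Prime] (H : Subgroup G) (P P' : Sylow q G)
    (h1 : (P : Subgroup G) ≤ H) (h2 : (P' : Subgroup G) ≤ H) :
    ∃ h ∈ H, ∀ y, y ∈ (P' : Subgroup G) ↔ h⁻¹ * y * h ∈ (P : Subgroup G) := by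
  obtain ⟨h, hh⟩ := MulAction.exists_smul_eq H (P.subtype h1) (P'.subtype h2)
  refine ⟨h, h.2, fun y => ?_⟩
  have hkey : ∀ (z : G) (hz : z ∈ H), z ∈ (P' : Subgroup G) ↔
      (h : G)⁻¹ * z * h ∈ (P : Subgroup G) := by
    intro z hz
    have e1 : z ∈ (P' : Subgroup G) ↔
        (⟨z, hz⟩ : H) ∈ ((P'.subtype h2 : Sylow q H) : Subgroup H) := by
      rw [Sylow.coe_subtype, Subgroup.mem_subgroupOf]
    rw [e1, ← hh, Sylow.coe_subgroup_smul, Subgroup.mem_pointwise_smul_iff_inv_smul_mem,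
      Sylow.coe_subtype, Subgroup.mem_subgroupOf]
    simp [MulAut.smul_def]
  constructor
  · intro hy
    exact (hkey y (h2 hy)).mp hy
  · intro hy
    have hyH : y ∈ H := by
      have h3 : (h : G)⁻¹ * y * h ∈ H := h1 hy
      have h4 : y = h * ((h : G)⁻¹ * y * h) * (h : G)⁻¹ := by group
      rw [h4]
      exact H.mul_mem (H.mul_mem h.2 h3) (H.inv_mem h.2)
    exact (hkey y hyH).mpr hy

/-- A finite commutative group with cyclic Sylow subgroups is cyclic. -/
theorem isCyclic_of_comm_of_sylow_cyclic {A : Type*} [Group A] [Finite A]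
    (hcomm : ∀ x y : A, x * y = y * x)
    (hsyl : ∀ (p : ℕ) [Fact p.Prime] (Q : Sylow p A), IsCyclic (Q : Subgroup A)) :
    IsCyclic A := by
  let _ : CommGroup A := { (inferInstance : Group A) with mul_comm := hcomm }
  apply IsCyclic.of_exponent_eq_card
  apply Nat.dvd_antisymm Group.exponent_dvd_nat_card
  have hexp : Monoid.exponent A ≠ 0 := Monoid.exponent_ne_zero_of_finite
  have hcard : Nat.card A ≠ 0 := Nat.card_pos.ne'
  apply (Nat.factorization_prime_le_iff_dvd hcard hexp).mp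
  intro p hp
  have : Fact p.Prime := ⟨hp⟩
  obtain ⟨Q⟩ : Nonempty (Sylow p A) := inferInstance
  have := hsyl p Q
  obtain ⟨g, hg⟩ := IsCyclic.exists_generator (α := (Q : Subgroup A))
  have h1 : orderOf g = Nat.card (Q : Subgroup A) := orderOf_eq_card_of_forall_mem_zpowers hg
  rw [Sylow.card_eq_multiplicity, ← Subgroup.orderOf_coe] at h1
  have h2 : p ^ (Nat.card A).factorization p ∣ Monoid.exponent A := by
    rw [← h1]
    exact Monoid.order_dvd_exponent _
  exact (hp.pow_dvd_iff_le_factorization hexp).mp h2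

end ZInvLemmas

/-- Abstract set-up for the involution argument: `H` of odd order, `S` a coset of `H` normalising
`H`, every element moving a nonidentity element of `H` into `H` lies in `H ∪ S`, Sylow subgroups
of `G` inside `H` are cyclic, elements of prime order of `H` lie in Sylow subgroups of `G`
inside `H`, and `G` has no normal `q`-complement for the primes `q` dividing the order of `H`. -/
structure ZInv {G : Type*} [Group G] (H : Subgroup G) (S : Set G) : Prop where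
  odd : Odd (Nat.card H)
  S_mul_H : ∀ s ∈ S, ∀ h ∈ H, s * h ∈ S
  S_mul_S : ∀ s ∈ S, ∀ s' ∈ S, s * s' ∈ H
  S_inv : ∀ s ∈ S, s⁻¹ ∈ S
  norm : ∀ y : G, ∀ t ∈ H, t ≠ 1 → y * t * y⁻¹ ∈ H → y ∈ H ∨ y ∈ S
  cyc : ∀ (q : ℕ) [Fact q.Prime] (P : Sylow q G), (P : Subgroup G) ≤ H →
    IsCyclic (P : Subgroup G)
  syl : ∀ (q : ℕ) [Fact q.Prime] (x : G), x ∈ H → orderOf x = q →
    ∃ P : Sylow q G, x ∈ (P : Subgroup G) ∧ (P : Subgroup G) ≤ H
  nil : ∀ q : ℕ, q.Prime → q ∣ Nat.card H →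
    ¬ ∃ N : Subgroup G, N.Normal ∧ N.index = q ^ (Nat.card G).factorization q

namespace ZInv

variable {G : Type*} [Group G] {H : Subgroup G} {S : Set G}

theorem conj_mem (Z : ZInv H S) {s h : G} (hs : s ∈ S) (hh : h ∈ H) : s * h * s⁻¹ ∈ H :=
  Z.S_mul_S _ (Z.S_mul_H s hs h hh) _ (Z.S_inv s hs)

theorem H_mul_S (Z : ZInv H S) {s h : G} (hh : h ∈ H) (hs : s ∈ S) : h * s ∈ S := by
  have h1 : s⁻¹ * h⁻¹ ∈ S := Z.S_mul_H _ (Z.S_inv s hs) _ (H.inv_mem hh)
  have h2 := Z.S_inv _ h1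
  rwa [mul_inv_rev, inv_inv, inv_inv] at h2

theorem orderOf_dvd (_Z : ZInv H S) {h : G} (hh : h ∈ H) : orderOf h ∣ Nat.card H := by
  have := orderOf_dvd_natCard (⟨h, hh⟩ : H)
  rwa [Subgroup.orderOf_mk] at this

theorem odd_orderOf (Z : ZInv H S) {h : G} (hh : h ∈ H) : Odd (orderOf h) :=
  Odd.of_dvd_nat Z.odd (Z.orderOf_dvd hh)

/-- No nonidentity element of `H` is both centralised and inverted by elements of `S`. -/
theorem inv_cen_eq_one (Z : ZInv H S) {x s w : G} (hx : x ∈ H) (hs : s ∈ S) (hw : w ∈ S)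
    (hsx : s * x * s⁻¹ = x) (hwx : w * x * w⁻¹ = x⁻¹) : x = 1 := by
  have hc : s⁻¹ * w ∈ H := Z.S_mul_S _ (Z.S_inv s hs) _ hw
  have hsx' : s⁻¹ * x⁻¹ * s = x⁻¹ := by
    have h1 : s⁻¹ * x * s = x := by
      calc s⁻¹ * x * s = s⁻¹ * (s * x * s⁻¹) * s := by rw [hsx]
        _ = x := by group
    calc s⁻¹ * x⁻¹ * s = (s⁻¹ * x * s)⁻¹ := by group
      _ = x⁻¹ := by rw [h1]
  have hcx : (s⁻¹ * w) * x * (s⁻¹ * w)⁻¹ = x⁻¹ := by
    calc (s⁻¹ * w) * x * (s⁻¹ * w)⁻¹ = s⁻¹ * (w * x * w⁻¹) * s := by group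
      _ = x⁻¹ := by rw [hwx, hsx']
  obtain ⟨c, hcdef⟩ : ∃ c, c = s⁻¹ * w := ⟨_, rfl⟩
  rw [← hcdef] at hc hcx
  have hcc : Commute (c * c) x := by
    show c * c * x = x * (c * c)
    calc c * c * x = c * (c * x * c⁻¹) * c⁻¹ * (c * c) := by group
      _ = c * x⁻¹ * c⁻¹ * (c * c) := by rw [hcx]
      _ = (c * x * c⁻¹)⁻¹ * (c * c) := by group
      _ = x * (c * c) := by rw [hcx, inv_inv]
  have hcomm : Commute c x := commute_of_sq_commute (Z.odd_orderOf hc) hcc
  have hxx : x = x⁻¹ := by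
    calc x = c * x * c⁻¹ := by rw [hcomm.eq]; group
      _ = x⁻¹ := hcx
  have hx2 : x ^ 2 = 1 := by
    rw [pow_two]
    calc x * x = x * x⁻¹ := by rw [← hxx]
      _ = 1 := mul_inv_cancel x
  have h2 : orderOf x ∣ 2 := orderOf_dvd_of_pow_eq_one hx2
  have h3 : orderOf x = 1 := by
    rcases (Nat.dvd_prime Nat.prime_two).mp h2 with h | h
    · exact h
    · exfalso
      have := Z.odd_orderOf hx
      rw [h] at this
      exact absurd this (by decide)
  exact orderOf_eq_one_iff.mp h3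

/-- Every element of `S` has a power of square one in `S`. -/
theorem exists_invol (Z : ZInv H S) {s : G} (hs : s ∈ S) :
    ∃ w ∈ S, w * w = 1 ∧ w ∈ Subgroup.zpowers s := by
  have hss : s * s ∈ H := Z.S_mul_S s hs s hs
  obtain ⟨u, hu⟩ := Z.odd_orderOf hss
  refine ⟨s * (s * s) ^ u, Z.S_mul_H s hs _ (H.pow_mem hss u), ?_, ?_⟩
  · have h0 : s * (s * s) ^ u = s ^ (2 * u + 1) := by
      rw [← pow_two, ← pow_mul, ← pow_succ']
    have h1 : s * (s * s) ^ u * (s * (s * s) ^ u) = (s * s) ^ (2 * u + 1) := by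
      rw [h0, ← pow_add, ← pow_two, ← pow_mul]
      congr 1
      ring
    rw [h1, ← hu, pow_orderOf_eq_one]
  · exact Subgroup.mul_mem _ (Subgroup.mem_zpowers s)
      (Subgroup.pow_mem _ (Subgroup.mul_mem _ (Subgroup.mem_zpowers s) (Subgroup.mem_zpowers s)) u)

/-- Descent on primes: no element of prime order of `H` is centralised by an element of `S`. -/
theorem no_cen (Z : ZInv H S) [Finite G] : ∀ q : ℕ, q.Prime → ∀ x ∈ H, orderOf x = q →
    ∀ s ∈ S, s * x * s⁻¹ = x → False := by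
  intro q
  induction q using Nat.strong_induction_on with
  | _ q ih =>
  intro hq x hx hxq s hs hsx
  have hqF : Fact q.Prime := ⟨hq⟩
  have hq2 : q ≠ 2 := by
    intro h
    have := Z.odd_orderOf hx
    rw [hxq, h] at this
    exact absurd this (by decide)
  have hx1 : x ≠ 1 := by
    intro h
    rw [h, orderOf_one] at hxq
    exact hq.one_lt.ne hxq
  obtain ⟨P, hxP, hPH⟩ := Z.syl q x hx hxq
  have hPc := Z.cyc q P hPH
  obtain ⟨⟨g, hgP⟩, hgen⟩ := IsCyclic.exists_generator (α := (P : Subgroup G))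
  have hgen' : ∀ y ∈ (P : Subgroup G), y ∈ Subgroup.zpowers g := by
    intro y hy
    obtain ⟨n, hn⟩ := Subgroup.mem_zpowers_iff.mp (hgen ⟨y, hy⟩)
    refine Subgroup.mem_zpowers_iff.mpr ⟨n, ?_⟩
    have := congrArg Subtype.val hn
    simpa using this
  obtain ⟨k, hk⟩ : ∃ k, orderOf g = q ^ k := by
    obtain ⟨k, hk⟩ := P.isPGroup' ⟨g, hgP⟩
    have h1 : g ^ q ^ k = 1 := by
      have := congrArg Subtype.val hk
      simpa using this
    obtain ⟨i, -, hi⟩ := (Nat.dvd_prime_pow hq).mp (orderOf_dvd_of_pow_eq_one h1)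
    exact ⟨i, hi⟩
  -- Frattini argument: an element of `S` normalising `P`
  obtain ⟨s₁, hs₁S, hs₁N⟩ : ∃ s₁ ∈ S, s₁ ∈ Subgroup.normalizer ((P : Subgroup G) : Set G) := by
    have hmem : ∀ y, y ∈ ((s • P : Sylow q G) : Subgroup G) ↔ s⁻¹ * y * s ∈ (P : Subgroup G) := by
      intro y
      rw [Sylow.coe_subgroup_smul, Subgroup.mem_pointwise_smul_iff_inv_smul_mem]
      simp [MulAut.smul_def]
    have hP'H : ((s • P : Sylow q G) : Subgroup G) ≤ H := by
      intro y hy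
      have h1 : s⁻¹ * y * s ∈ H := hPH ((hmem y).mp hy)
      have h2 : y = s * (s⁻¹ * y * s) * s⁻¹ := by group
      rw [h2]
      exact Z.conj_mem hs h1
    obtain ⟨h, hhH, hh⟩ := sylow_conj_in H P (s • P) hPH hP'H
    refine ⟨h⁻¹ * s, Z.H_mul_S (H.inv_mem hhH) hs, ?_⟩
    rw [Subgroup.mem_normalizer_iff]
    intro z
    have e1 : z ∈ (P : Subgroup G) ↔ s * z * s⁻¹ ∈ ((s • P : Sylow q G) : Subgroup G) := by
      rw [hmem]
      have : s⁻¹ * (s * z * s⁻¹) * s = z := by group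
      rw [this]
    rw [e1, hh]
    have : h⁻¹ * (s * z * s⁻¹) * h = h⁻¹ * s * z * (h⁻¹ * s)⁻¹ := by group
    rw [this]
  obtain ⟨w, hwS, hw2, hwz⟩ := Z.exists_invol hs₁S
  have hwN : w ∈ Subgroup.normalizer ((P : Subgroup G) : Set G) :=
    (Subgroup.zpowers_le.mpr hs₁N) hwz
  have hwinv : w⁻¹ = w := inv_eq_of_mul_eq_one_right hw2
  have hwg : w * g * w⁻¹ = g := by
    have hmem : w * g * w⁻¹ ∈ Subgroup.zpowers g :=
      hgen' _ ((Subgroup.mem_normalizer_iff.mp hwN g).mp hgP)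
    rcases invol_cyclic_dichotomy hq hq2 hk hw2 hmem with h | h
    · exact h
    · exfalso
      obtain ⟨n, hn⟩ := Subgroup.mem_zpowers_iff.mp (hgen' x hxP)
      have hwx : w * x * w⁻¹ = x⁻¹ := by rw [← hn, ← conj_zpow, h, inv_zpow]
      exact hx1 (Z.inv_cen_eq_one hx hs hwS hsx hwx)
  have hwP : ∀ y ∈ (P : Subgroup G), w * y * w⁻¹ = y := by
    intro y hy
    obtain ⟨n, rfl⟩ := Subgroup.mem_zpowers_iff.mp (hgen' y hy)
    rw [← conj_zpow, hwg]
  -- elements of `H ∩ N(P)` centralised by `w` centralise `P`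
  have hC : ∀ c ∈ H, c ∈ Subgroup.normalizer ((P : Subgroup G) : Set G) → w * c * w⁻¹ = c →
      Commute c g := by
    intro c hcH hcN hcw
    have he0 : orderOf c ≠ 0 := (orderOf_pos c).ne'
    obtain ⟨j, e', hqe', he⟩ := Nat.exists_eq_pow_mul_and_not_dvd he0 q hq.ne_one
    have h1 : Commute (c ^ e') g := by
      have hp : IsPGroup q (Subgroup.zpowers (c ^ e')) := by
        have h2 : (c ^ e') ^ (q ^ j) = 1 := by
          rw [← pow_mul, mul_comm, ← he, pow_orderOf_eq_one]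
        obtain ⟨i, -, hi⟩ := (Nat.dvd_prime_pow hq).mp (orderOf_dvd_of_pow_eq_one h2)
        exact IsPGroup.of_card (n := i) (by rw [Nat.card_zpowers, hi])
      have hmem : c ^ e' ∈ Subgroup.zpowers (c ^ e') ⊓
          Subgroup.normalizer ((P : Subgroup G) : Set G) :=
        ⟨Subgroup.mem_zpowers _, Subgroup.pow_mem _ hcN e'⟩
      have hmem' : c ^ e' ∈ Subgroup.zpowers (c ^ e') ⊓ (P : Subgroup G) := by
        rw [← hp.inf_normalizer_sylow P]
        exact hmem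
      obtain ⟨n, hn⟩ := Subgroup.mem_zpowers_iff.mp (hgen' _ hmem'.2)
      rw [← hn]
      exact (Commute.refl g).zpow_left n
    have h2 : Commute (c ^ (q ^ j)) g := by
      have hc2e : (c ^ (q ^ j)) ^ e' = 1 := by rw [← pow_mul, ← he, pow_orderOf_eq_one]
      have hdvd : orderOf (c ^ (q ^ j)) ∣ e' := orderOf_dvd_of_pow_eq_one hc2e
      have hcop1 : (orderOf (c ^ (q ^ j))).Coprime q :=
        ((Nat.Prime.coprime_iff_not_dvd hq).mpr (fun h => hqe' (h.trans hdvd))).symm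
      have hcop2 : (orderOf (c ^ (q ^ j))).Coprime (q - 1) := by
        apply Nat.coprime_of_dvd
        intro r hr hrd hrq
        have hrlt : r < q := by
          have h3 := Nat.le_of_dvd (by have := hq.two_le; omega) hrq
          have := hq.two_le
          omega
        have hx' := orderOf_pow_orderOf_div (x := c ^ (q ^ j)) (orderOf_pos _).ne' hrd
        refine ih r hrlt hr _ ?_ hx' w hwS ?_
        · exact H.pow_mem (H.pow_mem hcH _) _
        · rw [← conj_pow, ← conj_pow, hcw]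
      have hnorm : (c ^ (q ^ j)) * g * (c ^ (q ^ j))⁻¹ ∈ Subgroup.zpowers g :=
        hgen' _ ((Subgroup.mem_normalizer_iff.mp (Subgroup.pow_mem _ hcN _) g).mp hgP)
      have h3 := cen_of_coprime_order hq hk hnorm (orderOf_pos _) hcop1 hcop2
      show c ^ (q ^ j) * g = g * c ^ (q ^ j)
      calc c ^ (q ^ j) * g = (c ^ (q ^ j) * g * (c ^ (q ^ j))⁻¹) * c ^ (q ^ j) := by group
        _ = g * c ^ (q ^ j) := by rw [h3]
    have hcop : e'.Coprime (q ^ j) :=
      Nat.Coprime.pow_right j ((Nat.Prime.coprime_iff_not_dvd hq).mpr hqe').symm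
    exact commute_of_two_pows hcop h1 h2
  -- all of `H ∩ N(P)` centralises `P`
  have hmain : ∀ y ∈ H, y ∈ Subgroup.normalizer ((P : Subgroup G) : Set G) → Commute y g := by
    intro y hyH hyN
    have hwyH : w * y * w⁻¹ ∈ H := Z.conj_mem hwS hyH
    obtain ⟨j, hj⟩ : ∃ j, j = y⁻¹ * (w * y * w⁻¹) := ⟨_, rfl⟩
    have hjH : j ∈ H := by rw [hj]; exact H.mul_mem (H.inv_mem hyH) hwyH
    have hjN : j ∈ Subgroup.normalizer ((P : Subgroup G) : Set G) := by
      rw [hj]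
      exact Subgroup.mul_mem _ (Subgroup.inv_mem _ hyN)
        (Subgroup.mul_mem _ (Subgroup.mul_mem _ hwN hyN) (Subgroup.inv_mem _ hwN))
    obtain ⟨u, hu⟩ := Z.odd_orderOf hjH
    have hwj : w * j * w⁻¹ = j⁻¹ := by
      rw [hj]
      calc w * (y⁻¹ * (w * y * w⁻¹)) * w⁻¹
          = (w * y⁻¹ * w⁻¹) * ((w * w) * y * (w * w)⁻¹) := by group
        _ = (w * y⁻¹ * w⁻¹) * y := by rw [hw2]; group
        _ = (y⁻¹ * (w * y * w⁻¹))⁻¹ := by group
    obtain ⟨i, hi⟩ : ∃ i, i = j ^ (u + 1) := ⟨_, rfl⟩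
    have hij : i * i = j := by
      rw [hi, ← pow_add]
      have h2 : u + 1 + (u + 1) = (2 * u + 1) + 1 := by ring
      rw [h2, pow_succ, ← hu, pow_orderOf_eq_one, one_mul]
    have hwi : w * i * w⁻¹ = i⁻¹ := by rw [hi, ← conj_pow, hwj, inv_pow]
    have hiH : i ∈ H := by rw [hi]; exact H.pow_mem hjH _
    have hiN : i ∈ Subgroup.normalizer ((P : Subgroup G) : Set G) := by
      rw [hi]; exact Subgroup.pow_mem _ hjN _
    have hig : Commute i g := by
      apply commute_of_sq_commute (Z.odd_orderOf hiH)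
      have hz : i * g * i⁻¹ ∈ (P : Subgroup G) := (Subgroup.mem_normalizer_iff.mp hiN g).mp hgP
      have h1 := hwP _ hz
      have h2 : w * (i * g * i⁻¹) * w⁻¹ = i⁻¹ * g * i := by
        calc w * (i * g * i⁻¹) * w⁻¹ = (w * i * w⁻¹) * (w * g * w⁻¹) * (w * i * w⁻¹)⁻¹ := by group
          _ = i⁻¹ * g * i := by rw [hwi, hwg, inv_inv]
      have h3 : i * g * i⁻¹ = i⁻¹ * g * i := h1.symm.trans h2
      show i * i * g = g * (i * i)
      calc i * i * g = i * (i * g * i⁻¹) * i := by group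
        _ = i * (i⁻¹ * g * i) * i := by rw [h3]
        _ = g * (i * i) := by group
    have hcw : w * (y * i) * w⁻¹ = y * i := by
      calc w * (y * i) * w⁻¹ = (w * y * w⁻¹) * (w * i * w⁻¹) := by group
        _ = (w * y * w⁻¹) * i⁻¹ := by rw [hwi]
        _ = y * (y⁻¹ * (w * y * w⁻¹)) * i⁻¹ := by group
        _ = y * (i * i) * i⁻¹ := by rw [← hj, hij]
        _ = y * i := by group
    have hcg : Commute (y * i) g :=
      hC (y * i) (H.mul_mem hyH hiH) (Subgroup.mul_mem _ hyN hiN) hcw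
    have hy : y = (y * i) * i⁻¹ := by group
    rw [hy]
    exact hcg.mul_left hig.inv_left
  have hNC : Subgroup.normalizer ((P : Subgroup G) : Set G) ≤
      Subgroup.centralizer ((P : Subgroup G) : Set G) := by
    intro y hy
    have hyx : y * x * y⁻¹ ∈ H := hPH ((Subgroup.mem_normalizer_iff.mp hy x).mp hxP)
    have hyg : Commute y g := by
      rcases Z.norm y x hx hx1 hyx with hyH | hyS
      · exact hmain y hyH hy
      · have h1 : y * w ∈ H := Z.S_mul_S y hyS w hwS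
        have h2 := hmain (y * w) h1 (Subgroup.mul_mem _ hy hwN)
        have h3 : Commute w g := by
          show w * g = g * w
          calc w * g = (w * g * w⁻¹) * w := by group
            _ = g * w := by rw [hwg]
        have h4 : y = (y * w) * w⁻¹ := by group
        rw [h4]
        exact h2.mul_left h3.inv_left
    rw [Subgroup.mem_centralizer_iff]
    intro z hz
    obtain ⟨n, rfl⟩ := Subgroup.mem_zpowers_iff.mp (hgen' z hz)
    exact ((hyg.zpow_right n).eq).symm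
  have hcomp := MonoidHom.ker_transferSylow_isComplement' P hNC
  refine Z.nil q hq ?_ ⟨(MonoidHom.transferSylow P hNC).ker, inferInstance, ?_⟩
  · rw [← hxq]
    exact Z.orderOf_dvd hx
  · rw [hcomp.symm.index_eq_card, Sylow.card_eq_multiplicity]

/-- Every element of `S` inverts `H`. -/
theorem inverts (Z : ZInv H S) [Finite G] : ∀ s ∈ S, ∀ h ∈ H, s * h * s⁻¹ = h⁻¹ := by
  intro s hs
  obtain ⟨w, hwS, hw2, -⟩ := Z.exists_invol hs
  have hwinv : w⁻¹ = w := inv_eq_of_mul_eq_one_right hw2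
  have hC1 : ∀ c ∈ H, w * c * w⁻¹ = c → c = 1 := by
    intro c hc hwc
    by_contra hc1
    have h1 : orderOf c ≠ 1 := by rwa [Ne, orderOf_eq_one_iff]
    obtain ⟨q, hq, hqd⟩ := Nat.exists_prime_and_dvd h1
    exact Z.no_cen q hq (c ^ (orderOf c / q)) (H.pow_mem hc _)
      (orderOf_pow_orderOf_div (orderOf_pos c).ne' hqd) w hwS (by rw [← conj_pow, hwc])
  have hmem : ∀ p : G, p ∈ H → p⁻¹ * (w * p * w⁻¹) ∈ H := fun p hp =>
    H.mul_mem (H.inv_mem hp) (Z.conj_mem hwS hp)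
  have hφ : ∀ h ∈ H, ∃ p ∈ H, p⁻¹ * (w * p * w⁻¹) = h := by
    obtain ⟨f, hf⟩ : ∃ f : H → H, ∀ p, (f p : G) = (p : G)⁻¹ * (w * p * w⁻¹) :=
      ⟨fun p => ⟨(p : G)⁻¹ * (w * p * w⁻¹), hmem p p.2⟩, fun p => rfl⟩
    have hinj : Function.Injective f := by
      rintro ⟨p, hp⟩ ⟨p', hp'⟩ h
      have h1 : p⁻¹ * (w * p * w⁻¹) = p'⁻¹ * (w * p' * w⁻¹) := by
        have := congrArg Subtype.val h
        rw [hf, hf] at this
        exact this
      have h2 : w * (p * p'⁻¹) * w⁻¹ = p * p'⁻¹ := by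
        calc w * (p * p'⁻¹) * w⁻¹ = p * (p⁻¹ * (w * p * w⁻¹)) * (w * p'⁻¹ * w⁻¹) := by group
          _ = p * (p'⁻¹ * (w * p' * w⁻¹)) * (w * p'⁻¹ * w⁻¹) := by rw [h1]
          _ = p * p'⁻¹ := by group
      have h3 := hC1 _ (H.mul_mem hp (H.inv_mem hp')) h2
      exact Subtype.ext (mul_inv_eq_one.mp h3)
    have hsurj : Function.Surjective f := Finite.injective_iff_surjective.mp hinj
    intro h hh
    obtain ⟨p, hp⟩ := hsurj ⟨h, hh⟩
    refine ⟨p, p.2, ?_⟩
    rw [← hf, hp]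
  have hwH : ∀ h ∈ H, w * h * w⁻¹ = h⁻¹ := by
    intro h hh
    obtain ⟨p, hp, rfl⟩ := hφ h hh
    calc w * (p⁻¹ * (w * p * w⁻¹)) * w⁻¹
        = (w * p⁻¹ * w⁻¹) * ((w * w) * p * (w * w)⁻¹) := by group
      _ = (w * p⁻¹ * w⁻¹) * p := by rw [hw2]; group
      _ = (p⁻¹ * (w * p * w⁻¹))⁻¹ := by group
  have hab : ∀ h ∈ H, ∀ k ∈ H, h * k = k * h := by
    intro h hh k hk
    have h1 := hwH (h * k) (H.mul_mem hh hk)
    have h2 : w * (h * k) * w⁻¹ = h⁻¹ * k⁻¹ := by
      calc w * (h * k) * w⁻¹ = (w * h * w⁻¹) * (w * k * w⁻¹) := by group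
        _ = h⁻¹ * k⁻¹ := by rw [hwH h hh, hwH k hk]
    have h3 : (h * k)⁻¹ = (k * h)⁻¹ := by rw [← h1, h2]; group
    exact inv_injective h3
  intro h hh
  have hsw : s * w ∈ H := Z.S_mul_S s hs w hwS
  have h1 : w⁻¹ * h * w = h⁻¹ := by
    have := hwH h hh
    rw [hwinv] at this
    rw [hwinv]
    exact this
  calc s * h * s⁻¹ = (s * w) * (w⁻¹ * h * w) * (s * w)⁻¹ := by group
    _ = (s * w) * h⁻¹ * (s * w)⁻¹ := by rw [h1]
    _ = h⁻¹ * (s * w) * (s * w)⁻¹ := by rw [hab (s * w) hsw h⁻¹ (H.inv_mem hh)]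
    _ = h⁻¹ := by group

/-- `H` is commutative as soon as `S` is nonempty. -/
theorem comm (Z : ZInv H S) [Finite G] {s : G} (hs : s ∈ S) :
    ∀ h ∈ H, ∀ k ∈ H, h * k = k * h := by
  intro h hh k hk
  have hinv := Z.inverts s hs
  have h1 := hinv (h * k) (H.mul_mem hh hk)
  have h2 : s * (h * k) * s⁻¹ = h⁻¹ * k⁻¹ := by
    calc s * (h * k) * s⁻¹ = (s * h * s⁻¹) * (s * k * s⁻¹) := by group
      _ = h⁻¹ * k⁻¹ := by rw [hinv h hh, hinv k hk]
  have h3 : (h * k)⁻¹ = (k * h)⁻¹ := by rw [← h1, h2]; group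
  exact inv_injective h3

end ZInv

end Cfsg.Agent.Lib.Helper83
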