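import Mathlib
import Cfsg.Agent.S0035
import Cfsg.Agent.Lib.Helper1.FpfSylow
import Cfsg.Agent.Lib.Helper83.ZassInv

set_option autoImplicit false

open scoped Pointwise

namespace Cfsg.Agent.Lib.Helper83

section ZInv2

variable {G Ω : Type*} [Group G] [MulAction G Ω]

/-- In a doubly transitive group in which no nonidentity element fixes three points, with a
nontrivial two-point stabiliser `H` of odd order: the Sylow subgroups of `G` inside `H` are cyclic,
and `H` is cyclic as soon as it is commutative. -/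
theorem zass_sylow_cyclic [Finite G] {a b : Ω} (hab : a ≠ b)
    (h2 : MulAction.IsMultiplyPretransitive G Ω 2)
    (h3 : ∀ g : G, ∀ a b c : Ω, a ≠ b → b ≠ c → a ≠ c → g • a = a → g • b = b → g • c = c → g = 1)
    (hne : ∃ g : G, g ≠ 1 ∧ g • a = a ∧ g • b = b)
    (hc : ∃ c : Ω, c ≠ a ∧ c ≠ b)
    (hodd : Odd (Nat.card ↥(MulAction.stabilizer G a ⊓ MulAction.stabilizer G b))) :
    (∀ (q : ℕ) [Fact q.Prime] (P : Sylow q G),
      (P : Subgroup G) ≤ MulAction.stabilizer G a ⊓ MulAction.stabilizer G b →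
        IsCyclic (P : Subgroup G)) ∧
    ((∀ h ∈ MulAction.stabilizer G a ⊓ MulAction.stabilizer G b,
      ∀ k ∈ MulAction.stabilizer G a ⊓ MulAction.stabilizer G b, h * k = k * h) →
        IsCyclic ↥(MulAction.stabilizer G a ⊓ MulAction.stabilizer G b)) := by
  obtain ⟨Ga, hGa⟩ : ∃ Ga : Subgroup G, Ga = MulAction.stabilizer G a := ⟨_, rfl⟩
  obtain ⟨H, hH⟩ : ∃ H : Subgroup G,
    H = MulAction.stabilizer G a ⊓ MulAction.stabilizer G b := ⟨_, rfl⟩
  have hHle : H ≤ Ga := by rw [hH, hGa]; exact inf_le_left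
  have memH : ∀ g : G, g ∈ H ↔ g • a = a ∧ g • b = b := by
    intro g
    rw [hH, Subgroup.mem_inf, MulAction.mem_stabilizer_iff, MulAction.mem_stabilizer_iff]
  have memGa : ∀ g : G, g ∈ Ga ↔ g • a = a := by
    intro g
    rw [hGa, MulAction.mem_stabilizer_iff]
  have hFC : Cfsg.IsFrobeniusComplement (H.subgroupOf Ga) := by
    refine ⟨?_, ?_, ?_⟩
    · obtain ⟨g, hg1, hga, hgb⟩ := hne
      intro hbot
      have hmem : (⟨g, (memGa g).mpr hga⟩ : Ga) ∈ H.subgroupOf Ga :=
        Subgroup.mem_subgroupOf.mpr ((memH g).mpr ⟨hga, hgb⟩)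
      rw [hbot, Subgroup.mem_bot] at hmem
      exact hg1 (congrArg Subtype.val hmem)
    · obtain ⟨c, hca, hcb⟩ := hc
      obtain ⟨t, hta, htb⟩ := MulAction.is_two_pretransitive_iff.mp h2 hab (Ne.symm hca)
      intro htop
      have hmem : (⟨t, (memGa t).mpr hta⟩ : Ga) ∈ H.subgroupOf Ga := by
        rw [htop]; exact Subgroup.mem_top _
      have h4 := ((memH t).mp (Subgroup.mem_subgroupOf.mp hmem)).2
      exact hcb (by rw [← htb]; exact h4)
    · intro g hg
      rw [eq_bot_iff]
      rintro y ⟨hy1, hy2⟩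
      rw [Subgroup.mem_bot]
      have hyH := (memH _).mp (Subgroup.mem_subgroupOf.mp hy1)
      have hy2' : g⁻¹ * y * g ∈ H.subgroupOf Ga := by
        have h4 := Subgroup.mem_pointwise_smul_iff_inv_smul_mem.mp hy2
        simpa [MulAut.smul_def] using h4
      have hy2H := (memH _).mp (Subgroup.mem_subgroupOf.mp hy2')
      have hga : (g : G) • a = a := (memGa _).mp g.2
      have hgb : (g : G) • b ≠ b := by
        intro hgb
        apply hg
        exact Subgroup.mem_subgroupOf.mpr ((memH _).mpr ⟨hga, hgb⟩)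
      have hygb : (y : G) • ((g : G) • b) = (g : G) • b := by
        have h4 := hy2H.2
        simp only [Subgroup.coe_mul, Subgroup.coe_inv, mul_smul] at h4
        rw [inv_smul_eq_iff] at h4
        exact h4
      have hgba : (g : G) • b ≠ a := by
        intro h
        have h5 : (g : G) • b = (g : G) • a := by rw [hga]; exact h
        exact hab (smul_left_cancel _ h5).symm
      have h6 := h3 (y : G) a b ((g : G) • b) hab (Ne.symm hgb) (Ne.symm hgba) hyH.1 hyH.2 hygb
      exact Subtype.ext h6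
  obtain ⟨N, -, hNn, hNc⟩ := Cfsg.Agent.S0035.result (H.subgroupOf Ga) hFC
  have hN : N ≠ ⊥ := by
    intro h
    rw [h] at hNc
    exact hFC.2.1 (Subgroup.isComplement'_bot_left.mp hNc)
  have hfpf : ∀ h ∈ H.subgroupOf Ga, h ≠ 1 → ∀ k ∈ N, h * k = k * h → k = 1 := by
    intro h hh hh1 k hk hcomm
    by_contra hk1
    have hkH : k ∉ H.subgroupOf Ga := by
      intro hkH
      have h4 : k ∈ N ⊓ H.subgroupOf Ga := ⟨hk, hkH⟩
      rw [hNc.disjoint.eq_bot, Subgroup.mem_bot] at h4
      exact hk1 h4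
    have h1 := hFC.2.2 k hkH
    have h2' : h ∈ H.subgroupOf Ga ⊓ MulAut.conj k • H.subgroupOf Ga := by
      refine Subgroup.mem_inf.mpr ⟨hh, ?_⟩
      rw [Subgroup.mem_pointwise_smul_iff_inv_smul_mem]
      have h5 : (MulAut.conj k)⁻¹ • h = h := by
        simp only [MulAut.smul_def, MulAut.conj_inv_apply]
        rw [mul_assoc, hcomm, inv_mul_cancel_left]
      rw [h5]; exact hh
    rw [h1, Subgroup.mem_bot] at h2'
    exact hh1 h2'
  have hodd' : Odd (Nat.card (H.subgroupOf Ga)) := by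
    rw [Nat.card_congr (Subgroup.subgroupOfEquivOfLe hHle).toEquiv, hH]; exact hodd
  have hsyl : ∀ (q : ℕ) (_ : Fact q.Prime) (Q : Sylow q (H.subgroupOf Ga)),
      IsCyclic (Q : Subgroup (H.subgroupOf Ga)) := fun q _ Q =>
    Cfsg.Agent.Lib.Helper1.sylow_cyclic_of_fpf_odd N (H.subgroupOf Ga) hN hfpf hodd' q Q
  constructor
  · intro q hq P hPH
    obtain ⟨ι, hι⟩ : ∃ ι : ↥(H.subgroupOf Ga) →* G, ∀ y, ι y = ((y : Ga) : G) :=
      ⟨Ga.subtype.comp (H.subgroupOf Ga).subtype, fun y => rfl⟩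
    have hιinj : Function.Injective ι := by
      intro y z hyz
      rw [hι, hι] at hyz
      exact Subtype.ext (Subtype.ext hyz)
    have hp : IsPGroup q ((P : Subgroup G).comap ι) := P.isPGroup'.comap_of_injective ι hιinj
    obtain ⟨Q, hQ⟩ := hp.exists_le_sylow
    have hQc := hsyl q hq Q
    have hPc : IsCyclic ((P : Subgroup G).comap ι) :=
      isCyclic_of_injective (Subgroup.inclusion hQ) (Subgroup.inclusion_injective hQ)
    apply isCyclic_of_surjective (ι.subgroupComap (P : Subgroup G))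
    rintro ⟨y, hy⟩
    have hyH : y ∈ H := by rw [hH]; exact hPH hy
    refine ⟨⟨⟨⟨y, hHle hyH⟩, Subgroup.mem_subgroupOf.mpr hyH⟩, ?_⟩, ?_⟩
    · rw [Subgroup.mem_comap, hι]; exact hy
    · apply Subtype.ext
      exact hι _
  · intro hcomm
    have hcyc : IsCyclic (H.subgroupOf Ga) := by
      apply isCyclic_of_comm_of_sylow_cyclic
      · intro x y
        apply Subtype.ext
        apply Subtype.ext
        simp only [Subgroup.coe_mul]
        exact hcomm _ (by rw [← hH]; exact Subgroup.mem_subgroupOf.mp x.2) _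
          (by rw [← hH]; exact Subgroup.mem_subgroupOf.mp y.2)
      · intro p hp Q; exact hsyl p hp Q
    have h7 := (Subgroup.subgroupOfEquivOfLe hHle).isCyclic.mp hcyc
    subst hH
    exact h7

/-- The Zassenhaus set-up gives the abstract involution set-up `ZInv`. -/
theorem zass_zinv [Finite G] [Finite Ω] {a b : Ω} (hab : a ≠ b)
    (h2 : MulAction.IsMultiplyPretransitive G Ω 2)
    (h3 : ∀ g : G, ∀ a b c : Ω, a ≠ b → b ≠ c → a ≠ c → g • a = a → g • b = b → g • c = c → g = 1)
    (hne : ∃ g : G, g ≠ 1 ∧ g • a = a ∧ g • b = b)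
    (hc : ∃ c : Ω, c ≠ a ∧ c ≠ b)
    (hodd : Odd (Nat.card ↥(MulAction.stabilizer G a ⊓ MulAction.stabilizer G b)))
    (hnil : ∀ q : ℕ, q.Prime →
      q ∣ Nat.card ↥(MulAction.stabilizer G a ⊓ MulAction.stabilizer G b) →
      ¬ ∃ N : Subgroup G, N.Normal ∧ N.index = q ^ (Nat.card G).factorization q) :
    ZInv (MulAction.stabilizer G a ⊓ MulAction.stabilizer G b)
      {s : G | s • a = b ∧ s • b = a} := by
  obtain ⟨hcycS, -⟩ := zass_sylow_cyclic hab h2 h3 hne hc hodd
  obtain ⟨H, hH⟩ : ∃ H : Subgroup G,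
    H = MulAction.stabilizer G a ⊓ MulAction.stabilizer G b := ⟨_, rfl⟩
  have memH : ∀ g : G, g ∈ H ↔ g • a = a ∧ g • b = b := by
    intro g
    rw [hH, Subgroup.mem_inf, MulAction.mem_stabilizer_iff, MulAction.mem_stabilizer_iff]
  obtain ⟨S, hS⟩ : ∃ S : Set G, S = {s : G | s • a = b ∧ s • b = a} := ⟨_, rfl⟩
  have memS : ∀ s : G, s ∈ S ↔ s • a = b ∧ s • b = a := by
    intro s; rw [hS]; rfl
  rw [← hH, ← hS]
  refine ⟨by rw [hH]; exact hodd, ?_, ?_, ?_, ?_, ?_, ?_, ?_⟩
  · intro s hs h hh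
    obtain ⟨hsa, hsb⟩ := (memS s).mp hs
    obtain ⟨hha, hhb⟩ := (memH h).mp hh
    rw [memS, mul_smul, mul_smul, hha, hhb]
    exact ⟨hsa, hsb⟩
  · intro s hs s' hs'
    obtain ⟨hsa, hsb⟩ := (memS s).mp hs
    obtain ⟨hsa', hsb'⟩ := (memS s').mp hs'
    rw [memH, mul_smul, mul_smul, hsa', hsb']
    exact ⟨hsb, hsa⟩
  · intro s hs
    obtain ⟨hsa, hsb⟩ := (memS s).mp hs
    rw [memS, inv_smul_eq_iff, inv_smul_eq_iff]
    exact ⟨hsb.symm, hsa.symm⟩
  · intro y t ht ht1 hyt
    obtain ⟨hta, htb⟩ := (memH t).mp ht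
    obtain ⟨hya, hyb⟩ := (memH _).mp hyt
    have h1 : t • (y⁻¹ • a) = y⁻¹ • a := by
      rw [mul_smul, mul_smul] at hya
      rw [eq_inv_smul_iff]; exact hya
    have h2' : t • (y⁻¹ • b) = y⁻¹ • b := by
      rw [mul_smul, mul_smul] at hyb
      rw [eq_inv_smul_iff]; exact hyb
    have hA : y⁻¹ • a = a ∨ y⁻¹ • a = b := by
      by_contra hno
      push Not at hno
      exact ht1 (h3 t a b (y⁻¹ • a) hab (Ne.symm hno.2) (Ne.symm hno.1) hta htb h1)
    have hB : y⁻¹ • b = a ∨ y⁻¹ • b = b := by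
      by_contra hno
      push Not at hno
      exact ht1 (h3 t a b (y⁻¹ • b) hab (Ne.symm hno.2) (Ne.symm hno.1) hta htb h2')
    have hne' : y⁻¹ • a ≠ y⁻¹ • b := fun h => hab (smul_left_cancel _ h)
    rcases hA with hA | hA
    · rcases hB with hB | hB
      · exact absurd (hA.trans hB.symm) hne'
      · left
        rw [memH]
        exact ⟨(inv_smul_eq_iff.mp hA).symm, (inv_smul_eq_iff.mp hB).symm⟩
    · rcases hB with hB | hB
      · right
        rw [memS]
        exact ⟨(inv_smul_eq_iff.mp hB).symm, (inv_smul_eq_iff.mp hA).symm⟩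
      · exact absurd (hA.trans hB.symm) hne'
  · intro q hq P hP
    exact hcycS q P (by rw [← hH]; exact hP)
  · intro q hq x hx hxq
    have hqp : q.Prime := hq.out
    obtain ⟨hxa, hxb⟩ := (memH x).mp hx
    have hx1 : x ≠ 1 := by
      intro h
      rw [h, orderOf_one] at hxq
      exact hqp.one_lt.ne hxq
    have hq3 : 3 ≤ q := by
      have hd : q ∣ Nat.card H := by
        rw [← hxq]
        have h4 := orderOf_dvd_natCard (⟨x, hx⟩ : H)
        rwa [Subgroup.orderOf_mk] at h4
      have hoddq : Odd q := Odd.of_dvd_nat (by rw [hH]; exact hodd) hd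
      have h5 := hqp.two_le
      rcases hoddq with ⟨m, hm⟩
      omega
    have hpz : IsPGroup q (Subgroup.zpowers x) :=
      IsPGroup.of_card (n := 1) (by rw [Nat.card_zpowers, hxq, pow_one])
    obtain ⟨P, hP⟩ := hpz.exists_le_sylow
    have hxP : x ∈ (P : Subgroup G) := hP (Subgroup.mem_zpowers x)
    have hfx : MulAction.fixedPoints (Subgroup.zpowers x) Ω = {a, b} := by
      ext d
      constructor
      · intro hd
        have hxd : x • d = d := hd ⟨x, Subgroup.mem_zpowers x⟩
        by_contra hdab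
        rw [Set.mem_insert_iff, Set.mem_singleton_iff] at hdab
        push Not at hdab
        exact hx1 (h3 x a b d hab (fun h => hdab.2 h.symm) (fun h => hdab.1 h.symm) hxa hxb hxd)
      · intro hd
        have hmem : ∀ d : Ω, x • d = d → d ∈ MulAction.fixedPoints (Subgroup.zpowers x) Ω := by
          intro d hd
          rw [MulAction.mem_fixedPoints]
          rintro ⟨h, hh⟩
          have h4 : Subgroup.zpowers x ≤ MulAction.stabilizer G d :=
            (Subgroup.zpowers_le).mpr (MulAction.mem_stabilizer_iff.mpr hd)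
          exact MulAction.mem_stabilizer_iff.mp (h4 hh)
        rcases hd with rfl | hd
        · exact hmem _ hxa
        · rw [Set.mem_singleton_iff] at hd
          rw [hd]; exact hmem _ hxb
    have h1 := hpz.card_modEq_card_fixedPoints Ω
    rw [hfx] at h1
    have hc2 : Nat.card ({a, b} : Set Ω) = 2 := by
      rw [Nat.card_coe_set_eq, Set.ncard_pair hab]
    rw [hc2] at h1
    have h2' := P.isPGroup'.card_modEq_card_fixedPoints Ω
    have hsub : MulAction.fixedPoints (P : Subgroup G) Ω ⊆ {a, b} := by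
      intro d hd
      rw [← hfx]
      rintro ⟨y, hy⟩
      exact hd ⟨y, hP hy⟩
    have hle : Nat.card (MulAction.fixedPoints (P : Subgroup G) Ω) ≤ 2 := by
      rw [Nat.card_coe_set_eq, ← Set.ncard_pair hab]
      exact Set.ncard_le_ncard hsub (Set.toFinite _)
    have heq2 : Nat.card (MulAction.fixedPoints (P : Subgroup G) Ω) = 2 := by
      have h3' : Nat.card (MulAction.fixedPoints (P : Subgroup G) Ω) ≡ 2 [MOD q] :=
        h2'.symm.trans h1
      unfold Nat.ModEq at h3'
      rw [Nat.mod_eq_of_lt (by omega), Nat.mod_eq_of_lt (by omega)] at h3'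
      exact h3'
    have hfP : MulAction.fixedPoints (P : Subgroup G) Ω = {a, b} := by
      apply Set.eq_of_subset_of_ncard_le hsub
      rw [Set.ncard_pair hab, ← Nat.card_coe_set_eq, heq2]
    refine ⟨P, hxP, ?_⟩
    intro y hy
    rw [memH]
    have ha : a ∈ MulAction.fixedPoints (P : Subgroup G) Ω := by
      rw [hfP]; exact Set.mem_insert _ _
    have hb : b ∈ MulAction.fixedPoints (P : Subgroup G) Ω := by
      rw [hfP]; exact Set.mem_insert_of_mem _ rfl
    exact ⟨ha ⟨y, hy⟩, hb ⟨y, hy⟩⟩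
  · intro q hq hqd
    exact hnil q hq (by rw [← hH]; exact hqd)

end ZInv2

end Cfsg.Agent.Lib.Helper83
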