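import Mathlib
import Cfsg.Agent.Lib.Helper58.IrredField

set_option autoImplicit false

namespace Cfsg.Agent.Lib.Helper83

open Cfsg.Agent.Lib.Helper58.IrredField

/-- A finite group of automorphisms of a field of order `2 ^ d` fixing only `0` and `1` has
order `d`. -/
theorem aut_card_eq_of_fixed {F : Type*} [Field F] [Finite F] (d : ℕ)
    (hcard : Nat.card F = 2 ^ d) (S : Subgroup (RingAut F))
    (hfix : ∀ x : F, (∀ s ∈ S, s x = x) → x = 0 ∨ x = 1) : Nat.card S = d := by
  classical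
  have hfinR : Finite (RingAut F) := Finite.of_injective (fun f : RingAut F => (f : F → F))
    (fun f g h => RingEquiv.ext (fun x => congrFun h x))
  let _ : Fintype S := Fintype.ofFinite S
  have h1 := FixedPoints.finrank_eq_card S F
  have h2 := Module.natCard_eq_pow_finrank (K := FixedPoints.subfield S F) (V := F)
  have hfixed : ∀ x : FixedPoints.subfield S F, x = 0 ∨ x = 1 := by
    intro x
    have hx : ∀ s ∈ S, s (x : F) = x := by
      intro s hs
      exact x.2 ⟨s, hs⟩
    rcases hfix (x : F) hx with h | h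
    · left; exact Subtype.ext h
    · right; exact Subtype.ext h
  have h3 : Nat.card (FixedPoints.subfield S F) = 2 := by
    rw [Nat.card_eq_two_iff]
    refine ⟨0, 1, zero_ne_one, ?_⟩
    ext x
    simp only [Set.mem_insert_iff, Set.mem_singleton_iff, Set.mem_univ, iff_true]
    exact hfixed x
  rw [h1, hcard, h3] at h2
  have h4 := Nat.pow_right_injective (le_refl 2) h2
  rw [Nat.card_eq_fintype_card]
  exact h4.symm

section FieldFixAdd

variable {V : Type*} [AddCommGroup V]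

/-- Let `Γ` act faithfully on a group `V` of order `2 ^ d`, let the powers of `t ∈ Γ` be
transitive on the nonzero elements, `Γ` normalise `⟨t⟩`, and `Δ ≤ Γ` be a subgroup meeting the
centraliser of `t` trivially such that no nonidentity power of `t` is centralised by `Δ`.
Then `Δ` has order `d`. -/
theorem card_eq_of_trans [Finite V] {Γ : Type*} [Group Γ] [Finite Γ] (d : ℕ)
    (hcard : Nat.card V = 2 ^ d) (_hd : 0 < d)
    (ρ : Γ →* AddMonoid.End V) (hinj : Function.Injective ρ) (t : Γ)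
    (v₀ : V) (hv₀ : v₀ ≠ 0) (htrans : ∀ w : V, w ≠ 0 → ∃ k : ℕ, ρ (t ^ k) v₀ = w)
    (hnorm : ∀ h : Γ, ∃ k : ℕ, h * t * h⁻¹ = t ^ k)
    (Δ : Subgroup Γ) (hΔ : ∀ x ∈ Δ, x * t = t * x → x = 1)
    (hΔ' : ∀ k : ℕ, (∀ x ∈ Δ, x * t ^ k = t ^ k * x) → t ^ k = 1) :
    Nat.card Δ = d := by
  classical
  have hV : Nontrivial V := ⟨⟨v₀, 0, hv₀⟩⟩
  have hpow : ∀ (k : ℕ) (W : AddSubgroup V), (∀ x ∈ W, ρ t x ∈ W) → ∀ x ∈ W, ρ (t ^ k) x ∈ W := by
    intro k W hW
    induction k with
    | zero => intro x hx; rw [pow_zero, map_one]; exact hx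
    | succ k ih =>
      intro x hx
      rw [pow_succ', map_mul]
      exact hW _ (ih x hx)
  have hirr : ∀ W : AddSubgroup V, (∀ x ∈ W, ρ t x ∈ W) → W = ⊥ ∨ W = ⊤ := by
    intro W hW
    by_cases hbot : W = ⊥
    · exact Or.inl hbot
    right
    rw [eq_top_iff]
    intro w _
    by_cases hw : w = 0
    · rw [hw]; exact W.zero_mem
    obtain ⟨w₀, hw₀W, hw₀⟩ : ∃ w₀ ∈ W, w₀ ≠ 0 := by
      by_contra hno
      push Not at hno
      apply hbot
      rw [eq_bot_iff]
      intro x hx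
      rw [AddSubgroup.mem_bot]
      exact hno x hx
    obtain ⟨k, hk⟩ := htrans w hw
    obtain ⟨k₀, hk₀⟩ := htrans w₀ hw₀
    have ho : t ^ (orderOf t * k₀) = 1 := by rw [pow_mul, pow_orderOf_eq_one, one_pow]
    have hopos : 0 < orderOf t := orderOf_pos t
    have h1 : ρ (t ^ (k + (orderOf t - 1) * k₀)) w₀ = w := by
      rw [← hk₀]
      have h2 : (ρ (t ^ (k + (orderOf t - 1) * k₀))) ((ρ (t ^ k₀)) v₀) =
          (ρ (t ^ (k + (orderOf t - 1) * k₀)) * ρ (t ^ k₀)) v₀ := rfl
      rw [h2, ← map_mul, ← pow_add]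
      have h3 : k + (orderOf t - 1) * k₀ + k₀ = k + orderOf t * k₀ := by
        have h4 : (orderOf t - 1) * k₀ + k₀ = orderOf t * k₀ := by
          have h5 : orderOf t = (orderOf t - 1) + 1 := by omega
          nth_rewrite 2 [h5]
          ring
        omega
      rw [h3, pow_add, ho, mul_one, hk]
    rw [← h1]
    exact hpow _ W hW w₀ hw₀W
  have hdom := isDomain_E (ρ t) hirr
  have hcE : Nat.card (E (ρ t)) = 2 ^ d := by rw [card_E (ρ t) hirr, hcard]
  have hfinE : Finite (E (ρ t)) :=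
    Nat.finite_of_card_ne_zero (by rw [hcE]; exact (pow_pos (by norm_num) d).ne')
  have hinv1 : ∀ h : Γ, ρ h⁻¹ * ρ h = 1 := fun h => by
    rw [← map_mul, inv_mul_cancel, map_one]
  have hinv2 : ∀ h : Γ, ρ h * ρ h⁻¹ = 1 := fun h => by
    rw [← map_mul, mul_inv_cancel, map_one]
  have hmulc : ∀ (h : Γ) (a b : AddMonoid.End V),
      ρ h * (a * b) * ρ h⁻¹ = (ρ h * a * ρ h⁻¹) * (ρ h * b * ρ h⁻¹) := by
    intro h a b
    calc ρ h * (a * b) * ρ h⁻¹ = ρ h * a * 1 * b * ρ h⁻¹ := by simp only [mul_assoc, one_mul]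
      _ = ρ h * a * (ρ h⁻¹ * ρ h) * b * ρ h⁻¹ := by rw [hinv1]
      _ = _ := by simp only [mul_assoc]
  have hconj : ∀ (h : Γ) (x : AddMonoid.End V), x ∈ E (ρ t) → ρ h * x * ρ h⁻¹ ∈ E (ρ t) := by
    intro h x hx
    induction hx using Subring.closure_induction with
    | mem y hy =>
      rw [Set.mem_singleton_iff] at hy
      subst hy
      obtain ⟨k, hk⟩ := hnorm h
      have h1 : ρ h * ρ t * ρ h⁻¹ = ρ t ^ k := by
        rw [← map_mul, ← map_mul, hk, map_pow]
      rw [h1]
      exact pow_mem (Subring.subset_closure (Set.mem_singleton _)) k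
    | zero => rw [mul_zero, zero_mul]; exact zero_mem _
    | one => rw [mul_one, hinv2]; exact one_mem _
    | add a b ha hb iha ihb => rw [mul_add, add_mul]; exact add_mem iha ihb
    | neg a ha iha => rw [mul_neg, neg_mul]; exact neg_mem iha
    | mul a b ha hb iha ihb => rw [hmulc]; exact mul_mem iha ihb
  let κ : Γ →* RingAut (E (ρ t)) :=
    { toFun := fun h =>
        { toFun := fun e => ⟨ρ h * e.1 * ρ h⁻¹, hconj h e.1 e.2⟩
          invFun := fun e => ⟨ρ h⁻¹ * e.1 * ρ h, by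
            have := hconj h⁻¹ e.1 e.2
            rwa [inv_inv] at this⟩
          left_inv := fun e => Subtype.ext (by
            show ρ h⁻¹ * (ρ h * e.1 * ρ h⁻¹) * ρ h = e.1
            calc ρ h⁻¹ * (ρ h * e.1 * ρ h⁻¹) * ρ h = (ρ h⁻¹ * ρ h) * e.1 * (ρ h⁻¹ * ρ h) := by
                  simp only [mul_assoc]
              _ = e.1 := by rw [hinv1, one_mul, mul_one])
          right_inv := fun e => Subtype.ext (by
            show ρ h * (ρ h⁻¹ * e.1 * ρ h) * ρ h⁻¹ = e.1
            calc ρ h * (ρ h⁻¹ * e.1 * ρ h) * ρ h⁻¹ = (ρ h * ρ h⁻¹) * e.1 * (ρ h * ρ h⁻¹) := by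
                  simp only [mul_assoc]
              _ = e.1 := by rw [hinv2, one_mul, mul_one])
          map_mul' := fun a b => Subtype.ext (hmulc h a.1 b.1)
          map_add' := fun a b => Subtype.ext (by
            show ρ h * (a.1 + b.1) * ρ h⁻¹ = ρ h * a.1 * ρ h⁻¹ + ρ h * b.1 * ρ h⁻¹
            rw [mul_add, add_mul]) }
      map_one' := by
        apply RingEquiv.ext
        intro e
        apply Subtype.ext
        show ρ 1 * e.1 * ρ 1⁻¹ = e.1
        rw [inv_one, map_one, one_mul, mul_one]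
      map_mul' := fun g h => by
        apply RingEquiv.ext
        intro e
        apply Subtype.ext
        show ρ (g * h) * e.1 * ρ (g * h)⁻¹ = ρ g * (ρ h * e.1 * ρ h⁻¹) * ρ g⁻¹
        rw [mul_inv_rev, map_mul, map_mul]
        simp only [mul_assoc] }
  have hκval : ∀ (h : Γ) (e : E (ρ t)), ((κ h e : E (ρ t)) : AddMonoid.End V) =
      ρ h * e.1 * ρ h⁻¹ := fun h e => rfl
  have hκinj : Function.Injective (κ.comp Δ.subtype) := by
    rw [injective_iff_map_eq_one]
    intro x hx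
    have hx' : κ (x : Γ) = 1 := hx
    have h1 : κ (x : Γ) (gen (ρ t)) = gen (ρ t) := by rw [hx']; rfl
    have h2 : ρ (x : Γ) * ρ t * ρ (x : Γ)⁻¹ = ρ t := congrArg Subtype.val h1
    rw [← map_mul, ← map_mul] at h2
    have h3 := hinj h2
    have h4 : (x : Γ) * t = t * x := by
      calc (x : Γ) * t = x * t * (x : Γ)⁻¹ * x := by group
        _ = t * x := by rw [h3]
    exact Subtype.ext (hΔ x x.2 h4)
  -- the nonzero elements of the field are the images of the powers of `t`
  have hunits : ∀ e : E (ρ t), e ≠ 0 → ∃ k : ℕ, (e : AddMonoid.End V) = ρ (t ^ k) := by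
    intro e he
    have hev : (e : AddMonoid.End V) v₀ ≠ 0 := fun h => he (eq_zero_of_apply (ρ t) hirr e hv₀ h)
    obtain ⟨k, hk⟩ := htrans _ hev
    refine ⟨k, ?_⟩
    have h1 : ((e - gen (ρ t) ^ k : E (ρ t)) : AddMonoid.End V) v₀ = 0 := by
      show (e : AddMonoid.End V) v₀ - ((gen (ρ t) ^ k : E (ρ t)) : AddMonoid.End V) v₀ = 0
      have h2 : ((gen (ρ t) ^ k : E (ρ t)) : AddMonoid.End V) = ρ (t ^ k) := by
        rw [map_pow]; rfl
      rw [h2, hk, sub_self]
    have h3 := eq_zero_of_apply (ρ t) hirr _ hv₀ h1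
    have h4 : e = gen (ρ t) ^ k := sub_eq_zero.mp h3
    rw [h4, map_pow]
    rfl
  have hfix : ∀ x : E (ρ t), (∀ s ∈ (κ.comp Δ.subtype).range, s x = x) → x = 0 ∨ x = 1 := by
    intro x hx
    by_cases hx0 : x = 0
    · left; exact hx0
    right
    obtain ⟨k, hk⟩ := hunits x hx0
    have hcomm : ∀ y ∈ Δ, y * t ^ k = t ^ k * y := by
      intro y hy
      have h4 : κ y x = x := hx (κ y) ⟨⟨y, hy⟩, rfl⟩
      have h5 : ρ y * ρ (t ^ k) * ρ y⁻¹ = ρ (t ^ k) := by
        have := congrArg Subtype.val h4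
        rw [hκval, hk] at this
        exact this
      rw [← map_mul, ← map_mul] at h5
      have h6 := hinj h5
      calc y * t ^ k = y * t ^ k * y⁻¹ * y := by group
        _ = t ^ k * y := by rw [h6]
    have h7 := hΔ' k hcomm
    apply Subtype.ext
    rw [hk, h7, map_one]
    rfl
  have hcS : Nat.card (κ.comp Δ.subtype).range = Nat.card Δ :=
    (Nat.card_congr (MonoidHom.ofInjective hκinj).toEquiv).symm
  let _ : Fintype (E (ρ t)) := Fintype.ofFinite _
  rw [← hcS]
  exact @aut_card_eq_of_fixed (E (ρ t)) (Fintype.fieldOfDomain (E (ρ t))) _ d hcE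
    (κ.comp Δ.subtype).range hfix

end FieldFixAdd

section FieldFixMul

variable {A : Type*} [Group A]

/-- Multiplicative version of `card_eq_of_trans`, for a group `A` of exponent two. -/
theorem card_eq_of_trans_mul [Finite A] (hcomm : ∀ x y : A, x * y = y * x)
    {Γ : Type*} [Group Γ] [Finite Γ] (c : Γ →* MulAut A) (d : ℕ)
    (hcard : Nat.card A = 2 ^ d) (hd : 0 < d) (hinj : Function.Injective c) (t : Γ)
    (a₀ : A) (ha₀ : a₀ ≠ 1) (htrans : ∀ w : A, w ≠ 1 → ∃ k : ℕ, c (t ^ k) a₀ = w)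
    (hnorm : ∀ h : Γ, ∃ k : ℕ, h * t * h⁻¹ = t ^ k)
    (Δ : Subgroup Γ) (hΔ : ∀ x ∈ Δ, x * t = t * x → x = 1)
    (hΔ' : ∀ k : ℕ, (∀ x ∈ Δ, x * t ^ k = t ^ k * x) → t ^ k = 1) :
    Nat.card Δ = d := by
  let _ : CommGroup A := { (inferInstance : Group A) with mul_comm := hcomm }
  have hcard' : Nat.card (Additive A) = 2 ^ d := hcard
  have hfin : Finite (Additive A) := ‹Finite A›
  refine card_eq_of_trans (V := Additive A) d hcard' hd (toEnd c) ?_ t (Additive.ofMul a₀)
    (fun h => ha₀ (congrArg Additive.toMul h)) ?_ hnorm Δ hΔ hΔ'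
  · intro g h hgh
    apply hinj
    apply MulEquiv.ext
    intro a
    have h1 := congrArg (fun f : AddMonoid.End (Additive A) =>
      (DFunLike.coe f (Additive.ofMul a)).toMul) hgh
    exact h1
  · intro w hw
    obtain ⟨k, hk⟩ := htrans w.toMul (fun h => hw (congrArg Additive.ofMul h))
    exact ⟨k, congrArg Additive.ofMul hk⟩

end FieldFixMul

end Cfsg.Agent.Lib.Helper83
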