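import Mathlib

set_option autoImplicit false

namespace Cfsg.Agent.Lib.Helper83

variable {G Ω : Type*} [Group G] [MulAction G Ω]

/-- Hypotheses of the structure-equation argument for Zassenhaus groups of odd degree:
`U` is an abelian 2-group fixing `a`, normalised by the stabiliser of `a`, regular on the
other points; `v` is an involution interchanging `a` and `b`; no nonidentity element fixes
three points. -/
structure ZSetup (a b : Ω) (U : Subgroup G) (v : G) : Prop where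
  h3 : ∀ g : G, ∀ p q r : Ω, p ≠ q → q ≠ r → p ≠ r → g • p = p → g • q = q → g • r = r → g = 1
  hUa : ∀ u ∈ U, u • a = a
  hUn : ∀ h : G, h • a = a → ∀ u ∈ U, h * u * h⁻¹ ∈ U
  hex : ∀ c d : Ω, c ≠ a → d ≠ a → ∃ u ∈ U, u • c = d
  huniq : ∀ u ∈ U, ∀ d : Ω, d ≠ a → u • d = d → u = 1
  hU2 : IsPGroup 2 U
  hUab : ∀ u ∈ U, ∀ u' ∈ U, u * u' = u' * u
  hv2 : v * v = 1
  hva : v • a = b
  hvb : v • b = a
  hab : a ≠ b
  hUne : U ≠ ⊥

/-- The two-point stabiliser. -/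
def zH (G : Type*) {Ω : Type*} [Group G] [MulAction G Ω] (a b : Ω) : Subgroup G :=
  MulAction.stabilizer G a ⊓ MulAction.stabilizer G b

theorem mem_zH {a b : Ω} {s : G} : s ∈ zH G a b ↔ s • a = a ∧ s • b = b := by
  unfold zH
  rw [Subgroup.mem_inf, MulAction.mem_stabilizer_iff, MulAction.mem_stabilizer_iff]

namespace ZSetup

variable {a b : Ω} {U : Subgroup G} {v : G}

theorem vinv (Z : ZSetup a b U v) : v⁻¹ = v := inv_eq_of_mul_eq_one_right Z.hv2

theorem vv_smul (Z : ZSetup a b U v) (d : Ω) : v • v • d = d := by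
  rw [smul_smul, Z.hv2, one_smul]

theorem smul_ne (Z : ZSetup a b U v) {z : G} (hz : z ∈ U) {d : Ω} (hd : d ≠ a) : z • d ≠ a := by
  intro h
  apply hd
  have h1 := Z.hUa z hz
  exact smul_left_cancel z (h.trans h1.symm)

theorem eq_of_smul (Z : ZSetup a b U v) {z z' : G} (hz : z ∈ U) (hz' : z' ∈ U) {d : Ω}
    (hd : d ≠ a) (h : z • d = z' • d) : z = z' := by
  have h1 : (z'⁻¹ * z) • d = d := by rw [mul_smul, h, inv_smul_smul]
  have h2 := Z.huniq _ (U.mul_mem (U.inv_mem hz') hz) d hd h1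
  exact (inv_mul_eq_one.mp h2).symm

theorem conj_mem (Z : ZSetup a b U v) {s : G} (hs : s ∈ zH G a b) {z : G} (hz : z ∈ U) :
    MulAut.conj s z ∈ U := by
  rw [MulAut.conj_apply]
  exact Z.hUn s (mem_zH.mp hs).1 z hz

theorem card_odd (Z : ZSetup a b U v) [Finite Ω] : Nat.card Ω % 2 = 1 := by
  have h := Z.hU2.card_modEq_card_fixedPoints Ω
  have hfp : MulAction.fixedPoints U Ω = {a} := by
    ext d
    rw [MulAction.mem_fixedPoints, Set.mem_singleton_iff]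
    constructor
    · intro hd
      by_contra hda
      apply Z.hUne
      rw [Subgroup.eq_bot_iff_forall]
      intro z hz
      exact Z.huniq z hz d hda (hd ⟨z, hz⟩)
    · rintro rfl ⟨z, hz⟩
      exact Z.hUa z hz
  rw [hfp] at h
  have h1 : Nat.card ({a} : Set Ω) = 1 := by
    rw [Nat.card_coe_set_eq, Set.ncard_singleton]
  rw [h1] at h
  exact h

theorem exists_fixed_of_sq (Z : ZSetup a b U v) [Finite Ω] {g : G} (hg : g * g = 1) :
    ∃ c : Ω, g • c = c := by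
  have hP : IsPGroup 2 (Subgroup.zpowers g) := by
    rintro ⟨h, hh⟩
    obtain ⟨n, rfl⟩ := Subgroup.mem_zpowers_iff.mp hh
    refine ⟨1, Subtype.ext ?_⟩
    simp only [pow_one, Subgroup.coe_pow, Subgroup.coe_one]
    rw [← zpow_natCast, ← zpow_mul, mul_comm, zpow_mul, zpow_natCast, pow_two, hg, one_zpow]
  have h := hP.card_modEq_card_fixedPoints Ω
  have hodd := Z.card_odd
  have hne : Nat.card (MulAction.fixedPoints (Subgroup.zpowers g) Ω) ≠ 0 := by
    intro h0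
    rw [h0] at h
    have : Nat.card Ω % 2 = 0 := h
    omega
  have hne' : Nonempty (MulAction.fixedPoints (Subgroup.zpowers g) Ω) := by
    by_contra hemp
    rw [not_nonempty_iff] at hemp
    exact hne Nat.card_of_isEmpty
  obtain ⟨⟨c, hc⟩⟩ := hne'
  exact ⟨c, hc ⟨g, Subgroup.mem_zpowers g⟩⟩

theorem no_invol_H (Z : ZSetup a b U v) [Finite Ω] {p : G} (hpa : p • a = a) (hpb : p • b = b)
    (hp2 : p * p = 1) : p = 1 := by
  have hP : IsPGroup 2 (Subgroup.zpowers p) := by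
    rintro ⟨h, hh⟩
    obtain ⟨n, rfl⟩ := Subgroup.mem_zpowers_iff.mp hh
    refine ⟨1, Subtype.ext ?_⟩
    simp only [pow_one, Subgroup.coe_pow, Subgroup.coe_one]
    rw [← zpow_natCast, ← zpow_mul, mul_comm, zpow_mul, zpow_natCast, pow_two, hp2, one_zpow]
  have h := hP.card_modEq_card_fixedPoints Ω
  have hodd := Z.card_odd
  have hmem : ∀ d : Ω, p • d = d → d ∈ MulAction.fixedPoints (Subgroup.zpowers p) Ω := by
    intro d hd
    rw [MulAction.mem_fixedPoints]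
    rintro ⟨h, hh⟩
    have : Subgroup.zpowers p ≤ MulAction.stabilizer G d :=
      (Subgroup.zpowers_le).mpr (MulAction.mem_stabilizer_iff.mpr hd)
    exact MulAction.mem_stabilizer_iff.mp (this hh)
  by_contra hp1
  have hset : MulAction.fixedPoints (Subgroup.zpowers p) Ω = {a, b} := by
    ext d
    constructor
    · intro hd
      have hpd : p • d = d := hd ⟨p, Subgroup.mem_zpowers p⟩
      by_contra hdab
      rw [Set.mem_insert_iff, Set.mem_singleton_iff] at hdab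
      push Not at hdab
      exact hp1 (Z.h3 p a b d Z.hab (fun h => hdab.2 h.symm) (fun h => hdab.1 h.symm) hpa hpb hpd)
    · intro hd
      rcases hd with rfl | hd
      · exact hmem _ hpa
      · rw [Set.mem_singleton_iff] at hd
        rw [hd]; exact hmem _ hpb
  rw [hset] at h
  have h2 : Nat.card ({a, b} : Set Ω) = 2 := by
    rw [Nat.card_coe_set_eq, Set.ncard_pair Z.hab]
  rw [h2] at h
  have : Nat.card Ω % 2 = 0 := h
  omega

theorem mem_U_of_invol (Z : ZSetup a b U v) [Finite Ω] {g : G} (hga : g • a = a)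
    (hg2 : g * g = 1) : g ∈ U := by
  have hgb : g • b ≠ a := fun h => Z.hab (smul_left_cancel g (hga.trans h.symm))
  obtain ⟨z, hz, hzb⟩ := Z.hex b (g • b) Z.hab.symm hgb
  have hpa : (z⁻¹ * g) • a = a := by rw [mul_smul, hga, inv_smul_eq_iff, Z.hUa z hz]
  have hpb : (z⁻¹ * g) • b = b := by rw [mul_smul, ← hzb, inv_smul_smul]
  have hginv : g⁻¹ = g := inv_eq_of_mul_eq_one_right hg2
  have hp2U : (z⁻¹ * g) * (z⁻¹ * g) ∈ U := by
    have e : (z⁻¹ * g) * (z⁻¹ * g) = z⁻¹ * (g * z⁻¹ * g⁻¹) := by rw [hginv]; group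
    rw [e]
    exact U.mul_mem (U.inv_mem hz) (Z.hUn g hga _ (U.inv_mem hz))
  have hp2 : (z⁻¹ * g) * (z⁻¹ * g) = 1 :=
    Z.huniq _ hp2U b Z.hab.symm (by rw [mul_smul, hpb, hpb])
  have hp1 := Z.no_invol_H hpa hpb hp2
  have e2 : g = z := by rw [inv_mul_eq_one] at hp1; exact hp1.symm
  rw [e2]; exact hz

end ZSetup

/-- The extra data: `c` is the fixed point of `v`, `x ∈ U` carries `b` to `c`, and
`u = v x⁻¹ v x v`. -/
structure ZPt (a b : Ω) (U : Subgroup G) (v : G) (c : Ω) (x u : G) : Prop where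
  hvc : v • c = c
  hx : x ∈ U
  hxb : x • b = c
  hu : u = v * x⁻¹ * v * x * v

namespace ZPt

variable {a b c : Ω} {U : Subgroup G} {v x u : G}

theorem hca (Z : ZSetup a b U v) (P : ZPt a b U v c x u) : c ≠ a := by
  intro h
  have h1 := P.hvc
  rw [h, Z.hva] at h1
  exact Z.hab h1.symm

theorem hcb (Z : ZSetup a b U v) (P : ZPt a b U v c x u) : c ≠ b := by
  intro h
  have h1 := P.hvc
  rw [h, Z.hvb] at h1
  exact Z.hab h1

theorem hxinv (P : ZPt a b U v c x u) : x⁻¹ • c = b := by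
  rw [← P.hxb, inv_smul_smul]

theorem u_sq (Z : ZSetup a b U v) (P : ZPt a b U v c x u) : u * u = 1 := by
  have hvv : ∀ y : G, v * (v * y) = y := fun y => by rw [← mul_assoc, Z.hv2, one_mul]
  rw [P.hu]
  simp only [mul_assoc, hvv, mul_inv_cancel_left, inv_mul_cancel_left, Z.hv2]

theorem u_fix (Z : ZSetup a b U v) (P : ZPt a b U v c x u) : u • a = a := by
  rw [P.hu]
  simp only [mul_smul]
  rw [Z.hva, P.hxb, P.hvc, hxinv P, Z.hvb]

theorem u_mem (Z : ZSetup a b U v) (P : ZPt a b U v c x u) [Finite Ω] : u ∈ U :=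
  Z.mem_U_of_invol (u_fix Z P) (u_sq Z P)

theorem v_ne_one (Z : ZSetup a b U v) : v ≠ 1 := by
  rintro rfl
  have := Z.hva
  rw [one_smul] at this
  exact Z.hab this

theorem u_ne_one (Z : ZSetup a b U v) (P : ZPt a b U v c x u) : u ≠ 1 := by
  intro h
  apply v_ne_one Z
  have hvv : ∀ y : G, v * (v * y) = y := fun y => by rw [← mul_assoc, Z.hv2, one_mul]
  have e : v = (x * v) * u * (v * x⁻¹) := by
    rw [P.hu]
    simp only [mul_assoc, hvv, mul_inv_cancel_left, inv_mul_cancel_left, Z.hv2, mul_one,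
      mul_inv_cancel]
  rw [e, h]
  simp only [mul_assoc, hvv, mul_inv_cancel_left, inv_mul_cancel_left, Z.hv2, mul_one, one_mul,
    mul_inv_cancel]

/-- `v * x = x * v * u * v`. -/
theorem o2 (Z : ZSetup a b U v) (P : ZPt a b U v c x u) : v * x = x * v * u * v := by
  have hvv : ∀ y : G, v * (v * y) = y := fun y => by rw [← mul_assoc, Z.hv2, one_mul]
  rw [P.hu]
  simp only [mul_assoc, hvv, mul_inv_cancel_left, inv_mul_cancel_left, Z.hv2, mul_one]

/-- `v * x⁻¹ = u * v * x⁻¹ * v`. -/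
theorem o3 (Z : ZSetup a b U v) (P : ZPt a b U v c x u) : v * x⁻¹ = u * v * x⁻¹ * v := by
  have hvv : ∀ y : G, v * (v * y) = y := fun y => by rw [← mul_assoc, Z.hv2, one_mul]
  rw [P.hu]
  simp only [mul_assoc, hvv, mul_inv_cancel_left, inv_mul_cancel_left, Z.hv2, mul_one]

/-- `v * u = x⁻¹ * v * x * v`. -/
theorem o4 (Z : ZSetup a b U v) (P : ZPt a b U v c x u) : v * u = x⁻¹ * v * x * v := by
  have hvv : ∀ y : G, v * (v * y) = y := fun y => by rw [← mul_assoc, Z.hv2, one_mul]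
  rw [P.hu]
  simp only [mul_assoc, hvv]

/-- `v` fixes only `c`. -/
theorem fix_v (Z : ZSetup a b U v) (P : ZPt a b U v c x u) [Finite Ω] {d : Ω} (hd : v • d = d) :
    d = c := by
  have hfix : u • (v • x⁻¹ • d) = v • x⁻¹ • d := by
    rw [P.hu]
    simp only [mul_smul]
    rw [Z.vv_smul, smul_inv_smul, hd]
  have hda : v • x⁻¹ • d = a := by
    by_contra hne
    exact u_ne_one Z P (Z.huniq u (u_mem Z P) _ hne hfix)
  have h1 : x⁻¹ • d = b := by
    have := congrArg (fun e => v • e) hda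
    simp only [Z.vv_smul, Z.hva] at this
    exact this
  rw [← P.hxb, ← h1, smul_inv_smul]

theorem H_surj (Z : ZSetup a b U v) (P : ZPt a b U v c x u) [Finite G] [Finite Ω] {k : G}
    (hk : k ∈ zH G a b) : ∃ p ∈ zH G a b, v * p * v * p⁻¹ = k := by
  have hmem : ∀ p : G, p ∈ zH G a b → v * p * v * p⁻¹ ∈ zH G a b := by
    intro p hp
    obtain ⟨hpa, hpb⟩ := mem_zH.mp hp
    have hpa' : p⁻¹ • a = a := by rw [inv_smul_eq_iff, hpa]
    have hpb' : p⁻¹ • b = b := by rw [inv_smul_eq_iff, hpb]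
    rw [mem_zH]
    constructor
    · simp only [mul_smul]; rw [hpa', Z.hva, hpb, Z.hvb]
    · simp only [mul_smul]; rw [hpb', Z.hvb, hpa, Z.hva]
  obtain ⟨f, hf⟩ : ∃ f : zH G a b → zH G a b, ∀ p, (f p : G) = v * p * v * (p : G)⁻¹ :=
    ⟨fun p => ⟨v * p * v * (p : G)⁻¹, hmem p p.2⟩, fun p => rfl⟩
  have hinj : Function.Injective f := by
    rintro ⟨p, hp⟩ ⟨p', hp'⟩ h
    have h1 : v * p * v * p⁻¹ = v * p' * v * p'⁻¹ := by
      have := congrArg Subtype.val h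
      rw [hf, hf] at this
      exact this
    have h3 : p * v * p⁻¹ = p' * v * p'⁻¹ := by
      have := congrArg (fun t => v * t) h1
      simp only [← mul_assoc, Z.hv2, one_mul] at this
      exact this
    have h2 : (p'⁻¹ * p) * v = v * (p'⁻¹ * p) := by
      calc (p'⁻¹ * p) * v = p'⁻¹ * (p * v * p⁻¹) * p := by group
        _ = p'⁻¹ * (p' * v * p'⁻¹) * p := by rw [h3]
        _ = v * (p'⁻¹ * p) := by group
    have hmc : (p'⁻¹ * p) • c = c := by
      apply fix_v Z P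
      rw [← mul_smul, ← h2, mul_smul, P.hvc]
    have hm : p'⁻¹ * p ∈ zH G a b := (zH G a b).mul_mem ((zH G a b).inv_mem hp') hp
    obtain ⟨hma, hmb⟩ := mem_zH.mp hm
    have hm1 : p'⁻¹ * p = 1 := Z.h3 _ a b c Z.hab (hcb Z P).symm (hca Z P).symm hma hmb hmc
    exact Subtype.ext (inv_mul_eq_one.mp hm1).symm
  have hsurj : Function.Surjective f := Finite.surjective_of_injective hinj
  obtain ⟨⟨p, hp⟩, hfp⟩ := hsurj ⟨k, hk⟩
  refine ⟨p, hp, ?_⟩
  have := congrArg Subtype.val hfp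
  rw [hf] at this
  exact this

theorem v_inv_H (Z : ZSetup a b U v) (P : ZPt a b U v c x u) [Finite G] [Finite Ω] {k : G}
    (hk : k ∈ zH G a b) : v * k * v = k⁻¹ := by
  obtain ⟨p, hp, hk'⟩ := H_surj Z P hk
  rw [← hk']
  simp only [mul_inv_rev, inv_inv, Z.vinv, ← mul_assoc, Z.hv2, one_mul]

theorem H_comm (Z : ZSetup a b U v) (P : ZPt a b U v c x u) [Finite G] [Finite Ω] {k k' : G}
    (hk : k ∈ zH G a b) (hk' : k' ∈ zH G a b) : k * k' = k' * k := by
  have h1 := v_inv_H Z P hk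
  have h2 := v_inv_H Z P hk'
  have h3 := v_inv_H Z P ((zH G a b).mul_mem hk hk')
  have hvv : ∀ y : G, v * (v * y) = y := fun y => by rw [← mul_assoc, Z.hv2, one_mul]
  have h4 : v * (k * k') * v = (v * k * v) * (v * k' * v) := by
    simp only [mul_assoc, hvv]
  rw [h3, h1, h2, mul_inv_rev] at h4
  have := congrArg (fun t => t⁻¹) h4
  simp only [mul_inv_rev, inv_inv] at this
  exact this

theorem vs_mul (Z : ZSetup a b U v) (P : ZPt a b U v c x u) [Finite G] [Finite Ω] {s : G}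
    (hs : s ∈ zH G a b) : v * s = s⁻¹ * v := by
  have h := v_inv_H Z P hs
  calc v * s = (v * s * v) * v := by rw [mul_assoc (v * s), Z.hv2, mul_one]
    _ = s⁻¹ * v := by rw [h]

theorem vs_smul (Z : ZSetup a b U v) (P : ZPt a b U v c x u) [Finite G] [Finite Ω] {s : G}
    (hs : s ∈ zH G a b) (d : Ω) : v • s • d = s⁻¹ • v • d := by
  rw [← mul_smul, vs_mul Z P hs, mul_smul]

theorem H_free (Z : ZSetup a b U v) {p : G} (hp : p ∈ zH G a b) {z : G} (hz : z ∈ U)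
    (hz1 : z ≠ 1) (h : MulAut.conj p z = z) : p = 1 := by
  obtain ⟨hpa, hpb⟩ := mem_zH.mp hp
  rw [MulAut.conj_apply] at h
  have hpz : p * z = z * p := by
    calc p * z = (p * z * p⁻¹) * p := by group
      _ = z * p := by rw [h]
  have hzb : z • b ≠ b := fun hh => hz1 (Z.huniq z hz b Z.hab.symm hh)
  have hzba : z • b ≠ a := Z.smul_ne hz Z.hab.symm
  have hfix : p • (z • b) = z • b := by rw [← mul_smul, hpz, mul_smul, hpb]
  exact Z.h3 p a b (z • b) Z.hab hzb.symm hzba.symm hpa hpb hfix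

theorem p1 (Z : ZSetup a b U v) (P : ZPt a b U v c x u) [Finite G] [Finite Ω] {s : G}
    (hs : s ∈ zH G a b) : v • (MulAut.conj s u) • b = (MulAut.conj s⁻¹ x⁻¹) • b := by
  obtain ⟨hsa, hsb⟩ := mem_zH.mp hs
  have hsb' : s⁻¹ • b = b := by rw [inv_smul_eq_iff, hsb]
  calc v • (MulAut.conj s u) • b = v • s • u • b := by
        rw [MulAut.conj_apply, mul_smul, mul_smul, hsb']
    _ = s⁻¹ • (v * u) • b := by rw [vs_smul Z P hs, mul_smul]
    _ = s⁻¹ • x⁻¹ • b := by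
        rw [o4 Z P, mul_smul, mul_smul, mul_smul, Z.hvb, Z.hUa x P.hx, Z.hva]
    _ = (MulAut.conj s⁻¹ x⁻¹) • b := by
        rw [MulAut.conj_apply, inv_inv, mul_smul, mul_smul, hsb]

theorem p3 (Z : ZSetup a b U v) (P : ZPt a b U v c x u) [Finite G] [Finite Ω] {s : G}
    (hs : s ∈ zH G a b) : v • (MulAut.conj s x⁻¹) • b = (MulAut.conj s⁻¹ u) • b := by
  obtain ⟨hsa, hsb⟩ := mem_zH.mp hs
  have hsb' : s⁻¹ • b = b := by rw [inv_smul_eq_iff, hsb]
  calc v • (MulAut.conj s x⁻¹) • b = v • s • x⁻¹ • b := by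
        rw [MulAut.conj_apply, mul_smul, mul_smul, hsb']
    _ = s⁻¹ • (v * x⁻¹) • b := by rw [vs_smul Z P hs, mul_smul]
    _ = s⁻¹ • u • b := by
        rw [o3 Z P, mul_smul, mul_smul, mul_smul, Z.hvb, Z.hUa x⁻¹ (U.inv_mem P.hx), Z.hva]
    _ = (MulAut.conj s⁻¹ u) • b := by
        rw [MulAut.conj_apply, inv_inv, mul_smul, mul_smul, hsb]

theorem w1 (Z : ZSetup a b U v) (P : ZPt a b U v c x u) [Finite G] [Finite Ω] {q r : G}
    (hq : q ∈ zH G a b) (hr : r ∈ zH G a b)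
    (hru : MulAut.conj r u = u * MulAut.conj q⁻¹ u) :
    v • (x * MulAut.conj q x⁻¹) • b = (x * MulAut.conj r⁻¹ x⁻¹) • b := by
  calc v • (x * MulAut.conj q x⁻¹) • b = (v * x) • (MulAut.conj q x⁻¹) • b := by
        rw [mul_smul, mul_smul]
    _ = x • v • u • v • (MulAut.conj q x⁻¹) • b := by
        rw [o2 Z P, mul_smul, mul_smul, mul_smul]
    _ = x • v • (u * MulAut.conj q⁻¹ u) • b := by rw [p3 Z P hq, mul_smul]
    _ = x • v • (MulAut.conj r u) • b := by rw [hru]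
    _ = (x * MulAut.conj r⁻¹ x⁻¹) • b := by rw [p1 Z P hr, mul_smul]

theorem w2 (Z : ZSetup a b U v) (P : ZPt a b U v c x u) [Finite G] [Finite Ω] {q r' : G}
    (hq : q ∈ zH G a b) (hr' : r' ∈ zH G a b)
    (hru : MulAut.conj r' u = u * MulAut.conj q u) :
    v • (x * MulAut.conj q x⁻¹) • b =
      (MulAut.conj q⁻¹ u * MulAut.conj (q⁻¹ * q⁻¹) x *
        MulAut.conj (q⁻¹ * q⁻¹ * r'⁻¹) x⁻¹) • b := by
  obtain ⟨hqa, hqb⟩ := mem_zH.mp hq
  have hqi : q⁻¹ ∈ zH G a b := (zH G a b).inv_mem hq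
  have hxi : x⁻¹ ∈ U := U.inv_mem P.hx
  have hc1 : x * MulAut.conj q x⁻¹ = MulAut.conj q x⁻¹ * x :=
    Z.hUab _ P.hx _ (Z.conj_mem hq hxi)
  have hc2 : x * MulAut.conj q⁻¹ x⁻¹ = MulAut.conj q⁻¹ x⁻¹ * x :=
    Z.hUab _ P.hx _ (Z.conj_mem hqi hxi)
  have hw := w1 Z P hqi hr' (by rw [inv_inv]; exact hru)
  have e1 : x⁻¹ * q * x = q * (x * MulAut.conj q⁻¹ x⁻¹) := by
    rw [hc2, MulAut.conj_apply]; group
  have hL : v • (x * MulAut.conj q x⁻¹) • b
      = q⁻¹ • u • q⁻¹ • (x * MulAut.conj r'⁻¹ x⁻¹) • b := by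
    calc v • (x * MulAut.conj q x⁻¹) • b
        = v • (MulAut.conj q x⁻¹) • c := by rw [hc1, mul_smul, P.hxb]
      _ = v • q • x⁻¹ • q⁻¹ • c := by rw [MulAut.conj_apply, mul_smul, mul_smul]
      _ = q⁻¹ • (v * x⁻¹) • q⁻¹ • c := by rw [vs_smul Z P hq, mul_smul]
      _ = q⁻¹ • u • v • x⁻¹ • v • q⁻¹ • c := by rw [o3 Z P, mul_smul, mul_smul, mul_smul]
      _ = q⁻¹ • u • v • x⁻¹ • q • c := by rw [vs_smul Z P hqi, inv_inv, P.hvc]
      _ = q⁻¹ • u • v • (x⁻¹ * q * x) • b := by rw [mul_smul, mul_smul, P.hxb]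
      _ = q⁻¹ • u • v • q • (x * MulAut.conj q⁻¹ x⁻¹) • b := by rw [e1, mul_smul]
      _ = q⁻¹ • u • q⁻¹ • v • (x * MulAut.conj q⁻¹ x⁻¹) • b := by rw [vs_smul Z P hq]
      _ = q⁻¹ • u • q⁻¹ • (x * MulAut.conj r'⁻¹ x⁻¹) • b := by rw [hw]
  have e2 : MulAut.conj q⁻¹ u * MulAut.conj (q⁻¹ * q⁻¹) x * MulAut.conj (q⁻¹ * q⁻¹ * r'⁻¹) x⁻¹
      = q⁻¹ * u * q⁻¹ * (x * MulAut.conj r'⁻¹ x⁻¹) * (q * q) := by
    simp only [MulAut.conj_apply, mul_inv_rev, inv_inv, mul_assoc, inv_mul_cancel_left,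
      mul_inv_cancel_left]
  rw [hL, e2]
  simp only [mul_smul, hqb]

/-- Every involution of `U` is conjugate to `u` under the two-point stabiliser. -/
theorem invol_conj (Z : ZSetup a b U v) (P : ZPt a b U v c x u) [Finite G] [Finite Ω] {u₁ : G}
    (hu₁ : u₁ ∈ U) (hne : u₁ ≠ 1) (hsq : u₁ * u₁ = 1) :
    ∃ p ∈ zH G a b, u₁ = MulAut.conj p u := by
  have hvv : ∀ y : G, v * (v * y) = y := fun y => by rw [← mul_assoc, Z.hv2, one_mul]
  have huu : ∀ y : G, u₁ * (u₁ * y) = y := fun y => by rw [← mul_assoc, hsq, one_mul]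
  have hu1b : u₁ • b ≠ b := fun h => hne (Z.huniq u₁ hu₁ b Z.hab.symm h)
  have hu1ba : u₁ • b ≠ a := Z.smul_ne hu₁ Z.hab.symm
  have hea : v • u₁ • b ≠ a := by
    intro h
    apply hu1b
    have := congrArg (fun t => v • t) h
    simp only [Z.vv_smul, Z.hva] at this
    exact this
  obtain ⟨z, hz, hze⟩ := Z.hex b (v • u₁ • b) Z.hab.symm hea
  obtain ⟨v', hv'⟩ : ∃ v' : G, v' = z⁻¹ * (v * u₁ * v) * z := ⟨_, rfl⟩
  have hv'a : v' • a = b := by
    rw [hv']
    simp only [mul_smul]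
    rw [Z.hUa z hz, Z.hva, ← hze, inv_smul_smul]
  have hv'2 : v' * v' = 1 := by
    rw [hv']
    simp only [mul_assoc, mul_inv_cancel_left, hvv, huu, inv_mul_cancel]
  have hv'b : v' • b = a := by
    rw [← hv'a, ← mul_smul, hv'2, one_smul]
  have hv'v' : ∀ d : Ω, v' • v' • d = d := fun d => by rw [← mul_smul, hv'2, one_smul]
  have hk : v * v' ∈ zH G a b := by
    rw [mem_zH]
    constructor
    · rw [mul_smul, hv'a, Z.hvb]
    · rw [mul_smul, hv'b, Z.hva]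
  obtain ⟨p, hp, hpk⟩ := H_surj Z P hk
  have hv'p : v' = p * v * p⁻¹ := by
    have := congrArg (fun t => v * t) hpk
    simp only [← mul_assoc, Z.hv2, one_mul] at this
    exact this.symm
  -- conjugated relation
  have hvuv : v * u * v = x⁻¹ * v * x := by
    rw [o4 Z P, mul_assoc (x⁻¹ * v * x), Z.hv2, mul_one]
  have hR : v' = MulAut.conj p x * (v' * MulAut.conj p u * v') * (MulAut.conj p x)⁻¹ := by
    have e1 : v' * MulAut.conj p u * v' = p * (v * u * v) * p⁻¹ := by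
      rw [hv'p, MulAut.conj_apply]; group
    rw [e1, hvuv, MulAut.conj_apply, hv'p]
    group
  have hX : MulAut.conj p x ∈ U := Z.conj_mem hp P.hx
  have hU' : MulAut.conj p u ∈ U := Z.conj_mem hp (u_mem Z P)
  have hU'1 : MulAut.conj p u ≠ 1 := by
    intro h
    apply u_ne_one Z P
    have := (MulAut.conj p).injective (h.trans (map_one (MulAut.conj p)).symm)
    exact this
  -- `v u₁ v` fixes `b`
  have h1 : (z * v' * z⁻¹) • b = b := by
    have e : z * v' * z⁻¹ = v * u₁ * v := by rw [hv']; group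
    rw [e]
    simp only [mul_smul]
    rw [Z.hvb, Z.hUa u₁ hu₁, Z.hva]
  have h2 : (z * (MulAut.conj p x * (v' * MulAut.conj p u * v') * (MulAut.conj p x)⁻¹) * z⁻¹) • b
      = b := by
    rw [← hR]; exact h1
  simp only [mul_smul] at h2
  have h3 := congrArg (fun t => v' • (MulAut.conj p x)⁻¹ • z⁻¹ • t) h2
  simp only [inv_smul_smul, hv'v'] at h3
  have hd : v' • (MulAut.conj p x)⁻¹ • z⁻¹ • b = a := by
    by_contra hne'
    exact hU'1 (Z.huniq _ hU' _ hne' h3)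
  have hd' : (MulAut.conj p x)⁻¹ • z⁻¹ • b = b := by
    have := congrArg (fun t => v' • t) hd
    simp only [hv'v', hv'a] at this
    exact this
  have hXz : (MulAut.conj p x)⁻¹ * z⁻¹ = 1 :=
    Z.huniq _ (U.mul_mem (U.inv_mem hX) (U.inv_mem hz)) b Z.hab.symm (by rw [mul_smul]; exact hd')
  have hzX : z = (MulAut.conj p x)⁻¹ := by
    have h4 : (MulAut.conj p x)⁻¹ = z := by
      have := mul_eq_one_iff_eq_inv.mp hXz
      rw [inv_inv] at this
      exact this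
    exact h4.symm
  -- `v u₁ v = v' U' v'`
  have h5 : v * u₁ * v = v' * MulAut.conj p u * v' := by
    have e : v * u₁ * v = z * v' * z⁻¹ := by rw [hv']; group
    rw [e, hzX, inv_inv]
    calc (MulAut.conj p x)⁻¹ * v' * MulAut.conj p x
        = (MulAut.conj p x)⁻¹ * (MulAut.conj p x * (v' * MulAut.conj p u * v') *
            (MulAut.conj p x)⁻¹) * MulAut.conj p x := by rw [← hR]
      _ = v' * MulAut.conj p u * v' := by group
  refine ⟨v * v' * p, (zH G a b).mul_mem hk hp, ?_⟩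
  have h6 : u₁ = v * (v * u₁ * v) * v := by
    simp only [mul_assoc, hvv, Z.hv2, mul_one]
  rw [h6, h5, map_mul, MulAut.mul_apply, MulAut.conj_apply (v * v')]
  have hv'inv : v'⁻¹ = v' := inv_eq_of_mul_eq_one_right hv'2
  rw [mul_inv_rev, hv'inv, Z.vinv]
  group

end ZPt

/-- The purely algebraic endgame. -/
theorem zass_final {G : Type*} [Group G] {U H : Subgroup G}
    (hUab : ∀ z ∈ U, ∀ z' ∈ U, z * z' = z' * z)
    (hHab : ∀ s ∈ H, ∀ s' ∈ H, s * s' = s' * s)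
    (hHU : ∀ s ∈ H, ∀ z ∈ U, MulAut.conj s z ∈ U)
    {x u q r' h₀ : G} {j : ℕ}
    (hx : x ∈ U) (hu : u ∈ U) (hu2 : u * u = 1) (hj : Even j)
    (hq : q ∈ H) (hr' : r' ∈ H) (hh₀ : h₀ ∈ H)
    (hxj : x ^ j = MulAut.conj h₀ u)
    (hru : MulAut.conj r' u = u * MulAut.conj q u)
    (hstar : x * MulAut.conj (q⁻¹ * r')⁻¹ x⁻¹ =
      MulAut.conj q⁻¹ u * MulAut.conj (q⁻¹ * q⁻¹) x * MulAut.conj (q⁻¹ * q⁻¹ * r'⁻¹) x⁻¹) :
    MulAut.conj q⁻¹ u = u := by
  have hxi : x⁻¹ ∈ U := U.inv_mem hx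
  have hqi : q⁻¹ ∈ H := H.inv_mem hq
  have hri : r'⁻¹ ∈ H := H.inv_mem hr'
  have hs1 : (q⁻¹ * r')⁻¹ ∈ H := H.inv_mem (H.mul_mem hqi hr')
  have hs2 : q⁻¹ * q⁻¹ ∈ H := H.mul_mem hqi hqi
  have hs3 : q⁻¹ * q⁻¹ * r'⁻¹ ∈ H := H.mul_mem hs2 hri
  have huj : u ^ j = 1 := by
    obtain ⟨m, rfl⟩ := hj
    rw [pow_add, ← (Commute.refl u).mul_pow m, hu2, one_pow]
  have hu'2 : MulAut.conj h₀ u * MulAut.conj h₀ u = 1 := by rw [← map_mul, hu2, map_one]
  have hu'inv : (MulAut.conj h₀ u)⁻¹ = MulAut.conj h₀ u := inv_eq_of_mul_eq_one_right hu'2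
  have hA : MulAut.conj q⁻¹ u ∈ U := hHU _ hqi _ hu
  have hB : MulAut.conj (q⁻¹ * q⁻¹) x ∈ U := hHU _ hs2 _ hx
  have hC : MulAut.conj (q⁻¹ * q⁻¹ * r'⁻¹) x⁻¹ ∈ U := hHU _ hs3 _ hxi
  have hD : MulAut.conj (q⁻¹ * r')⁻¹ x⁻¹ ∈ U := hHU _ hs1 _ hxi
  have hpow : (x * MulAut.conj (q⁻¹ * r')⁻¹ x⁻¹) ^ j =
      (MulAut.conj q⁻¹ u * MulAut.conj (q⁻¹ * q⁻¹) x * MulAut.conj (q⁻¹ * q⁻¹ * r'⁻¹) x⁻¹) ^ j := by
    rw [hstar]
  rw [(show Commute x (MulAut.conj (q⁻¹ * r')⁻¹ x⁻¹) from hUab _ hx _ hD).mul_pow,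
    (show Commute (MulAut.conj q⁻¹ u * MulAut.conj (q⁻¹ * q⁻¹) x)
      (MulAut.conj (q⁻¹ * q⁻¹ * r'⁻¹) x⁻¹) from hUab _ (U.mul_mem hA hB) _ hC).mul_pow,
    (show Commute (MulAut.conj q⁻¹ u) (MulAut.conj (q⁻¹ * q⁻¹) x) from hUab _ hA _ hB).mul_pow,
    ← map_pow (MulAut.conj (q⁻¹ * r')⁻¹) x⁻¹ j, ← map_pow (MulAut.conj q⁻¹) u j,
    ← map_pow (MulAut.conj (q⁻¹ * q⁻¹)) x j, ← map_pow (MulAut.conj (q⁻¹ * q⁻¹ * r'⁻¹)) x⁻¹ j,
    huj, map_one, one_mul, inv_pow, hxj, hu'inv] at hpow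
  have hsw : ∀ s ∈ H, ∀ z : G,
      MulAut.conj s (MulAut.conj h₀ z) = MulAut.conj h₀ (MulAut.conj s z) := by
    intro s hs z
    rw [← MulAut.mul_apply, ← MulAut.mul_apply, ← map_mul, ← map_mul, hHab s hs h₀ hh₀]
  rw [hsw _ hs1, hsw _ hs2, hsw _ hs3, ← map_mul, ← map_mul] at hpow
  have h3 := (MulAut.conj h₀).injective hpow
  have h4 := congrArg (MulAut.conj r') h3
  rw [map_mul, map_mul] at h4
  have f1 : MulAut.conj r' (MulAut.conj (q⁻¹ * r')⁻¹ u) = MulAut.conj q u := by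
    rw [← MulAut.mul_apply, ← map_mul]
    have e : r' * (q⁻¹ * r')⁻¹ = q := by group
    rw [e]
  have f2 : MulAut.conj r' (MulAut.conj (q⁻¹ * q⁻¹) u)
      = MulAut.conj (q⁻¹ * q⁻¹) u * MulAut.conj q⁻¹ u := by
    rw [← MulAut.mul_apply, ← map_mul, hHab r' hr' _ hs2, map_mul, MulAut.mul_apply, hru, map_mul,
      ← MulAut.mul_apply _ (MulAut.conj (q⁻¹ * q⁻¹)) (MulAut.conj q), ← map_mul]
    have e : q⁻¹ * q⁻¹ * q = q⁻¹ := by group
    rw [e]
  have f3 : MulAut.conj r' (MulAut.conj (q⁻¹ * q⁻¹ * r'⁻¹) u) = MulAut.conj (q⁻¹ * q⁻¹) u := by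
    rw [← MulAut.mul_apply, ← map_mul]
    have e : r' * (q⁻¹ * q⁻¹ * r'⁻¹) = q⁻¹ * q⁻¹ := by
      rw [← mul_assoc, hHab r' hr' _ hs2, mul_assoc, mul_inv_cancel, mul_one]
    rw [e]
  rw [f1, f2, f3, hru] at h4
  have hE : MulAut.conj (q⁻¹ * q⁻¹) u ∈ U := hHU _ hs2 _ hu
  have g1 : u * MulAut.conj q u * MulAut.conj q u = u := by
    rw [mul_assoc, ← map_mul, hu2, map_one, mul_one]
  have g2 : MulAut.conj (q⁻¹ * q⁻¹) u * MulAut.conj q⁻¹ u * MulAut.conj (q⁻¹ * q⁻¹) u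
      = MulAut.conj q⁻¹ u := by
    rw [hUab _ hE _ hA, mul_assoc, ← map_mul, hu2, map_one, mul_one]
  rw [g1, g2] at h4
  exact h4.symm

namespace ZPt

variable {a b c : Ω} {U : Subgroup G} {v x u : G}

/-- The key fact: the element of `U` carrying `b` to the fixed point of `v` is an involution. -/
theorem x_sq (Z : ZSetup a b U v) (P : ZPt a b U v c x u) [Finite G] [Finite Ω]
    (hH : ∃ q ∈ zH G a b, q ≠ 1) : x * x = 1 := by
  by_contra hx2
  have hxne : x ≠ 1 := by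
    intro h
    rw [h] at hx2
    exact hx2 (mul_one 1)
  obtain ⟨j, hj, hxj1, hxj2⟩ : ∃ j : ℕ, Even j ∧ x ^ j ≠ 1 ∧ x ^ j * x ^ j = 1 := by
    obtain ⟨n, hn⟩ := Z.hU2 ⟨x, P.hx⟩
    have hn' : x ^ (2 ^ n) = 1 := by
      have := congrArg Subtype.val hn
      simpa using this
    classical
    have hex : ∃ n : ℕ, x ^ (2 ^ n) = 1 := ⟨n, hn'⟩
    obtain ⟨m, hm, hmin⟩ : ∃ m, x ^ (2 ^ m) = 1 ∧ ∀ k < m, x ^ (2 ^ k) ≠ 1 :=
      ⟨Nat.find hex, Nat.find_spec hex, fun k hk => Nat.find_min hex hk⟩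
    have hm2 : 2 ≤ m := by
      by_contra hlt
      push Not at hlt
      interval_cases m
      · exact hxne (by simpa using hm)
      · exact hx2 (by simpa [pow_two] using hm)
    refine ⟨2 ^ (m - 1), ?_, hmin (m - 1) (by omega), ?_⟩
    · exact Nat.even_pow.mpr ⟨even_two, by omega⟩
    · rw [← pow_add, ← two_mul, ← pow_succ']
      have e : m - 1 + 1 = m := by omega
      rw [e]; exact hm
  have hxjU : x ^ j ∈ U := U.pow_mem P.hx j
  obtain ⟨h₀, hh₀, hxj⟩ := invol_conj Z P hxjU hxj1 hxj2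
  obtain ⟨q, hq, hq1⟩ := hH
  have huU := u_mem Z P
  have hu1 := u_ne_one Z P
  have hu2 := u_sq Z P
  have hqu : MulAut.conj q u ≠ u := fun h => hq1 (H_free Z hq huU hu1 h)
  have hqU : MulAut.conj q u ∈ U := Z.conj_mem hq huU
  have hq2 : MulAut.conj q u * MulAut.conj q u = 1 := by rw [← map_mul, hu2, map_one]
  have hwU : u * MulAut.conj q u ∈ U := U.mul_mem huU hqU
  have hw1 : u * MulAut.conj q u ≠ 1 := by
    intro h
    apply hqu
    have h1 : MulAut.conj q u = u⁻¹ := (eq_inv_of_mul_eq_one_right h)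
    rw [h1]; exact inv_eq_of_mul_eq_one_right hu2
  have hw2 : (u * MulAut.conj q u) * (u * MulAut.conj q u) = 1 := by
    have hc := Z.hUab _ huU _ hqU
    calc (u * MulAut.conj q u) * (u * MulAut.conj q u)
        = u * (MulAut.conj q u * u) * MulAut.conj q u := by group
      _ = u * (u * MulAut.conj q u) * MulAut.conj q u := by rw [hc]
      _ = (u * u) * (MulAut.conj q u * MulAut.conj q u) := by group
      _ = 1 := by rw [hu2, hq2, one_mul]
  obtain ⟨r', hr', hru⟩ := invol_conj Z P hwU hw1 hw2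
  have hqi : q⁻¹ ∈ zH G a b := (zH G a b).inv_mem hq
  have hr : q⁻¹ * r' ∈ zH G a b := (zH G a b).mul_mem hqi hr'
  have hxi : x⁻¹ ∈ U := U.inv_mem P.hx
  have hru2 : MulAut.conj (q⁻¹ * r') u = u * MulAut.conj q⁻¹ u := by
    calc MulAut.conj (q⁻¹ * r') u = MulAut.conj q⁻¹ (MulAut.conj r' u) := by
          rw [map_mul, MulAut.mul_apply]
      _ = MulAut.conj q⁻¹ u * MulAut.conj q⁻¹ (MulAut.conj q u) := by rw [← hru, map_mul]
      _ = MulAut.conj q⁻¹ u * u := by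
          rw [← MulAut.mul_apply, ← map_mul, inv_mul_cancel, map_one, MulAut.one_apply]
      _ = u * MulAut.conj q⁻¹ u := (Z.hUab _ huU _ (Z.conj_mem hqi huU)).symm
  have hW1 := w1 Z P hq hr hru2
  have hW2 := w2 Z P hq hr' hru.symm
  have hs1 : (q⁻¹ * r')⁻¹ ∈ zH G a b := (zH G a b).inv_mem hr
  have hs2 : q⁻¹ * q⁻¹ ∈ zH G a b := (zH G a b).mul_mem hqi hqi
  have hs3 : q⁻¹ * q⁻¹ * r'⁻¹ ∈ zH G a b := (zH G a b).mul_mem hs2 ((zH G a b).inv_mem hr')
  have hstar : x * MulAut.conj (q⁻¹ * r')⁻¹ x⁻¹ =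
      MulAut.conj q⁻¹ u * MulAut.conj (q⁻¹ * q⁻¹) x * MulAut.conj (q⁻¹ * q⁻¹ * r'⁻¹) x⁻¹ := by
    apply Z.eq_of_smul (U.mul_mem P.hx (Z.conj_mem hs1 hxi))
      (U.mul_mem (U.mul_mem (Z.conj_mem hqi huU) (Z.conj_mem hs2 P.hx)) (Z.conj_mem hs3 hxi))
      Z.hab.symm
    rw [← hW1, hW2]
  have hHab : ∀ s ∈ zH G a b, ∀ s' ∈ zH G a b, s * s' = s' * s :=
    fun s hs s' hs' => H_comm Z P hs hs'
  have hHU : ∀ s ∈ zH G a b, ∀ z ∈ U, MulAut.conj s z ∈ U := fun s hs z hz => Z.conj_mem hs hz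
  have hfin := zass_final Z.hUab hHab hHU P.hx huU hu2 hj hq hr' hh₀ hxj hru.symm hstar
  have hq' := H_free Z hqi huU hu1 hfin
  exact hq1 (inv_eq_one.mp hq')

end ZPt

/-- The structure equation: there is exactly one nonidentity `u₀ ∈ U` with
`v u₀ v = u₀ v u₀`. -/
theorem zass_structure {a b : Ω} {U : Subgroup G} {v : G} (Z : ZSetup a b U v) [Finite G]
    [Finite Ω] (hH : ∃ q ∈ zH G a b, q ≠ 1) :
    ∃! u₀ : G, u₀ ∈ U ∧ u₀ ≠ 1 ∧ v * u₀ * v = u₀ * v * u₀ := by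
  obtain ⟨c, hc⟩ := Z.exists_fixed_of_sq Z.hv2
  have hca : c ≠ a := by
    intro h
    rw [h] at hc
    exact Z.hab (hc.symm.trans Z.hva)
  obtain ⟨x, hx, hxb⟩ := Z.hex b c Z.hab.symm hca
  have P : ZPt a b U v c x (v * x⁻¹ * v * x * v) := ⟨hc, hx, hxb, rfl⟩
  have hx2 := ZPt.x_sq Z P hH
  have hxinv : x⁻¹ = x := inv_eq_of_mul_eq_one_right hx2
  have hcb := ZPt.hcb Z P
  have hx1 : x ≠ 1 := by
    intro h
    rw [h, one_smul] at hxb
    exact hcb hxb.symm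
  have hux : v * x⁻¹ * v * x * v = x := by
    apply Z.eq_of_smul (ZPt.u_mem Z P) hx Z.hab.symm
    simp only [mul_smul]
    rw [Z.hvb, Z.hUa x hx, Z.hva, hxinv, hxb, hc]
  have hrel : v * x * v = x * v * x := by
    have h := ZPt.o2 Z P
    rw [hux] at h
    rw [h, mul_assoc (x * v * x), Z.hv2, mul_one]
  have hvv : ∀ g : G, v * (v * g) = g := fun g => by rw [← mul_assoc, Z.hv2, one_mul]
  refine ⟨x, ⟨hx, hx1, hrel⟩, ?_⟩
  rintro y ⟨hy, hy1, hyrel⟩
  have hy2 : y * y = 1 := by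
    have e : v * (y * y) * v = y * (v * (y * y) * v) * y := by
      have h1 : v * (y * y) * v = (v * y * v) * (v * y * v) := by simp only [mul_assoc, hvv]
      have h2 : (y * v * y) * (y * v * y) = y * (v * (y * y) * v) * y := by
        simp only [mul_assoc]
      calc v * (y * y) * v = (v * y * v) * (v * y * v) := h1
        _ = (y * v * y) * (y * v * y) := by rw [hyrel]
        _ = y * (v * (y * y) * v) * y := h2
    have hd : y • ((v * (y * y) * v) • a) = (v * (y * y) * v) • a := by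
      conv_rhs => rw [e]
      rw [mul_smul (y * (v * (y * y) * v)) y, Z.hUa y hy, mul_smul y]
    have hda : (v * (y * y) * v) • a = a := by
      by_contra hne
      exact hy1 (Z.huniq y hy _ hne hd)
    have hyb : (y * y) • b = b := by
      simp only [mul_smul] at hda
      rw [Z.hva] at hda
      have := congrArg (fun t => v • t) hda
      simp only [Z.vv_smul, Z.hva] at this
      rw [mul_smul]; exact this
    exact Z.huniq _ (U.mul_mem hy hy) b Z.hab.symm hyb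
  have hyc : y • c = b := by
    have h1 : (v * y * v) • (y • c) = y • c := by
      rw [hyrel]
      simp only [mul_smul]
      rw [← mul_smul y y, hy2, one_smul, hc]
    have h2 : y • (v • y • c) = v • y • c := by
      have := congrArg (fun t => v • t) h1
      simp only [mul_smul, Z.vv_smul] at this
      exact this
    have h3 : v • y • c = a := by
      by_contra hne
      exact hy1 (Z.huniq y hy _ hne h2)
    have := congrArg (fun t => v • t) h3
    simp only [Z.vv_smul, Z.hva] at this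
    exact this
  have hyx : y * x = 1 :=
    Z.huniq _ (U.mul_mem hy hx) b Z.hab.symm (by rw [mul_smul, hxb, hyc])
  calc y = x⁻¹ := eq_inv_of_mul_eq_one_left hyx
    _ = x := hxinv

end Cfsg.Agent.Lib.Helper83
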