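import Mathlib
import Cfsg.Agent.Lib.Helper83.Zass

set_option autoImplicit false

namespace Cfsg.Agent.Lib.Helper83

variable {G Ω : Type*} [Group G] [MulAction G Ω]

theorem isPGroup_two_zpowers_of_sq {g : G} (hg : g * g = 1) : IsPGroup 2 (Subgroup.zpowers g) := by
  rintro ⟨h, hh⟩
  obtain ⟨n, rfl⟩ := Subgroup.mem_zpowers_iff.mp hh
  refine ⟨1, Subtype.ext ?_⟩
  simp only [pow_one, Subgroup.coe_pow, Subgroup.coe_one]
  rw [← zpow_natCast, ← zpow_mul, mul_comm, zpow_mul, zpow_natCast, pow_two, hg, one_zpow]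

/-- On a set of odd size an element of square one has a fixed point. -/
theorem odd_exists_fixed [Finite Ω] (hodd : Nat.card Ω % 2 = 1) {g : G} (hg : g * g = 1) :
    ∃ c : Ω, g • c = c := by
  have hP := isPGroup_two_zpowers_of_sq hg
  have h := hP.card_modEq_card_fixedPoints Ω
  have hne : Nat.card (MulAction.fixedPoints (Subgroup.zpowers g) Ω) ≠ 0 := by
    intro h0
    rw [h0] at h
    have : Nat.card Ω % 2 = 0 := h
    omega
  have hne' : Nonempty (MulAction.fixedPoints (Subgroup.zpowers g) Ω) := by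
    by_contra hemp
    rw [not_nonempty_iff] at hemp
    exact hne Nat.card_of_isEmpty
  obtain ⟨⟨c, hc⟩⟩ := hne'
  exact ⟨c, hc ⟨g, Subgroup.mem_zpowers g⟩⟩

/-- On a set of odd size, with no nonidentity element fixing three points, an element of square
one fixing two points is trivial. -/
theorem odd_invol_two_fixed [Finite Ω] (hodd : Nat.card Ω % 2 = 1)
    (h3 : ∀ g : G, ∀ p q r : Ω, p ≠ q → q ≠ r → p ≠ r → g • p = p → g • q = q → g • r = r → g = 1)
    {p : G} {a b : Ω} (hab : a ≠ b) (hpa : p • a = a) (hpb : p • b = b) (hp2 : p * p = 1) :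
    p = 1 := by
  have hP := isPGroup_two_zpowers_of_sq hp2
  have h := hP.card_modEq_card_fixedPoints Ω
  have hmem : ∀ d : Ω, p • d = d → d ∈ MulAction.fixedPoints (Subgroup.zpowers p) Ω := by
    intro d hd
    rw [MulAction.mem_fixedPoints]
    rintro ⟨h, hh⟩
    have : Subgroup.zpowers p ≤ MulAction.stabilizer G d :=
      (Subgroup.zpowers_le).mpr (MulAction.mem_stabilizer_iff.mpr hd)
    exact MulAction.mem_stabilizer_iff.mp (this hh)
  by_contra hp1
  have hset : MulAction.fixedPoints (Subgroup.zpowers p) Ω = {a, b} := by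
    ext d
    constructor
    · intro hd
      have hpd : p • d = d := hd ⟨p, Subgroup.mem_zpowers p⟩
      by_contra hdab
      rw [Set.mem_insert_iff, Set.mem_singleton_iff] at hdab
      push Not at hdab
      exact hp1 (h3 p a b d hab (fun h => hdab.2 h.symm) (fun h => hdab.1 h.symm) hpa hpb hpd)
    · intro hd
      rcases hd with rfl | hd
      · exact hmem _ hpa
      · rw [Set.mem_singleton_iff] at hd
        rw [hd]; exact hmem _ hpb
  rw [hset] at h
  have h2 : Nat.card ({a, b} : Set Ω) = 2 := by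
    rw [Nat.card_coe_set_eq, Set.ncard_pair hab]
  rw [h2] at h
  have : Nat.card Ω % 2 = 0 := h
  omega

/-- Odd-degree set-up: `v` is an element of square one interchanging `a` and `b`. -/
structure ZOdd (a b : Ω) (v : G) : Prop where
  hodd : Nat.card Ω % 2 = 1
  h3 : ∀ g : G, ∀ p q r : Ω, p ≠ q → q ≠ r → p ≠ r → g • p = p → g • q = q → g • r = r → g = 1
  hv2 : v * v = 1
  hva : v • a = b
  hvb : v • b = a
  hab : a ≠ b

namespace ZOdd

variable {a b : Ω} {v : G}

theorem vinv (Z : ZOdd a b v) : v⁻¹ = v := inv_eq_of_mul_eq_one_right Z.hv2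

theorem v_ne_one (Z : ZOdd a b v) : v ≠ 1 := by
  intro h
  have := Z.hva
  rw [h, one_smul] at this
  exact Z.hab this

theorem exists_fix (Z : ZOdd a b v) [Finite Ω] :
    ∃ c : Ω, v • c = c ∧ c ≠ a ∧ c ≠ b ∧ ∀ d : Ω, v • d = d → d = c := by
  obtain ⟨c, hc⟩ := odd_exists_fixed Z.hodd Z.hv2
  refine ⟨c, hc, ?_, ?_, ?_⟩
  · intro h
    rw [h, Z.hva] at hc
    exact Z.hab hc.symm
  · intro h
    rw [h, Z.hvb] at hc
    exact Z.hab hc
  · intro d hd
    by_contra hdc
    exact v_ne_one Z (odd_invol_two_fixed Z.hodd Z.h3 hdc hd hc Z.hv2)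

theorem H_surj (Z : ZOdd a b v) [Finite G] [Finite Ω] {k : G}
    (hk : k ∈ zH G a b) : ∃ p ∈ zH G a b, v * p * v * p⁻¹ = k := by
  obtain ⟨c, hc, hca, hcb, hcu⟩ := exists_fix Z
  have hmem : ∀ p : G, p ∈ zH G a b → v * p * v * p⁻¹ ∈ zH G a b := by
    intro p hp
    obtain ⟨hpa, hpb⟩ := mem_zH.mp hp
    have hpa' : p⁻¹ • a = a := by rw [inv_smul_eq_iff, hpa]
    have hpb' : p⁻¹ • b = b := by rw [inv_smul_eq_iff, hpb]
    rw [mem_zH]
    constructor
    · simp only [mul_smul]; rw [hpa', Z.hva, hpb, Z.hvb]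
    · simp only [mul_smul]; rw [hpb', Z.hvb, hpa, Z.hva]
  obtain ⟨f, hf⟩ : ∃ f : zH G a b → zH G a b, ∀ p, (f p : G) = v * p * v * (p : G)⁻¹ :=
    ⟨fun p => ⟨v * p * v * (p : G)⁻¹, hmem p p.2⟩, fun p => rfl⟩
  have hinj : Function.Injective f := by
    rintro ⟨p, hp⟩ ⟨p', hp'⟩ h
    have h1 : v * p * v * p⁻¹ = v * p' * v * p'⁻¹ := by
      have := congrArg Subtype.val h
      rw [hf, hf] at this
      exact this
    have h3 : p * v * p⁻¹ = p' * v * p'⁻¹ := by
      have := congrArg (fun t => v * t) h1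
      simp only [← mul_assoc, Z.hv2, one_mul] at this
      exact this
    have h2 : (p'⁻¹ * p) * v = v * (p'⁻¹ * p) := by
      calc (p'⁻¹ * p) * v = p'⁻¹ * (p * v * p⁻¹) * p := by group
        _ = p'⁻¹ * (p' * v * p'⁻¹) * p := by rw [h3]
        _ = v * (p'⁻¹ * p) := by group
    have hmc : (p'⁻¹ * p) • c = c := by
      apply hcu
      rw [← mul_smul, ← h2, mul_smul, hc]
    have hm : p'⁻¹ * p ∈ zH G a b := (zH G a b).mul_mem ((zH G a b).inv_mem hp') hp
    obtain ⟨hma, hmb⟩ := mem_zH.mp hm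
    have hm1 : p'⁻¹ * p = 1 := Z.h3 _ a b c Z.hab hcb.symm hca.symm hma hmb hmc
    exact Subtype.ext (inv_mul_eq_one.mp hm1).symm
  have hsurj : Function.Surjective f := Finite.surjective_of_injective hinj
  obtain ⟨⟨p, hp⟩, hfp⟩ := hsurj ⟨k, hk⟩
  refine ⟨p, hp, ?_⟩
  have := congrArg Subtype.val hfp
  rw [hf] at this
  exact this

/-- `v` inverts the two-point stabiliser. -/
theorem v_inv_H (Z : ZOdd a b v) [Finite G] [Finite Ω] {k : G}
    (hk : k ∈ zH G a b) : v * k * v = k⁻¹ := by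
  obtain ⟨p, hp, hk'⟩ := H_surj Z hk
  rw [← hk']
  simp only [mul_inv_rev, inv_inv, Z.vinv, ← mul_assoc, Z.hv2, one_mul]

/-- The two-point stabiliser is abelian. -/
theorem H_comm (Z : ZOdd a b v) [Finite G] [Finite Ω] {k k' : G}
    (hk : k ∈ zH G a b) (hk' : k' ∈ zH G a b) : k * k' = k' * k := by
  have h1 := v_inv_H Z hk
  have h2 := v_inv_H Z hk'
  have h3 := v_inv_H Z ((zH G a b).mul_mem hk hk')
  have hvv : ∀ y : G, v * (v * y) = y := fun y => by rw [← mul_assoc, Z.hv2, one_mul]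
  have h4 : v * (k * k') * v = (v * k * v) * (v * k' * v) := by
    simp only [mul_assoc, hvv]
  rw [h3, h1, h2, mul_inv_rev] at h4
  have := congrArg (fun t => t⁻¹) h4
  simp only [mul_inv_rev, inv_inv] at this
  exact this

/-- Every element of the two-point stabiliser is a square there. -/
theorem H_sq_surj (Z : ZOdd a b v) [Finite G] [Finite Ω] {h : G}
    (hh : h ∈ zH G a b) : ∃ k ∈ zH G a b, k * k = h := by
  obtain ⟨f, hf⟩ : ∃ f : zH G a b → zH G a b, ∀ p, (f p : G) = (p : G) * (p : G) :=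
    ⟨fun p => p * p, fun p => rfl⟩
  have hinj : Function.Injective f := by
    rintro ⟨p, hp⟩ ⟨p', hp'⟩ h
    have h1 : p * p = p' * p' := by
      have := congrArg Subtype.val h
      rw [hf, hf] at this
      exact this
    have hm : p'⁻¹ * p ∈ zH G a b := (zH G a b).mul_mem ((zH G a b).inv_mem hp') hp
    obtain ⟨hma, hmb⟩ := mem_zH.mp hm
    have hc := H_comm Z hp ((zH G a b).inv_mem hp')
    have hm2 : (p'⁻¹ * p) * (p'⁻¹ * p) = 1 := by
      calc (p'⁻¹ * p) * (p'⁻¹ * p) = p'⁻¹ * (p * p'⁻¹) * p := by group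
        _ = p'⁻¹ * (p'⁻¹ * p) * p := by rw [hc]
        _ = (p' * p')⁻¹ * (p * p) := by group
        _ = 1 := by rw [h1, inv_mul_cancel]
    have hm1 := odd_invol_two_fixed Z.hodd Z.h3 Z.hab hma hmb hm2
    exact Subtype.ext (inv_mul_eq_one.mp hm1).symm
  have hsurj : Function.Surjective f := Finite.surjective_of_injective hinj
  obtain ⟨⟨k, hk⟩, hfk⟩ := hsurj ⟨h, hh⟩
  refine ⟨k, hk, ?_⟩
  have := congrArg Subtype.val hfk
  rw [hf] at this
  exact this

end ZOdd

/-- In a 2-transitive group of odd degree with trivial three-point stabilisers, any two points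
are interchanged by an involution. -/
theorem exists_swap_invol [Finite G] [Finite Ω]
    (h2t : MulAction.IsMultiplyPretransitive G Ω 2) (hodd : Nat.card Ω % 2 = 1)
    (h3 : ∀ g : G, ∀ p q r : Ω, p ≠ q → q ≠ r → p ≠ r → g • p = p → g • q = q → g • r = r → g = 1)
    {a b : Ω} (hab : a ≠ b) : ∃ v : G, v * v = 1 ∧ v • a = b ∧ v • b = a := by
  obtain ⟨g, hga, hgb⟩ := MulAction.is_two_pretransitive_iff.mp h2t hab hab.symm
  -- `g` has even order
  have hgg : (g * g) • a = a := by rw [mul_smul, hga, hgb]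
  have hpos : 0 < orderOf g := orderOf_pos g
  have heven : Even (orderOf g) := by
    by_contra hne
    rw [Nat.not_even_iff_odd] at hne
    obtain ⟨k, hk⟩ := hne
    have h1 : g ^ (orderOf g + 1) = g := by rw [pow_succ, pow_orderOf_eq_one, one_mul]
    have h2 : g ^ (orderOf g + 1) = (g * g) ^ (k + 1) := by
      rw [hk, ← pow_two, ← pow_mul]
      congr 1
    have h3' : (g * g) ^ (k + 1) ∈ MulAction.stabilizer G a :=
      Subgroup.pow_mem _ (MulAction.mem_stabilizer_iff.mpr hgg) _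
    rw [← h2, h1, MulAction.mem_stabilizer_iff, hga] at h3'
    exact hab h3'.symm
  obtain ⟨k, hk⟩ := heven
  have hk0 : 0 < k := by omega
  have ht2 : g ^ k * g ^ k = 1 := by rw [← pow_add, ← hk, pow_orderOf_eq_one]
  have ht1 : g ^ k ≠ 1 := pow_ne_one_of_lt_orderOf (by omega) (by omega)
  obtain ⟨e, he⟩ := odd_exists_fixed hodd ht2
  obtain ⟨d, hde⟩ : ∃ d : Ω, d ≠ e := by
    by_cases h : a = e
    · exact ⟨b, fun hb => hab (h.trans hb.symm)⟩
    · exact ⟨a, h⟩
  have htd : g ^ k • d ≠ d := fun h => ht1 (odd_invol_two_fixed hodd h3 hde h he ht2)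
  obtain ⟨g', hg'd, hg'td⟩ := MulAction.is_two_pretransitive_iff.mp h2t htd.symm hab
  have hg'a : g'⁻¹ • a = d := by rw [inv_smul_eq_iff, hg'd]
  have hg'b : g'⁻¹ • b = g ^ k • d := by rw [inv_smul_eq_iff, hg'td]
  refine ⟨g' * g ^ k * g'⁻¹, ?_, ?_, ?_⟩
  · calc g' * g ^ k * g'⁻¹ * (g' * g ^ k * g'⁻¹) = g' * (g ^ k * g ^ k) * g'⁻¹ := by group
      _ = 1 := by rw [ht2, mul_one, mul_inv_cancel]
  · rw [mul_smul, mul_smul, hg'a, hg'td]
  · rw [mul_smul, mul_smul, hg'b, ← mul_smul (g ^ k), ht2, one_smul, hg'd]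

end Cfsg.Agent.Lib.Helper83
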