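import Mathlib
import Cfsg.Agent.S0035
import Cfsg.Agent.S0042
import Cfsg.Agent.Lib.Helper1.FpfSylow
import Cfsg.Agent.Lib.Helper83.ZassOdd
import Cfsg.Agent.Lib.Helper83.ZassInv
import Cfsg.Agent.Lib.Helper83.FieldFix

set_option autoImplicit false

open scoped Pointwise

namespace Cfsg.Agent.Lib.Helper83

section ZassRegGeneral

/-- An element of square one normalising a finite subgroup `N` and centralising no nonidentity
element of it inverts `N`. -/
theorem inverts_of_fpf_invol {G : Type*} [Group G] (N : Subgroup G) [Finite N] {w : G}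
    (hw2 : w * w = 1) (hnorm : ∀ n ∈ N, w * n * w⁻¹ ∈ N)
    (hfpf : ∀ c ∈ N, w * c * w⁻¹ = c → c = 1) : ∀ h ∈ N, w * h * w⁻¹ = h⁻¹ := by
  have hmem : ∀ p : G, p ∈ N → p⁻¹ * (w * p * w⁻¹) ∈ N := fun p hp =>
    N.mul_mem (N.inv_mem hp) (hnorm p hp)
  have hφ : ∀ h ∈ N, ∃ p ∈ N, p⁻¹ * (w * p * w⁻¹) = h := by
    obtain ⟨f, hf⟩ : ∃ f : N → N, ∀ p, (f p : G) = (p : G)⁻¹ * (w * p * w⁻¹) :=
      ⟨fun p => ⟨(p : G)⁻¹ * (w * p * w⁻¹), hmem p p.2⟩, fun p => rfl⟩
    have hinj : Function.Injective f := by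
      rintro ⟨p, hp⟩ ⟨p', hp'⟩ h
      have h1 : p⁻¹ * (w * p * w⁻¹) = p'⁻¹ * (w * p' * w⁻¹) := by
        have := congrArg Subtype.val h
        rw [hf, hf] at this
        exact this
      have h2 : w * (p * p'⁻¹) * w⁻¹ = p * p'⁻¹ := by
        calc w * (p * p'⁻¹) * w⁻¹ = p * (p⁻¹ * (w * p * w⁻¹)) * (w * p'⁻¹ * w⁻¹) := by group
          _ = p * (p'⁻¹ * (w * p' * w⁻¹)) * (w * p'⁻¹ * w⁻¹) := by rw [h1]
          _ = p * p'⁻¹ := by group
      have h3 := hfpf _ (N.mul_mem hp (N.inv_mem hp')) h2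
      exact Subtype.ext (mul_inv_eq_one.mp h3)
    have hsurj : Function.Surjective f := Finite.injective_iff_surjective.mp hinj
    intro h hh
    obtain ⟨p, hp⟩ := hsurj ⟨h, hh⟩
    refine ⟨p, p.2, ?_⟩
    rw [← hf, hp]
  intro h hh
  obtain ⟨p, hp, rfl⟩ := hφ h hh
  calc w * (p⁻¹ * (w * p * w⁻¹)) * w⁻¹
      = (w * p⁻¹ * w⁻¹) * ((w * w) * p * (w * w)⁻¹) := by group
    _ = (w * p⁻¹ * w⁻¹) * p := by rw [hw2]; group
    _ = (p⁻¹ * (w * p * w⁻¹))⁻¹ := by group

/-- Cyclicity of all Sylow subgroups is invariant under isomorphism. -/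
theorem sylow_cyclic_of_equiv {A B : Type*} [Group A] [Group B] (e : A ≃* B)
    (h : ∀ (p : ℕ) [Fact p.Prime] (Q : Sylow p B), IsCyclic (Q : Subgroup B)) :
    ∀ (p : ℕ) [Fact p.Prime] (P : Sylow p A), IsCyclic (P : Subgroup A) := by
  intro p _ P
  have hp : IsPGroup p ((P : Subgroup A).map e.toMonoidHom) := P.isPGroup'.map _
  obtain ⟨Q, hQ⟩ := hp.exists_le_sylow
  have hQc := h p Q
  obtain ⟨f, hf⟩ : ∃ f : ↥(P : Subgroup A) →* ↥(Q : Subgroup B), ∀ x, (f x : B) = e (x : A) :=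
    ⟨(e.toMonoidHom.comp (P : Subgroup A).subtype).codRestrict (Q : Subgroup B)
      (fun x => hQ (Subgroup.mem_map_of_mem _ x.2)), fun x => rfl⟩
  apply isCyclic_of_injective f
  intro x y hxy
  have h1 : e (x : A) = e (y : A) := by rw [← hf, ← hf, hxy]
  exact Subtype.ext (e.injective h1)

/-- A finite nilpotent group with cyclic Sylow subgroups is commutative. -/
theorem comm_of_nilpotent_of_sylow_cyclic {A : Type*} [Group A] [Finite A]
    (hnil : Group.IsNilpotent A)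
    (hsyl : ∀ (p : ℕ) [Fact p.Prime] (Q : Sylow p A), IsCyclic (Q : Subgroup A)) :
    ∀ x y : A, x * y = y * x := by
  have h5 := (Group.isNilpotent_of_finite_tfae (G := A)).out 0 4
  obtain ⟨e⟩ := h5.mp hnil
  intro x y
  have key : e.symm x * e.symm y = e.symm y * e.symm x := by
    funext p P
    simp only [Pi.mul_apply]
    have hpF : Fact (p : ℕ).Prime := ⟨Nat.prime_of_mem_primeFactors p.2⟩
    have hc := hsyl p P
    obtain ⟨g, hg⟩ := IsCyclic.exists_generator (α := (P : Subgroup A))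
    obtain ⟨i, hi⟩ := Subgroup.mem_zpowers_iff.mp (hg (e.symm x p P))
    obtain ⟨j, hj⟩ := Subgroup.mem_zpowers_iff.mp (hg (e.symm y p P))
    rw [← hi, ← hj, ← zpow_add, ← zpow_add, add_comm]
  have h6 := congrArg e key
  rw [map_mul, map_mul, e.apply_symm_apply, e.apply_symm_apply] at h6
  exact h6

end ZassRegGeneral

section ZassReg

variable {G Ω : Type*} [Group G] [MulAction G Ω]

/-- The Frobenius kernel of a point stabiliser in the Zassenhaus set-up. -/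
theorem zass_frob [Finite G] {a b : Ω} (hab : a ≠ b)
    (h2 : MulAction.IsMultiplyPretransitive G Ω 2)
    (h3 : ∀ g : G, ∀ a b c : Ω, a ≠ b → b ≠ c → a ≠ c → g • a = a → g • b = b → g • c = c → g = 1)
    (hne : ∃ g : G, g ≠ 1 ∧ g • a = a ∧ g • b = b)
    (hc : ∃ c : Ω, c ≠ a ∧ c ≠ b) :
    ∃ K : Subgroup ↥(MulAction.stabilizer G a), K.Normal ∧ K ≠ ⊥ ∧ Group.IsNilpotent K ∧
      (∀ g : ↥(MulAction.stabilizer G a), ∃ k ∈ K, (k : G) • b = (g : G) • b) ∧
      (∀ k ∈ K, k ≠ 1 → ∀ ω : Ω, ω ≠ a → (k : G) • ω ≠ ω) ∧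
      (∀ h : ↥(MulAction.stabilizer G a), (h : G) • b = b → h ≠ 1 →
        ∀ k ∈ K, h * k = k * h → k = 1) := by
  obtain ⟨Ga, hGa⟩ : ∃ Ga : Subgroup G, Ga = MulAction.stabilizer G a := ⟨_, rfl⟩
  obtain ⟨H, hH⟩ : ∃ H : Subgroup G,
    H = MulAction.stabilizer G a ⊓ MulAction.stabilizer G b := ⟨_, rfl⟩
  have hHle : H ≤ Ga := by rw [hH, hGa]; exact inf_le_left
  have memH : ∀ g : G, g ∈ H ↔ g • a = a ∧ g • b = b := by
    intro g
    rw [hH, Subgroup.mem_inf, MulAction.mem_stabilizer_iff, MulAction.mem_stabilizer_iff]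
  have memGa : ∀ g : G, g ∈ Ga ↔ g • a = a := by
    intro g
    rw [hGa, MulAction.mem_stabilizer_iff]
  rw [← hGa]
  have hFC : Cfsg.IsFrobeniusComplement (H.subgroupOf Ga) := by
    refine ⟨?_, ?_, ?_⟩
    · obtain ⟨g, hg1, hga, hgb⟩ := hne
      intro hbot
      have hmem : (⟨g, (memGa g).mpr hga⟩ : Ga) ∈ H.subgroupOf Ga :=
        Subgroup.mem_subgroupOf.mpr ((memH g).mpr ⟨hga, hgb⟩)
      rw [hbot, Subgroup.mem_bot] at hmem
      exact hg1 (congrArg Subtype.val hmem)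
    · obtain ⟨c, hca, hcb⟩ := hc
      obtain ⟨t, hta, htb⟩ := MulAction.is_two_pretransitive_iff.mp h2 hab (Ne.symm hca)
      intro htop
      have hmem : (⟨t, (memGa t).mpr hta⟩ : Ga) ∈ H.subgroupOf Ga := by
        rw [htop]; exact Subgroup.mem_top _
      have h4 := ((memH t).mp (Subgroup.mem_subgroupOf.mp hmem)).2
      exact hcb (by rw [← htb]; exact h4)
    · intro g hg
      rw [eq_bot_iff]
      rintro y ⟨hy1, hy2⟩
      rw [Subgroup.mem_bot]
      have hyH := (memH _).mp (Subgroup.mem_subgroupOf.mp hy1)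
      have hy2' : g⁻¹ * y * g ∈ H.subgroupOf Ga := by
        have h4 := Subgroup.mem_pointwise_smul_iff_inv_smul_mem.mp hy2
        simpa [MulAut.smul_def] using h4
      have hy2H := (memH _).mp (Subgroup.mem_subgroupOf.mp hy2')
      have hga : (g : G) • a = a := (memGa _).mp g.2
      have hgb : (g : G) • b ≠ b := by
        intro hgb
        apply hg
        exact Subgroup.mem_subgroupOf.mpr ((memH _).mpr ⟨hga, hgb⟩)
      have hygb : (y : G) • ((g : G) • b) = (g : G) • b := by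
        have h4 := hy2H.2
        simp only [Subgroup.coe_mul, Subgroup.coe_inv, mul_smul] at h4
        rw [inv_smul_eq_iff] at h4
        exact h4
      have hgba : (g : G) • b ≠ a := by
        intro h
        have h5 : (g : G) • b = (g : G) • a := by rw [hga]; exact h
        exact hab (smul_left_cancel _ h5).symm
      have h6 := h3 (y : G) a b ((g : G) • b) hab (Ne.symm hgb) (Ne.symm hgba) hyH.1 hyH.2 hygb
      exact Subtype.ext h6
  obtain ⟨K, hKk, hKn, hKc⟩ := Cfsg.Agent.S0035.result (H.subgroupOf Ga) hFC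
  have hKnil := Cfsg.Agent.S0042.kernel_nilpotent (H.subgroupOf Ga) hFC K hKk
  have hKbot : K ≠ ⊥ := by
    intro h
    rw [h] at hKc
    exact hFC.2.1 (Subgroup.isComplement'_bot_left.mp hKc)
  refine ⟨K, hKn, hKbot, hKnil, ?_, ?_, ?_⟩
  · intro g
    obtain ⟨⟨k, h⟩, hkh⟩ := hKc.2 g
    refine ⟨k, k.2, ?_⟩
    have h4 : ((k : Ga) : G) * ((h : Ga) : G) = (g : G) := congrArg Subtype.val hkh
    have h5 : ((h : Ga) : G) • b = b := ((memH _).mp (Subgroup.mem_subgroupOf.mp h.2)).2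
    rw [← h4, mul_smul, h5]
  · intro k hk hk1 ω hω hkω
    have hkK : (k : Ga) ∈ (K : Set Ga) := hk
    rw [hKk] at hkK
    rcases hkK with h | h
    · exact hk1 h
    · obtain ⟨g, hga, hgb⟩ := MulAction.is_two_pretransitive_iff.mp h2 hab (Ne.symm hω)
      apply h ⟨g, (memGa g).mpr hga⟩
      rw [Subgroup.mem_pointwise_smul_iff_inv_smul_mem]
      have h5 : (MulAut.conj (⟨g, (memGa g).mpr hga⟩ : Ga))⁻¹ • k =
          (⟨g, (memGa g).mpr hga⟩ : Ga)⁻¹ * k * ⟨g, (memGa g).mpr hga⟩ := by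
        simp [MulAut.smul_def]
      rw [h5, Subgroup.mem_subgroupOf, memH]
      have hka : (k : G) • a = a := (memGa _).mp k.2
      constructor
      · simp only [Subgroup.coe_mul, Subgroup.coe_inv, mul_smul]
        rw [hga, hka, inv_smul_eq_iff, hga]
      · simp only [Subgroup.coe_mul, Subgroup.coe_inv, mul_smul]
        rw [hgb, hkω, inv_smul_eq_iff, hgb]
  · intro h hhb hh1 k hk hcomm
    have hh : h ∈ H.subgroupOf Ga :=
      Subgroup.mem_subgroupOf.mpr ((memH _).mpr ⟨(memGa _).mp h.2, hhb⟩)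
    by_contra hk1
    have hkH : k ∉ H.subgroupOf Ga := by
      intro hkH
      have h4 : k ∈ K ⊓ H.subgroupOf Ga := ⟨hk, hkH⟩
      rw [hKc.disjoint.eq_bot, Subgroup.mem_bot] at h4
      exact hk1 h4
    have h1 := hFC.2.2 k hkH
    have h2' : h ∈ H.subgroupOf Ga ⊓ MulAut.conj k • H.subgroupOf Ga := by
      refine Subgroup.mem_inf.mpr ⟨hh, ?_⟩
      rw [Subgroup.mem_pointwise_smul_iff_inv_smul_mem]
      have h5 : (MulAut.conj k)⁻¹ • h = h := by
        simp only [MulAut.smul_def, MulAut.conj_inv_apply]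
        rw [mul_assoc, hcomm, inv_mul_cancel_left]
      rw [h5]; exact hh
    rw [h1, Subgroup.mem_bot] at h2'
    exact hh1 h2'

/-- With a regular normal subgroup the degree is even. -/
theorem zass_reg_even [Finite G] [Finite Ω] [FaithfulSMul G Ω] {a b : Ω} (hab : a ≠ b)
    (h2 : MulAction.IsMultiplyPretransitive G Ω 2)
    (h3 : ∀ g : G, ∀ a b c : Ω, a ≠ b → b ≠ c → a ≠ c → g • a = a → g • b = b → g • c = c → g = 1)
    (hne : ∃ g : G, g ≠ 1 ∧ g • a = a ∧ g • b = b)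
    (N : Subgroup G) [hN : N.Normal] (hNt : ∀ ω ω' : Ω, ∃ n ∈ N, n • ω = ω')
    (hNr : ∀ n ∈ N, ∀ ω : Ω, n • ω = ω → n = 1) : Nat.card Ω % 2 = 0 := by
  by_contra hcon
  have hodd' : Nat.card Ω % 2 = 1 := by omega
  obtain ⟨v, hv2, hva, hvb⟩ := exists_swap_invol h2 hodd' h3 hab
  have Zo : ZOdd a b v := ⟨hodd', h3, hv2, hva, hvb, hab⟩
  obtain ⟨c, hvc, hca, hcb, hcu⟩ := Zo.exists_fix
  have hvinv : v⁻¹ = v := inv_eq_of_mul_eq_one_right hv2
  have hNn : ∀ (g : G) (n : G), n ∈ N → g * n * g⁻¹ ∈ N := fun g n hn => hN.conj_mem n hn g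
  have hvN : ∀ n ∈ N, v * n * v⁻¹ = n⁻¹ := by
    apply inverts_of_fpf_invol N hv2 (fun n hn => hNn v n hn)
    intro m hm hvm
    apply hNr m hm c
    apply hcu
    have h4 : v * m = (v * m * v⁻¹) * v := by group
    rw [← mul_smul, h4, hvm, mul_smul, hvc]
  obtain ⟨g₀, hg₀1, hg₀a, hg₀b⟩ := hne
  obtain ⟨t, hta, htb⟩ := MulAction.is_two_pretransitive_iff.mp h2 hab hca
  obtain ⟨y, hy⟩ : ∃ y, y = t * g₀ * t⁻¹ := ⟨_, rfl⟩
  have hy1 : y ≠ 1 := by
    intro h
    apply hg₀1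
    have h4 : g₀ = t⁻¹ * (t * g₀ * t⁻¹) * t := by group
    rw [h4, ← hy, h]; group
  have hyc : y • c = c := by rw [hy, mul_smul, mul_smul, ← hta, inv_smul_smul, hg₀a]
  have hya : y • a = a := by rw [hy, mul_smul, mul_smul, ← htb, inv_smul_smul, hg₀b]
  have hyc' : y⁻¹ • c = c := by rw [inv_smul_eq_iff, hyc]
  have hwN : ∀ n ∈ N, (y * v * y⁻¹) * n * (y * v * y⁻¹)⁻¹ = n⁻¹ := by
    intro n hn
    have h4 : y⁻¹ * n * y ∈ N := by
      have := hNn y⁻¹ n hn
      rwa [inv_inv] at this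
    calc (y * v * y⁻¹) * n * (y * v * y⁻¹)⁻¹ = y * (v * (y⁻¹ * n * y) * v⁻¹) * y⁻¹ := by group
      _ = y * (y⁻¹ * n * y)⁻¹ * y⁻¹ := by rw [hvN _ h4]
      _ = n⁻¹ := by group
  have hxN : ∀ n ∈ N, (v * (y * v * y⁻¹)) * n = n * (v * (y * v * y⁻¹)) := by
    intro n hn
    have h4 : (v * (y * v * y⁻¹)) * n * (v * (y * v * y⁻¹))⁻¹ = n := by
      calc (v * (y * v * y⁻¹)) * n * (v * (y * v * y⁻¹))⁻¹
          = v * ((y * v * y⁻¹) * n * (y * v * y⁻¹)⁻¹) * v⁻¹ := by group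
        _ = v * n⁻¹ * v⁻¹ := by rw [hwN n hn]
        _ = n := by rw [hvN _ (N.inv_mem hn), inv_inv]
    calc (v * (y * v * y⁻¹)) * n
        = ((v * (y * v * y⁻¹)) * n * (v * (y * v * y⁻¹))⁻¹) * (v * (y * v * y⁻¹)) := by group
      _ = n * (v * (y * v * y⁻¹)) := by rw [h4]
  have hxc : (v * (y * v * y⁻¹)) • c = c := by
    simp only [mul_smul]
    rw [hyc', hvc, hyc, hvc]
  have hx1 : v * (y * v * y⁻¹) = 1 := by
    apply FaithfulSMul.eq_of_smul_eq_smul (α := Ω)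
    intro ω
    obtain ⟨n, hn, rfl⟩ := hNt c ω
    rw [one_smul, ← mul_smul, hxN n hn, mul_smul, hxc]
  have hyv : y * v = v * y := by
    have h4 : y * v * y⁻¹ = v := by
      calc y * v * y⁻¹ = v⁻¹ * (v * (y * v * y⁻¹)) := by group
        _ = v := by rw [hx1, mul_one, hvinv]
    calc y * v = (y * v * y⁻¹) * y := by group
      _ = v * y := by rw [h4]
  have hyb : y • b = b := by
    rw [← hva, ← mul_smul, hyv, mul_smul, hya]
  exact hy1 (h3 y a b c hab (Ne.symm hcb) (Ne.symm hca) hya hyb hyc)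

/-- A doubly transitive group in which no nonidentity element fixes three points and some
two-point stabiliser is nontrivial, with a regular normal subgroup, has degree `2 ^ p` for a
prime `p`. -/
theorem zass_reg_degree [Finite G] [Finite Ω] [FaithfulSMul G Ω] {a b : Ω} (hab : a ≠ b)
    (h2 : MulAction.IsMultiplyPretransitive G Ω 2)
    (h3 : ∀ g : G, ∀ a b c : Ω, a ≠ b → b ≠ c → a ≠ c → g • a = a → g • b = b → g • c = c → g = 1)
    (hne : ∃ g : G, g ≠ 1 ∧ g • a = a ∧ g • b = b)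
    (hc : ∃ c : Ω, c ≠ a ∧ c ≠ b)
    (N : Subgroup G) [hN : N.Normal] (hNt : ∀ ω ω' : Ω, ∃ n ∈ N, n • ω = ω')
    (hNr : ∀ n ∈ N, ∀ ω : Ω, n • ω = ω → n = 1) :
    ∃ p : ℕ, p.Prime ∧ Nat.card Ω = 2 ^ p := by
  classical
  have heven := zass_reg_even hab h2 h3 hne N hNt hNr
  have hNn : ∀ (g : G) (n : G), n ∈ N → g * n * g⁻¹ ∈ N := fun g n hn => hN.conj_mem n hn g
  have hNuniq : ∀ n ∈ N, ∀ n' ∈ N, ∀ ω : Ω, n • ω = n' • ω → n = n' := by
    intro n hn n' hn' ω h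
    have h4 : (n'⁻¹ * n) • ω = ω := by rw [mul_smul, h, inv_smul_smul]
    have h5 := hNr _ (N.mul_mem (N.inv_mem hn') hn) ω h4
    exact (inv_mul_eq_one.mp h5).symm
  have hNcard : Nat.card N = Nat.card Ω := by
    apply Nat.card_congr
    apply Equiv.ofBijective (fun n : N => (n : G) • a)
    constructor
    · intro n n' h
      exact Subtype.ext (hNuniq n n.2 n' n'.2 a h)
    · intro ω
      obtain ⟨n, hn, h⟩ := hNt a ω
      exact ⟨⟨n, hn⟩, h⟩
  have hexp : ∀ n ∈ N, n * n = 1 := by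
    have h2dvd : 2 ∣ Nat.card N := by rw [hNcard]; exact Nat.dvd_of_mod_eq_zero heven
    obtain ⟨x, hx⟩ := exists_prime_orderOf_dvd_card' 2 h2dvd
    have hx1 : (x : G) ≠ 1 := by
      intro h
      have h4 : x = 1 := Subtype.ext h
      rw [h4, orderOf_one] at hx
      exact absurd hx (by norm_num)
    have hx2 : (x : G) * (x : G) = 1 := by
      have h4 : x ^ 2 = 1 := by rw [← hx]; exact pow_orderOf_eq_one x
      have h5 : ((x ^ 2 : N) : G) = 1 := by rw [h4]; rfl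
      rw [Subgroup.coe_pow, pow_two] at h5
      exact h5
    intro n hn
    by_cases hn1 : n = 1
    · rw [hn1, mul_one]
    have hna : n • a ≠ a := fun h => hn1 (hNr n hn a h)
    have hxa : (x : G) • a ≠ a := fun h => hx1 (hNr x x.2 a h)
    obtain ⟨g, hga, hgx⟩ := MulAction.is_two_pretransitive_iff.mp h2 (Ne.symm hxa) (Ne.symm hna)
    have h6 : g * x * g⁻¹ = n := by
      apply hNuniq _ (hNn g x x.2) n hn a
      have h7 : g⁻¹ • a = a := by rw [inv_smul_eq_iff, hga]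
      rw [mul_smul, mul_smul, h7, hgx]
    rw [← h6]
    calc g * x * g⁻¹ * (g * x * g⁻¹) = g * ((x : G) * x) * g⁻¹ := by group
      _ = 1 := by rw [hx2]; group
  have hinvN : ∀ n ∈ N, n⁻¹ = n := fun n hn => inv_eq_of_mul_eq_one_right (hexp n hn)
  have hNcomm : ∀ x ∈ N, ∀ y ∈ N, x * y = y * x := by
    intro x hx y hy
    have h4 := hinvN (x * y) (N.mul_mem hx hy)
    rw [mul_inv_rev, hinvN x hx, hinvN y hy] at h4
    exact h4.symm
  obtain ⟨nb, hnbN, hnb⟩ := hNt a b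
  have hnb1 : nb ≠ 1 := by
    intro h
    rw [h, one_smul] at hnb
    exact hab hnb
  have hNbot : N ≠ ⊥ := by
    intro h
    rw [h, Subgroup.mem_bot] at hnbN
    exact hnb1 hnbN
  obtain ⟨K, hKn, hKne, hKnil, hKtr, hKfpf, hHfpf⟩ := zass_frob hab h2 h3 hne hc
  obtain ⟨KG, hKG⟩ : ∃ KG : Subgroup G, KG = K.map (MulAction.stabilizer G a).subtype :=
    ⟨_, rfl⟩
  have hfpfKN : ∀ k ∈ KG, k ≠ 1 → ∀ n ∈ N, k * n = n * k → n = 1 := by
    intro k hk hk1 n hn hcomm
    rw [hKG] at hk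
    obtain ⟨k', hk', rfl⟩ := Subgroup.mem_map.mp hk
    by_contra hn1
    have hna : n • a ≠ a := fun h => hn1 (hNr n hn a h)
    have hk'1 : k' ≠ 1 := by
      intro h
      apply hk1
      rw [h]; rfl
    apply hKfpf k' hk' hk'1 (n • a) hna
    have hka : (k' : G) • a = a := MulAction.mem_stabilizer_iff.mp k'.2
    have h4 : (k' : G) * n = n * (k' : G) := hcomm
    rw [← mul_smul, h4, mul_smul, hka]
  have hKodd : Odd (Nat.card KG) := by
    by_contra hcon
    rw [Nat.not_odd_iff_even] at hcon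
    obtain ⟨x, hx⟩ := exists_prime_orderOf_dvd_card' 2 hcon.two_dvd
    have hx1 : (x : G) ≠ 1 := by
      intro h
      have h4 : x = 1 := Subtype.ext h
      rw [h4, orderOf_one] at hx
      exact absurd hx (by norm_num)
    have hx2 : (x : G) * (x : G) = 1 := by
      have h4 : x ^ 2 = 1 := by rw [← hx]; exact pow_orderOf_eq_one x
      have h5 : ((x ^ 2 : KG) : G) = 1 := by rw [h4]; rfl
      rw [Subgroup.coe_pow, pow_two] at h5
      exact h5
    have hcen : ∀ n ∈ N, (x : G) * n = n * x := by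
      intro n hn
      have hn' : (x : G) * n * (x : G)⁻¹ ∈ N := hNn x n hn
      have h4 : (x : G) * (n * ((x : G) * n * (x : G)⁻¹)) =
          (n * ((x : G) * n * (x : G)⁻¹)) * x := by
        calc (x : G) * (n * ((x : G) * n * (x : G)⁻¹))
            = ((x : G) * n * (x : G)⁻¹) * (((x : G) * x) * n * ((x : G) * x)⁻¹) * x := by group
          _ = ((x : G) * n * (x : G)⁻¹) * n * x := by rw [hx2]; group
          _ = (n * ((x : G) * n * (x : G)⁻¹)) * x := by rw [hNcomm _ hn' n hn]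
      have h5 := hfpfKN x x.2 hx1 _ (N.mul_mem hn hn') h4
      have h6 : (x : G) * n * (x : G)⁻¹ = n := by
        have h7 := eq_inv_of_mul_eq_one_right h5
        rw [h7, hinvN n hn]
      calc (x : G) * n = ((x : G) * n * (x : G)⁻¹) * x := by group
        _ = n * x := by rw [h6]
    exact hnb1 (hfpfKN x x.2 hx1 nb hnbN (hcen nb hnbN))
  have hsylKG : ∀ (p : ℕ) [Fact p.Prime] (P : Sylow p KG), IsCyclic (P : Subgroup KG) :=
    fun p _ P => Cfsg.Agent.Lib.Helper1.sylow_cyclic_of_fpf_odd N KG hNbot hfpfKN hKodd p P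
  have hsylK : ∀ (p : ℕ) [Fact p.Prime] (P : Sylow p K), IsCyclic (P : Subgroup K) := by
    have e : ↥K ≃* ↥KG := by
      rw [hKG]
      exact K.equivMapOfInjective _ (Subgroup.subtype_injective _)
    exact sylow_cyclic_of_equiv e hsylKG
  have hKcomm := comm_of_nilpotent_of_sylow_cyclic hKnil hsylK
  have hKcyc : IsCyclic K := isCyclic_of_comm_of_sylow_cyclic hKcomm hsylK
  obtain ⟨t', ht'⟩ := IsCyclic.exists_generator (α := K)
  have hKpow : ∀ k ∈ K, ∃ j : ℕ, (t' : ↥(MulAction.stabilizer G a)) ^ j = k := by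
    intro k hk
    have h4 := mem_powers_iff_mem_zpowers.mpr (ht' ⟨k, hk⟩)
    obtain ⟨j, hj⟩ := (Submonoid.mem_powers_iff _ _).mp h4
    refine ⟨j, ?_⟩
    have h5 := congrArg Subtype.val hj
    rw [Subgroup.coe_pow] at h5
    exact h5
  obtain ⟨d, hd⟩ : ∃ d, Nat.card N = 2 ^ d := by
    have hp : IsPGroup 2 N := by
      intro n
      refine ⟨1, ?_⟩
      apply Subtype.ext
      rw [pow_one, Subgroup.coe_pow, pow_two]
      exact hexp n n.2
    exact IsPGroup.iff_card.mp hp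
  have hdpos : 0 < d := by
    rcases Nat.eq_zero_or_pos d with h | h
    · exfalso
      rw [h, pow_zero] at hd
      have hsub : Subsingleton N := (Nat.card_eq_one_iff_unique.mp hd).1
      exact hnb1 (congrArg Subtype.val (Subsingleton.elim (⟨nb, hnbN⟩ : N) 1))
    · exact h
  obtain ⟨c, hcdef⟩ : ∃ c : ↥(MulAction.stabilizer G a) →* MulAut N,
      ∀ g n, ((c g n : N) : G) = (g : G) * n * (g : G)⁻¹ :=
    ⟨(MulAut.conjNormal (H := N)).comp (MulAction.stabilizer G a).subtype,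
      fun g n => MulAut.conjNormal_apply _ _⟩
  have hcinj : Function.Injective c := by
    rw [injective_iff_map_eq_one]
    intro g hg
    apply Subtype.ext
    apply FaithfulSMul.eq_of_smul_eq_smul (α := Ω)
    intro ω
    obtain ⟨n, hn, rfl⟩ := hNt a ω
    have hga : (g : G) • a = a := MulAction.mem_stabilizer_iff.mp g.2
    have h4 : (g : G) * n * (g : G)⁻¹ = n := by
      have h5 := hcdef g ⟨n, hn⟩
      rw [hg, MulAut.one_apply] at h5
      exact h5.symm
    have h6 : (g : G) * n = ((g : G) * n * (g : G)⁻¹) * g := by group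
    rw [Subgroup.coe_one, one_smul, ← mul_smul, h6, h4, mul_smul, hga]
  have hNcomm' : ∀ x y : N, x * y = y * x := fun x y => Subtype.ext (hNcomm x x.2 y y.2)
  have htrans : ∀ w : N, w ≠ 1 →
      ∃ j : ℕ, c ((t' : ↥(MulAction.stabilizer G a)) ^ j) ⟨nb, hnbN⟩ = w := by
    intro w hw
    have hwa : (w : G) • a ≠ a := fun h => hw (Subtype.ext (hNr w w.2 a h))
    obtain ⟨g, hga, hgb⟩ := MulAction.is_two_pretransitive_iff.mp h2 hab (Ne.symm hwa)
    obtain ⟨k, hk, hkb⟩ := hKtr ⟨g, MulAction.mem_stabilizer_iff.mpr hga⟩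
    obtain ⟨j, hj⟩ := hKpow k hk
    refine ⟨j, ?_⟩
    apply Subtype.ext
    rw [hcdef, hj]
    change (k : G) * nb * (k : G)⁻¹ = (w : G)
    apply hNuniq _ (hNn _ _ hnbN) _ w.2 a
    have hka : (k : G) • a = a := MulAction.mem_stabilizer_iff.mp k.2
    have hka' : (k : G)⁻¹ • a = a := by rw [inv_smul_eq_iff, hka]
    rw [mul_smul, mul_smul, hka', hnb, hkb]
    exact hgb
  have hnorm : ∀ h : ↥(MulAction.stabilizer G a),
      ∃ j : ℕ, h * t' * h⁻¹ = (t' : ↥(MulAction.stabilizer G a)) ^ j := by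
    intro h
    obtain ⟨j, hj⟩ := hKpow _ (hKn.conj_mem _ t'.2 h)
    exact ⟨j, hj.symm⟩
  obtain ⟨g₀, hg₀1, hg₀a, hg₀b⟩ := hne
  obtain ⟨g₀', hg₀'⟩ : ∃ g₀' : ↥(MulAction.stabilizer G a), (g₀' : G) = g₀ :=
    ⟨⟨g₀, MulAction.mem_stabilizer_iff.mpr hg₀a⟩, rfl⟩
  have hg₀'1 : g₀' ≠ 1 := by
    intro h
    apply hg₀1
    rw [← hg₀', h]; rfl
  have hord : orderOf g₀' ≠ 1 := by rwa [Ne, orderOf_eq_one_iff]
  obtain ⟨q, hq, hqd⟩ := Nat.exists_prime_and_dvd hord
  obtain ⟨h₀, hh₀⟩ : ∃ h₀, h₀ = g₀' ^ (orderOf g₀' / q) := ⟨_, rfl⟩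
  have hh₀ord : orderOf h₀ = q := by
    rw [hh₀]; exact orderOf_pow_orderOf_div (orderOf_pos g₀').ne' hqd
  have hh₀1 : h₀ ≠ 1 := by
    intro h
    rw [h, orderOf_one] at hh₀ord
    exact hq.one_lt.ne hh₀ord
  have hfixb : ∀ x ∈ Subgroup.zpowers h₀, ((x : ↥(MulAction.stabilizer G a)) : G) • b = b := by
    have hle : Subgroup.zpowers h₀ ≤
        (MulAction.stabilizer G b).subgroupOf (MulAction.stabilizer G a) := by
      rw [Subgroup.zpowers_le, hh₀]
      apply Subgroup.pow_mem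
      rw [Subgroup.mem_subgroupOf, MulAction.mem_stabilizer_iff, hg₀']
      exact hg₀b
    intro x hx
    exact MulAction.mem_stabilizer_iff.mp (Subgroup.mem_subgroupOf.mp (hle hx))
  have ht'1 : (t' : ↥(MulAction.stabilizer G a)) ≠ 1 := by
    intro h
    apply hKne
    rw [eq_bot_iff]
    intro k hk
    obtain ⟨j, hj⟩ := hKpow k hk
    rw [Subgroup.mem_bot, ← hj, h, one_pow]
  have hΔ : ∀ x ∈ Subgroup.zpowers h₀,
      x * (t' : ↥(MulAction.stabilizer G a)) = t' * x → x = 1 := by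
    intro x hx hcomm
    by_contra hx1
    exact ht'1 (hHfpf x (hfixb x hx) hx1 t' t'.2 hcomm)
  have hΔ' : ∀ j : ℕ, (∀ x ∈ Subgroup.zpowers h₀,
      x * (t' : ↥(MulAction.stabilizer G a)) ^ j = t' ^ j * x) →
      (t' : ↥(MulAction.stabilizer G a)) ^ j = 1 := by
    intro j hj
    exact hHfpf h₀ (hfixb h₀ (Subgroup.mem_zpowers h₀)) hh₀1 _ (K.pow_mem t'.2 j)
      (hj h₀ (Subgroup.mem_zpowers h₀))
  have hfinal := card_eq_of_trans_mul hNcomm' c d hd hdpos hcinj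
    (t' : ↥(MulAction.stabilizer G a)) ⟨nb, hnbN⟩ (fun h => hnb1 (congrArg Subtype.val h))
    htrans hnorm (Subgroup.zpowers h₀) hΔ hΔ'
  rw [Nat.card_zpowers, hh₀ord] at hfinal
  exact ⟨q, hq, by rw [← hNcard, hd, hfinal]⟩

end ZassReg

end Cfsg.Agent.Lib.Helper83
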