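import Cfsg.Agent.Lib.Helper83.ZassPSL
import Cfsg.Agent.Lib.Helper83.CommField
import Cfsg.Agent.Lib.Helper83.ZassReg
import Cfsg.Agent.Lib.Helper13.Zass
import Cfsg.Agent.S0738
import Cfsg.Agent.S0741

/-!
# Zassenhaus groups with even two-point stabiliser of order `(n - 1) / 2` are `PSL₂`

We instantiate the coordinatised configuration `ZField` for a finite Zassenhaus group of degree
`n + 1` whose two-point stabiliser has even order `d` with `2 d ≤ n - 1`.
-/

set_option autoImplicit false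

namespace Cfsg.Agent.Lib.Helper83

open Cfsg.Agent.Lib.Helper13

theorem succ_dvd_two_mul_succ {d : ℕ} (h : d + 1 ∣ 2 * d + 1) : d = 0 := by
  have e : 2 * d + 1 = (d + 1) + d := by omega
  rw [e] at h
  have h1 : d + 1 ∣ d := (Nat.dvd_add_right (dvd_refl (d + 1))).mp h
  by_contra hd
  have := Nat.le_of_dvd (Nat.pos_of_ne_zero hd) h1
  omega

section ZassEven

variable {G : Type*} {Ω : Type*} [Group G] [MulAction G Ω]

/-- In the even case, every element interchanging `a` and `b` is an involution, and every other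
point is fixed by one of them. -/
theorem zass_even_swaps [Finite G] [Fintype Ω] (hZ : Cfsg.IsZassenhausGroup G Ω) {a b : Ω}
    (hab : a ≠ b) {t : G} (ht : orderOf t = 2) (hta : t • a = a) (htb : t • b = b)
    (hd : 2 * Nat.card ↥(MulAction.stabilizer G a ⊓ MulAction.stabilizer G b)
      ≤ Fintype.card Ω - 2) :
    (∀ g : G, g • a = b → g • b = a → g * g = 1) ∧
    (∀ x : Ω, x ≠ a → x ≠ b → ∃ g : G, g • a = b ∧ g • b = a ∧ g • x = x) := by
  classical
  have ht1 : t ≠ 1 := ne_one_of_orderOf_two ht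
  have ht2 : t * t = 1 := mul_self_of_orderOf_two ht
  have htinv : t⁻¹ = t := inv_eq_of_mul_eq_one_right ht2
  have h3 := hZ.2.2.1
  have memH : ∀ g : G, g ∈ MulAction.stabilizer G a ⊓ MulAction.stabilizer G b ↔
      g • a = a ∧ g • b = b := by
    intro g
    rw [Subgroup.mem_inf, MulAction.mem_stabilizer_iff, MulAction.mem_stabilizer_iff]
  have key : ∀ x : Ω, x ≠ a → x ≠ b →
      ∃ u : G, u • a = b ∧ u • b = a ∧ u • x = x ∧ u * u = 1 := by
    intro x hxa hxb
    have htx : t • x ≠ x := fun h => ht1 (h3 t a b x hab hxb.symm hxa.symm hta htb h)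
    have htxa : t • x ≠ a := by
      intro h
      apply hxa
      rw [← one_smul G x, ← ht2, mul_smul, h, hta]
    obtain ⟨g, hga, hgb⟩ := zass_two_trans hZ hab (Ne.symm htx)
    have hga' : g⁻¹ • x = a := by rw [inv_smul_eq_iff, hga]
    have hgb' : g⁻¹ • t • x = b := by rw [inv_smul_eq_iff, hgb]
    obtain ⟨u, hu⟩ : ∃ u, u = g * t * g⁻¹ := ⟨_, rfl⟩
    have hux : u • x = x := by rw [hu, mul_smul, mul_smul, hga', hta, hga]
    have hutx : u • t • x = t • x := by rw [hu, mul_smul, mul_smul, hgb', htb, hgb]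
    have hu2 : orderOf u = 2 := by rw [hu, orderOf_conj_eq]; exact ht
    have huu : u * u = 1 := mul_self_of_orderOf_two hu2
    have hu1 : u ≠ 1 := ne_one_of_orderOf_two hu2
    have hc : t * u * t⁻¹ = u := by
      apply zass_involution_unique hZ (Ne.symm htx) (by rw [orderOf_conj_eq]; exact hu2) hu2
        ?_ ?_ hux hutx
      · rw [mul_smul, mul_smul, htinv, hutx, ← mul_smul, ht2, one_smul]
      · rw [mul_smul, mul_smul, htinv, ← mul_smul t t, ht2, one_smul, hux]
    have hcomm : t * u = u * t := by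
      have e : t * u = (t * u * t⁻¹) * t := by group
      rw [e, hc]
    have hfix2 : ∀ y : Ω, t • y = y → y = a ∨ y = b := by
      intro y hy
      by_contra hcon
      push Not at hcon
      exact ht1 (h3 t a b y hab hcon.2.symm hcon.1.symm hta htb hy)
    have hua : u • a ≠ a := fun h => hu1 (h3 u x (t • x) a (Ne.symm htx) htxa hxa hux hutx h)
    have hua' : u • a = b := by
      have h1 : t • u • a = u • a := by rw [← mul_smul, hcomm, mul_smul, hta]
      rcases hfix2 _ h1 with h | h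
      · exact absurd h hua
      · exact h
    have hub : u • b = a := by rw [← hua', ← mul_smul, huu, one_smul]
    exact ⟨u, hua', hub, hux, huu⟩
  obtain ⟨σ, hσa, hσb⟩ := zass_two_trans hZ hab (Ne.symm hab)
  have : Fintype {g : G // g • a = b ∧ g • b = a} := Fintype.ofFinite _
  have hcardP : Fintype.card {x : Ω // x ≠ a ∧ x ≠ b} = Fintype.card Ω - 2 := by
    rw [Fintype.card_subtype]
    have e : (Finset.univ.filter fun x : Ω => x ≠ a ∧ x ≠ b) = Finset.univ \ {a, b} := by
      ext x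
      simp
    rw [e, Finset.card_sdiff_of_subset (Finset.subset_univ _), Finset.card_pair hab,
      Finset.card_univ]
  have hcardS : Fintype.card {g : G // g • a = b ∧ g • b = a}
      = Nat.card ↥(MulAction.stabilizer G a ⊓ MulAction.stabilizer G b) := by
    rw [← Nat.card_eq_fintype_card]
    apply Nat.card_congr
    exact
      { toFun := fun s => ⟨σ⁻¹ * s.1, by
          rw [memH, mul_smul, mul_smul, s.2.1, s.2.2, inv_smul_eq_iff, inv_smul_eq_iff]
          exact ⟨hσa.symm, hσb.symm⟩⟩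
        invFun := fun h => ⟨σ * h.1, by
          rw [mul_smul, mul_smul, ((memH _).mp h.2).1, ((memH _).mp h.2).2]
          exact ⟨hσa, hσb⟩⟩
        left_inv := fun s => Subtype.ext (by simp)
        right_inv := fun h => Subtype.ext (by simp) }
  choose u hu using (fun x : {x : Ω // x ≠ a ∧ x ≠ b} => key x.1 x.2.1 x.2.2)
  obtain ⟨uf, huf⟩ : ∃ uf : {x : Ω // x ≠ a ∧ x ≠ b} → {g : G // g • a = b ∧ g • b = a},
      ∀ x, (uf x).1 = u x := ⟨fun x => ⟨u x, (hu x).1, (hu x).2.1⟩, fun _ => rfl⟩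
  have hfib : ∀ s ∈ (Finset.univ : Finset {x : Ω // x ≠ a ∧ x ≠ b}).image uf,
      ((Finset.univ : Finset {x : Ω // x ≠ a ∧ x ≠ b}).filter fun x => uf x = s).card ≤ 2 := by
    intro s _
    by_contra hlt
    push Not at hlt
    obtain ⟨x, hx, y, hy, z, hz, hxy, hxz, hyz⟩ := Finset.two_lt_card.mp hlt
    have hx' : u x = s.1 := by rw [← huf]; exact congrArg Subtype.val (Finset.mem_filter.mp hx).2
    have hy' : u y = s.1 := by rw [← huf]; exact congrArg Subtype.val (Finset.mem_filter.mp hy).2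
    have hz' : u z = s.1 := by rw [← huf]; exact congrArg Subtype.val (Finset.mem_filter.mp hz).2
    have hs1 : s.1 ≠ 1 := by
      intro h
      have := s.2.1
      rw [h, one_smul] at this
      exact hab this
    apply hs1
    exact h3 s.1 x.1 y.1 z.1 (fun h => hxy (Subtype.ext h)) (fun h => hyz (Subtype.ext h))
      (fun h => hxz (Subtype.ext h)) (by rw [← hx']; exact (hu x).2.2.1)
      (by rw [← hy']; exact (hu y).2.2.1) (by rw [← hz']; exact (hu z).2.2.1)
  have h1 := Finset.card_le_mul_card_image (Finset.univ : Finset {x : Ω // x ≠ a ∧ x ≠ b}) 2 hfib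
  rw [Finset.card_univ, hcardP] at h1
  have himg : (Finset.univ : Finset {x : Ω // x ≠ a ∧ x ≠ b}).image uf = Finset.univ := by
    apply Finset.eq_univ_of_card
    have h2 := Finset.card_le_univ ((Finset.univ : Finset {x : Ω // x ≠ a ∧ x ≠ b}).image uf)
    rw [hcardS] at h2 ⊢
    omega
  have hsurj : ∀ s : {g : G // g • a = b ∧ g • b = a}, ∃ x, uf x = s := by
    intro s
    have : s ∈ (Finset.univ : Finset {x : Ω // x ≠ a ∧ x ≠ b}).image uf := by
      rw [himg]; exact Finset.mem_univ _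
    obtain ⟨x, -, hx⟩ := Finset.mem_image.mp this
    exact ⟨x, hx⟩
  constructor
  · intro g hga hgb
    obtain ⟨x, hx⟩ := hsurj ⟨g, hga, hgb⟩
    have e : u x = g := by rw [← huf, hx]
    rw [← e]
    exact (hu x).2.2.2
  · intro x hxa hxb
    exact ⟨u ⟨x, hxa, hxb⟩, (hu _).1, (hu _).2.1, (hu _).2.2.1⟩

/-- The regular normal subgroup of a point stabiliser. -/
theorem zass_even_kernel [Finite G] [Fintype Ω] (hZ : Cfsg.IsZassenhausGroup G Ω) {a b : Ω}
    (hab : a ≠ b) (hne : ∃ g : G, g ≠ 1 ∧ g • a = a ∧ g • b = b) (hc : ∃ c : Ω, c ≠ a ∧ c ≠ b)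
    (hd : Fintype.card Ω - 2
      ≤ 2 * Nat.card ↥(MulAction.stabilizer G a ⊓ MulAction.stabilizer G b)) :
    ∃ (K : Subgroup G) (p f : ℕ), p.Prime ∧ Fintype.card Ω = p ^ f + 1 ∧ Nat.card K = p ^ f ∧
      (∀ k ∈ K, k • a = a) ∧ (∀ g : G, g • a = a → ∀ k ∈ K, g * k * g⁻¹ ∈ K) ∧
      (∀ y : Ω, y ≠ a → ∃ k ∈ K, k • b = y) ∧ (∀ k ∈ K, ∀ y : Ω, y ≠ a → k • y = y → k = 1) ∧
      (∀ x ∈ K, ∀ y ∈ K, x * y = y * x) := by
  classical
  obtain ⟨K0, hK0n, -, -, hK0tr, hK0reg, -⟩ := zass_frob hab hZ.2.1 hZ.2.2.1 hne hc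
  obtain ⟨K, hKdef⟩ : ∃ K : Subgroup G, K = K0.map (MulAction.stabilizer G a).subtype :=
    ⟨_, rfl⟩
  have memK : ∀ k : G, k ∈ K ↔ ∃ hk : k ∈ MulAction.stabilizer G a,
      (⟨k, hk⟩ : ↥(MulAction.stabilizer G a)) ∈ K0 := by
    intro k
    rw [hKdef, Subgroup.mem_map]
    constructor
    · rintro ⟨k0, hk0, rfl⟩
      exact ⟨k0.2, hk0⟩
    · rintro ⟨hk, hk0⟩
      exact ⟨⟨k, hk⟩, hk0, rfl⟩
  have hKa : ∀ k ∈ K, k • a = a := fun k hk =>
    MulAction.mem_stabilizer_iff.mp ((memK k).mp hk).1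
  have hKnorm : ∀ g : G, g • a = a → ∀ k ∈ K, g * k * g⁻¹ ∈ K := by
    intro g hg k hk
    obtain ⟨hk1, hk0⟩ := (memK k).mp hk
    rw [memK]
    have h1 := hK0n.conj_mem ⟨k, hk1⟩ hk0 ⟨g, MulAction.mem_stabilizer_iff.mpr hg⟩
    exact ⟨((⟨g, MulAction.mem_stabilizer_iff.mpr hg⟩ : ↥(MulAction.stabilizer G a)) *
      ⟨k, hk1⟩ * (⟨g, MulAction.mem_stabilizer_iff.mpr hg⟩ : ↥(MulAction.stabilizer G a))⁻¹).2,
      h1⟩
  have hKtr : ∀ y : Ω, y ≠ a → ∃ k ∈ K, k • b = y := by
    intro y hy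
    obtain ⟨g, hga, hgb⟩ := zass_two_trans hZ hab (Ne.symm hy)
    obtain ⟨k, hk, hkb⟩ := hK0tr ⟨g, MulAction.mem_stabilizer_iff.mpr hga⟩
    exact ⟨(k : G), (memK _).mpr ⟨k.2, hk⟩, by rw [hkb]; exact hgb⟩
  have hKreg : ∀ k ∈ K, ∀ y : Ω, y ≠ a → k • y = y → k = 1 := by
    intro k hk y hy hky
    obtain ⟨hk1, hk0⟩ := (memK k).mp hk
    by_contra hne1
    exact hK0reg ⟨k, hk1⟩ hk0 (fun h => hne1 (congrArg Subtype.val h)) y hy hky
  have hKle : K ≤ MulAction.stabilizer G a := fun k hk => ((memK k).mp hk).1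
  have hKn : (K.subgroupOf (MulAction.stabilizer G a)).Normal := by
    have e : K.subgroupOf (MulAction.stabilizer G a) = K0 := by
      ext x
      rw [Subgroup.mem_subgroupOf, memK]
      constructor
      · rintro ⟨_, h⟩
        exact h
      · intro h
        exact ⟨x.2, h⟩
    rw [e]
    exact hK0n
  have hreg : ∀ y z : Ω, y ≠ a → z ≠ a → ∃! u : K, (u : G) • y = z := by
    intro y z hy hz
    obtain ⟨ky, hky, hkyb⟩ := hKtr y hy
    obtain ⟨kz, hkz, hkzb⟩ := hKtr z hz
    refine ⟨⟨kz * ky⁻¹, K.mul_mem hkz (K.inv_mem hky)⟩, ?_, ?_⟩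
    · show (kz * ky⁻¹) • y = z
      rw [mul_smul, ← hkyb, inv_smul_smul, hkzb]
    · intro u' hu'
      have hu'' : (u' : G) • y = z := hu'
      apply Subtype.ext
      show (u' : G) = kz * ky⁻¹
      have h1 : ((kz * ky⁻¹)⁻¹ * (u' : G)) = 1 := by
        apply hKreg _ (K.mul_mem (K.inv_mem (K.mul_mem hkz (K.inv_mem hky))) u'.2) y hy
        rw [mul_smul, hu'', inv_smul_eq_iff, mul_smul, ← hkyb, inv_smul_smul, hkzb]
      exact (inv_mul_eq_one.mp h1).symm
  obtain ⟨hcomm, p, f, hp, -, hcardΩ⟩ := Cfsg.Agent.S0738.result hZ hab hd K hKle hKn hreg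
  have hcardK : Nat.card K = p ^ f := by
    have h1 : Nat.card K = ((fun k : G => k • b) '' (K : Set G)).ncard := by
      rw [Set.InjOn.ncard_image]
      · rfl
      · intro k hk k' hk' hkk
        have hkk' : k • b = k' • b := hkk
        have : k'⁻¹ * k = 1 := hKreg _ (K.mul_mem (K.inv_mem hk') hk) b (Ne.symm hab)
          (by rw [mul_smul, hkk', inv_smul_smul])
        exact (inv_mul_eq_one.mp this).symm
    have h2 : (fun k : G => k • b) '' (K : Set G) = {a}ᶜ := by
      ext y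
      constructor
      · rintro ⟨k, hk, rfl⟩
        intro h
        have h' : k • b = k • a := by rw [hKa k hk]; exact h
        exact hab (smul_left_cancel _ h').symm
      · intro hy
        obtain ⟨k, hk, hkb⟩ := hKtr y hy
        exact ⟨k, hk, hkb⟩
    rw [h1, h2, Set.ncard_compl, Set.ncard_singleton, Nat.card_eq_fintype_card, hcardΩ]
    rfl
  refine ⟨K, p, f, hp, hcardΩ, hcardK, hKa, hKnorm, hKtr, hKreg, ?_⟩
  intro x hx y hy
  have := hcomm.is_comm.comm (⟨x, hx⟩ : K) ⟨y, hy⟩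
  exact congrArg Subtype.val this

/-- A finite Zassenhaus group of degree `n + 1` with two-point stabilisers of even order `d`
satisfying `2d ≤ n - 1` is `PSL₂` of a finite field of odd order `n`. -/
theorem zass_even_psl [Finite G] [Fintype Ω] (hZ : Cfsg.IsZassenhausGroup G Ω) {a b : Ω}
    (hab : a ≠ b)
    (heven : Even (Nat.card ↥(MulAction.stabilizer G a ⊓ MulAction.stabilizer G b)))
    (hd : 2 * Nat.card ↥(MulAction.stabilizer G a ⊓ MulAction.stabilizer G b)
      ≤ Fintype.card Ω - 2) :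
    ∃ (p f : ℕ) (K : Type) (_ : Field K) (_ : Fintype K), p.Prime ∧ p ≠ 2 ∧
      Fintype.card K = p ^ f ∧ Fintype.card Ω = p ^ f + 1 ∧
      Nonempty (G ≃* Matrix.ProjectiveSpecialLinearGroup (Fin 2) K) := by
  classical
  have h3 := hZ.2.2.1
  have hd' := Cfsg.Agent.S0741.result hZ hab heven
  obtain ⟨H, hH⟩ : ∃ H : Subgroup G,
    H = MulAction.stabilizer G a ⊓ MulAction.stabilizer G b := ⟨_, rfl⟩
  rw [← hH] at heven hd hd'
  have memH : ∀ g : G, g ∈ H ↔ g • a = a ∧ g • b = b := by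
    intro g
    rw [hH, Subgroup.mem_inf, MulAction.mem_stabilizer_iff, MulAction.mem_stabilizer_iff]
  obtain ⟨d, hdef⟩ : ∃ d, d = Nat.card H := ⟨_, rfl⟩
  rw [← hdef] at heven hd hd'
  have hdpos : 0 < d := by rw [hdef]; exact Nat.card_pos
  -- the involution
  have : Fact (Nat.Prime 2) := ⟨Nat.prime_two⟩
  obtain ⟨t0, ht0⟩ := exists_prime_orderOf_dvd_card' (G := ↥H) 2
    (by rw [← hdef]; exact heven.two_dvd)
  obtain ⟨t, htdef⟩ : ∃ t : G, t = (t0 : G) := ⟨_, rfl⟩
  have ht : orderOf t = 2 := by rw [htdef, Subgroup.orderOf_coe]; exact ht0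
  have htH : t ∈ H := by rw [htdef]; exact t0.2
  have hta := ((memH t).mp htH).1
  have htb := ((memH t).mp htH).2
  have ht1 : t ≠ 1 := ne_one_of_orderOf_two ht
  have ht2 : t * t = 1 := mul_self_of_orderOf_two ht
  have htinv : t⁻¹ = t := inv_eq_of_mul_eq_one_right ht2
  have hc : ∃ c : Ω, c ≠ a ∧ c ≠ b := by
    by_contra hcon
    push Not at hcon
    have hle : Fintype.card Ω ≤ 2 := by
      have h1 : (Finset.univ : Finset Ω) ⊆ {a, b} := by
        intro x _
        by_cases hx : x = a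
        · simp [hx]
        · simp [hcon x hx]
      calc Fintype.card Ω = (Finset.univ : Finset Ω).card := rfl
        _ ≤ ({a, b} : Finset Ω).card := Finset.card_le_card h1
        _ ≤ 2 := Finset.card_le_two
    omega
  obtain ⟨hswap_sq, hswap_fix⟩ :=
    zass_even_swaps hZ hab ht hta htb (by rw [← hH, ← hdef]; exact hd)
  obtain ⟨K, p, f, hp, hcardΩ, hcardK, hKa, hKnorm, hKtr, hKreg, hKcomm⟩ :=
    zass_even_kernel hZ hab ⟨t, ht1, hta, htb⟩ hc (by rw [← hH, ← hdef]; exact hd')
  have hpf : p ^ f = 2 * d + 1 := by omega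
  have hp2 : p ≠ 2 := by
    rintro rfl
    have hf0 : f ≠ 0 := by
      rintro rfl
      rw [pow_zero] at hpf
      omega
    have : 2 ∣ 2 ^ f := dvd_pow_self 2 hf0
    omega
  -- `H` is commutative
  obtain ⟨σ, hσa, hσb⟩ := zass_two_trans hZ hab (Ne.symm hab)
  have hσσ := hswap_sq σ hσa hσb
  have hσH : ∀ h ∈ H, σ * h * σ = h⁻¹ := by
    intro h hh
    have h1 := hswap_sq (σ * h) (by rw [mul_smul, ((memH h).mp hh).1, hσa])
      (by rw [mul_smul, ((memH h).mp hh).2, hσb])
    have h2 : σ * h * σ * h = 1 := by rw [← h1]; group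
    exact eq_inv_of_mul_eq_one_left h2
  have hHcomm : ∀ x ∈ H, ∀ y ∈ H, x * y = y * x := by
    intro x hx y hy
    have h1 := hσH (x * y) (H.mul_mem hx hy)
    have h2 : σ * (x * y) * σ = (σ * x * σ) * (σ * y * σ) := by
      have e : (σ * x * σ) * (σ * y * σ) = σ * x * (σ * σ) * y * σ := by group
      rw [e, hσσ]; group
    rw [h2, hσH x hx, hσH y hy, mul_inv_rev] at h1
    have h4 : (x⁻¹ * y⁻¹)⁻¹ = (y⁻¹ * x⁻¹)⁻¹ := by rw [h1]
    rw [mul_inv_rev, mul_inv_rev, inv_inv, inv_inv] at h4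
    exact h4.symm
  have hnorm : ∀ h ∈ H, ∀ k ∈ K, h * k * h⁻¹ ∈ K :=
    fun h hh k hk => hKnorm h ((memH h).mp hh).1 k hk
  have F1 : ∀ c ∈ H, ∀ k ∈ K, k ≠ 1 → c * k = k * c → c = 1 := by
    intro c hc k hk hk1 hck
    have hkb : k • b ≠ b := fun h => hk1 (hKreg k hk b (Ne.symm hab) h)
    have hka : k • b ≠ a := by
      intro h
      have h' : k • b = k • a := by rw [hKa k hk]; exact h
      exact hab (smul_left_cancel _ h').symm
    have hfix : c • k • b = k • b := by
      rw [← mul_smul, hck, mul_smul, ((memH c).mp hc).2]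
    exact h3 c a b (k • b) hab (Ne.symm hkb) (Ne.symm hka) ((memH c).mp hc).1
      ((memH c).mp hc).2 hfix
  have F2 : ∀ h ∈ H, ∀ h' ∈ H, ∀ k ∈ K, k ≠ 1 → h * k * h⁻¹ = h' * k * h'⁻¹ → h = h' := by
    intro h hh h' hh' k hk hk1 e
    have hc : (h'⁻¹ * h) * k = k * (h'⁻¹ * h) := by
      have e1 : (h'⁻¹ * h) * k = h'⁻¹ * (h * k * h⁻¹) * h := by group
      rw [e1, e]; group
    have := F1 _ (H.mul_mem (H.inv_mem hh') hh) k hk hk1 hc
    exact (inv_mul_eq_one.mp this).symm
  have hKnt : K ≠ ⊥ := by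
    intro h
    rw [h, Subgroup.card_bot] at hcardK
    omega
  have hirr : ∀ L : Subgroup G, L ≤ K → (∀ h ∈ H, ∀ x ∈ L, h * x * h⁻¹ ∈ L) →
      L = ⊥ ∨ L = K := by
    intro L hLK hLinv
    by_contra hcon
    push Not at hcon
    obtain ⟨hLbot, hLK'⟩ := hcon
    obtain ⟨x, hxL, hx1⟩ : ∃ x ∈ L, x ≠ 1 := by
      by_contra hall
      push Not at hall
      exact hLbot ((Subgroup.eq_bot_iff_forall L).mpr hall)
    obtain ⟨y, hyK, hyL⟩ : ∃ y ∈ K, y ∉ L := by
      by_contra hall
      push Not at hall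
      exact hLK' (le_antisymm hLK hall)
    have hy1 : y ≠ 1 := fun h => hyL (h ▸ L.one_mem)
    have c1 : d ≤ (L : Set G).ncard - 1 := by
      have hsub : (fun h : G => h * x * h⁻¹) '' (H : Set G) ⊆ (L : Set G) \ {1} := by
        rintro _ ⟨h, hh, rfl⟩
        refine ⟨hLinv h hh x hxL, ?_⟩
        intro h1
        apply hx1
        have h1' : h * x * h⁻¹ = 1 := h1
        have e : x = h⁻¹ * (h * x * h⁻¹) * h := by group
        rw [e, h1']; group
      have hinj : Set.InjOn (fun h : G => h * x * h⁻¹) (H : Set G) := by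
        intro h hh h' hh' e
        exact F2 h hh h' hh' x (hLK hxL) hx1 e
      have h5 := Set.ncard_le_ncard hsub (Set.toFinite _)
      rw [Set.InjOn.ncard_image hinj, Set.ncard_sdiff_singleton_of_mem L.one_mem] at h5
      rw [hdef]
      exact h5
    have c2 : d ≤ (K : Set G).ncard - (L : Set G).ncard := by
      have hsub : (fun h : G => h * y * h⁻¹) '' (H : Set G) ⊆ (K : Set G) \ (L : Set G) := by
        rintro _ ⟨h, hh, rfl⟩
        refine ⟨hnorm h hh y hyK, ?_⟩
        intro h1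
        apply hyL
        have h6 := hLinv h⁻¹ (H.inv_mem hh) _ h1
        have e : h⁻¹ * (h * y * h⁻¹) * h⁻¹⁻¹ = y := by group
        rwa [e] at h6
      have hinj : Set.InjOn (fun h : G => h * y * h⁻¹) (H : Set G) := by
        intro h hh h' hh' e
        exact F2 h hh h' hh' y hyK hy1 e
      have h5 := Set.ncard_le_ncard hsub (Set.toFinite _)
      rw [Set.InjOn.ncard_image hinj, Set.ncard_sdiff hLK (Set.toFinite _)] at h5
      rw [hdef]
      exact h5
    have hKc : (K : Set G).ncard = 2 * d + 1 := by rw [← hpf, ← hcardK]; rfl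
    have hLc : (L : Set G).ncard ∣ (K : Set G).ncard := Subgroup.card_dvd_of_le hLK
    have hL1 : (L : Set G).ncard = d + 1 := by omega
    rw [hL1, hKc] at hLc
    exact absurd (succ_dvd_two_mul_succ hLc) hdpos.ne'
  -- the field
  have : Fact p.Prime := ⟨hp⟩
  obtain ⟨F, instF, instFin, θ, lam, hcardF, hθK, hθsurj, hθinj, hθadd, hlamconj, hlammul,
    hlamone⟩ := field_of_subgroups K H hKcomm hHcomm hnorm hirr hKnt hcardK
  have hθ0 : θ 0 = 1 := by
    have h := hθadd 0 0
    rw [add_zero] at h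
    exact mul_left_cancel (a := θ 0) (by rw [← h, mul_one])
  have hθneg : ∀ z, θ (-z) = (θ z)⁻¹ := by
    intro z
    apply eq_inv_of_mul_eq_one_left
    rw [← hθadd, neg_add_cancel, hθ0]
  have hθ1 : θ 1 ≠ 1 := by
    intro h
    rw [← hθ0] at h
    exact one_ne_zero (hθinj h)
  have hlaminj : ∀ h ∈ H, ∀ h' ∈ H, lam h = lam h' → h = h' := by
    intro h hh h' hh' e
    apply F2 h hh h' hh' (θ 1) (hθK 1) hθ1
    rw [hlamconj h hh, hlamconj h' hh', e]
  have hlamne : ∀ h ∈ H, lam h ≠ 0 := by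
    intro h hh e
    have h1 := hlamconj h hh 1
    rw [e, zero_mul, hθ0] at h1
    apply hθ1
    have e2 : θ 1 = h⁻¹ * (h * θ 1 * h⁻¹) * h := by group
    rw [e2, h1]; group
  have hlaminv : ∀ h ∈ H, lam h⁻¹ = (lam h)⁻¹ := by
    intro h hh
    have h1 := hlammul h hh h⁻¹ (H.inv_mem hh)
    rw [mul_inv_cancel, hlamone] at h1
    exact eq_inv_of_mul_eq_one_right h1.symm
  have htK : ∀ k ∈ K, t * k * t⁻¹ = k⁻¹ := by
    intro k hk
    have hk' := hnorm t htH k hk
    obtain ⟨m, hm⟩ : ∃ m, m = k * (t * k * t⁻¹) := ⟨_, rfl⟩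
    have hmK : m ∈ K := by rw [hm]; exact K.mul_mem hk hk'
    have hcm : t * m = m * t := by
      rw [hm]
      have e1 : t * (k * (t * k * t⁻¹)) = (t * k * t⁻¹) * (t * (t * k * t⁻¹) * t⁻¹) * t := by
        group
      have e2 : t * (t * k * t⁻¹) * t⁻¹ = k := by
        rw [htinv]
        have e3 : t * (t * k * t) * t = (t * t) * k * (t * t) := by group
        rw [e3, ht2, one_mul, mul_one]
      rw [e1, e2, hKcomm _ hk' k hk]
    have hm1 : m = 1 := by
      by_contra hne
      exact ht1 (F1 t htH m hmK hne hcm)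
    rw [hm] at hm1
    exact eq_inv_of_mul_eq_one_right hm1
  have hlamt : lam t = -1 := by
    have h1 := hlamconj t htH 1
    rw [htK _ (hθK 1), ← hθneg, mul_one] at h1
    exact (hθinj h1).symm
  have hcardF2 : Fintype.card F = 2 * d + 1 := by rw [hcardF, hpf]
  have hchar : ringChar F ≠ 2 := by
    intro h2
    have := FiniteField.even_card_iff_char_two.mp h2
    omega
  have hF2 : (2 : F) ≠ 0 := Ring.two_ne_zero hchar
  -- the multiplier group
  obtain ⟨Λ, hΛ⟩ : ∃ Λ : Set F, Λ = lam '' (H : Set G) := ⟨_, rfl⟩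
  have memΛ : ∀ x : F, x ∈ Λ ↔ ∃ h ∈ H, lam h = x := by
    intro x
    rw [hΛ]
    rfl
  have hΛcard : Λ.ncard = d := by
    rw [hΛ, Set.InjOn.ncard_image, hdef]
    · rfl
    · intro h hh h' hh' e
      exact hlaminj h hh h' hh' e
  have hΛmul : ∀ x ∈ Λ, ∀ y ∈ Λ, x * y ∈ Λ := by
    intro x hx y hy
    obtain ⟨h, hh, rfl⟩ := (memΛ x).mp hx
    obtain ⟨h', hh', rfl⟩ := (memΛ y).mp hy
    exact (memΛ _).mpr ⟨h * h', H.mul_mem hh hh', hlammul h hh h' hh'⟩
  have hΛinv : ∀ x ∈ Λ, x⁻¹ ∈ Λ := by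
    intro x hx
    obtain ⟨h, hh, rfl⟩ := (memΛ x).mp hx
    exact (memΛ _).mpr ⟨h⁻¹, H.inv_mem hh, hlaminv h hh⟩
  have hΛ0 : (0 : F) ∉ Λ := by
    intro h0
    obtain ⟨h, hh, e⟩ := (memΛ 0).mp h0
    exact hlamne h hh e
  have hΛneg : (-1 : F) ∈ Λ := (memΛ _).mpr ⟨t, htH, hlamt⟩
  have hidx : ∀ x v : F, x ≠ 0 → v ≠ 0 → v ∉ Λ → x ∉ Λ → x * v⁻¹ ∈ Λ := by
    intro x v hx hv hvΛ hxΛ
    obtain ⟨M, hM⟩ : ∃ M : Set F, M = (fun y => y * v) '' Λ := ⟨_, rfl⟩
    have hMcard : M.ncard = d := by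
      rw [hM, Set.ncard_image_of_injective _ (mul_left_injective₀ hv), hΛcard]
    have hdisj : Disjoint Λ M := by
      rw [Set.disjoint_left]
      intro y hy hyM
      rw [hM] at hyM
      obtain ⟨z, hz, hzy⟩ := hyM
      apply hvΛ
      have hz0 : z ≠ 0 := fun h => hΛ0 (h ▸ hz)
      have e : v = z⁻¹ * y := by
        have hzy' : z * v = y := hzy
        rw [← hzy']
        field_simp
      rw [e]
      exact hΛmul _ (hΛinv z hz) y hy
    have hsub : Λ ∪ M ⊆ ({0} : Set F)ᶜ := by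
      intro y hy
      rcases hy with hy | hy
      · intro h0
        have h0' : y = 0 := h0
        exact hΛ0 (h0' ▸ hy)
      · rw [hM] at hy
        obtain ⟨z, hz, hzy⟩ := hy
        intro h0
        have hz0 : z ≠ 0 := fun h => hΛ0 (h ▸ hz)
        have hzy' : z * v = y := hzy
        have h0' : y = 0 := h0
        rw [h0'] at hzy'
        exact (mul_ne_zero hz0 hv) hzy'
    have hcompl : (({0} : Set F)ᶜ).ncard = 2 * d := by
      rw [Set.ncard_compl, Set.ncard_singleton, Nat.card_eq_fintype_card, hcardF2]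
      rfl
    have heq : Λ ∪ M = ({0} : Set F)ᶜ := by
      apply Set.eq_of_subset_of_ncard_le hsub _ (Set.toFinite _)
      rw [hcompl, Set.ncard_union_eq hdisj (Set.toFinite _) (Set.toFinite _), hΛcard, hMcard]
      omega
    have hxmem : x ∈ Λ ∪ M := by
      rw [heq]
      exact hx
    rcases hxmem with h | h
    · exact absurd h hxΛ
    · rw [hM] at h
      obtain ⟨z, hz, hzx⟩ := h
      have hzx' : z * v = x := hzx
      have e : x * v⁻¹ = z := by
        rw [← hzx']
        field_simp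
      rw [e]
      exact hz
  have hbeta : ∃ s : F, s ∈ Λ ∧ s ≠ 1 ∧ s - 1 ∉ Λ := by
    by_contra hcon
    push Not at hcon
    have hnegΛ : ∀ x ∈ Λ, -x ∈ Λ := by
      intro x hx
      have h1 := hΛmul _ hΛneg x hx
      rwa [neg_one_mul] at h1
    let A : AddSubgroup F :=
      { carrier := insert 0 Λ
        zero_mem' := Set.mem_insert _ _
        add_mem' := by
          intro x y hx hy
          rcases hx with rfl | hx
          · rw [zero_add]
            exact hy
          rcases hy with rfl | hy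
          · rw [add_zero]
            exact Or.inr hx
          by_cases hxy : x + y = 0
          · rw [hxy]
            exact Set.mem_insert _ _
          · right
            have hy0 : y ≠ 0 := fun h => hΛ0 (h ▸ hy)
            have hny : -y ∈ Λ := hnegΛ y hy
            have hq : x * (-y)⁻¹ ∈ Λ := hΛmul x hx _ (hΛinv _ hny)
            have hq1 : x * (-y)⁻¹ ≠ 1 := by
              intro h
              apply hxy
              have h7 : x = -y := (mul_inv_eq_one₀ (neg_ne_zero.mpr hy0)).mp h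
              rw [h7]
              ring
            have h8 := hΛmul _ hny _ (hcon _ hq hq1)
            have e : -y * (x * (-y)⁻¹ - 1) = x + y := by
              field_simp
              ring
            rwa [e] at h8
        neg_mem' := by
          intro x hx
          rcases hx with rfl | hx
          · rw [neg_zero]
            exact Set.mem_insert _ _
          · exact Or.inr (hnegΛ x hx) }
    have hA : Nat.card A = d + 1 := by
      have h9 : Nat.card A = (insert (0 : F) Λ).ncard := rfl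
      rw [h9, Set.ncard_insert_of_notMem hΛ0 (Set.toFinite _), hΛcard]
    have hdvd : Nat.card A ∣ Nat.card F := AddSubgroup.card_addSubgroup_dvd_card A
    rw [hA, Nat.card_eq_fintype_card, hcardF2] at hdvd
    exact absurd (succ_dvd_two_mul_succ hdvd) hdpos.ne'
  have hsq : ∀ h ∈ H, ∃ r : F, lam h = r ^ 2 := by
    intro h hh
    have hpow : ∀ n : ℕ, lam (h ^ n) = lam h ^ n := by
      intro n
      induction n with
      | zero => rw [pow_zero, pow_zero, hlamone]
      | succ n ih => rw [pow_succ, pow_succ, hlammul _ (H.pow_mem hh n) h hh, ih]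
    have hhd : h ^ d = 1 := by
      have h1 := pow_card_eq_one' (G := ↥H) (x := ⟨h, hh⟩)
      have h2 := congrArg Subtype.val h1
      rw [hdef]
      exact h2
    have h1 : lam h ^ (Fintype.card F / 2) = 1 := by
      have e : Fintype.card F / 2 = d := by omega
      rw [e, ← hpow, hhd, hlamone]
    obtain ⟨r, hr⟩ := (FiniteField.isSquare_iff hchar (hlamne h hh)).mpr h1
    exact ⟨r, by rw [hr, sq]⟩
  have Z : ZField G Ω F a b H θ lam :=
    { hab := hab
      three := h3
      memH := memH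
      θ_add := hθadd
      θ_a := fun z => hKa _ (hθK z)
      θ_surj := by
        intro y hy
        obtain ⟨k, hk, hkb⟩ := hKtr y hy
        obtain ⟨z, hz⟩ := hθsurj k hk
        exact ⟨z, by rw [hz]; exact hkb⟩
      θ_free := by
        intro z hz
        have h1 := hKreg _ (hθK z) b (Ne.symm hab) hz
        rw [← hθ0] at h1
        exact hθinj h1
      lam_conj := hlamconj
      lam_mul := hlammul
      lam_one := hlamone
      swap_sq := hswap_sq
      swap_fix := hswap_fix
      neg_mem := ⟨t, htH, hlamt⟩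
      idx := by
        intro x v hx hv hvΛ hxΛ
        have h1 := hidx x v hx hv
          (fun h => by obtain ⟨g, hg, e⟩ := (memΛ v).mp h; exact hvΛ g hg e)
          (fun h => by obtain ⟨g, hg, e⟩ := (memΛ x).mp h; exact hxΛ g hg e)
        exact (memΛ _).mp h1
      beta := by
        obtain ⟨s, hs, hs1, hs2⟩ := hbeta
        exact ⟨s, (memΛ s).mp hs, hs1, fun h hh e => hs2 ((memΛ _).mpr ⟨h, hh, e⟩)⟩
      sq := hsq
      two := hF2 }
  exact ⟨p, f, F, instF, instFin, hp, hp2, hcardF, hcardΩ, Z.psl_iso⟩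

end ZassEven

end Cfsg.Agent.Lib.Helper83
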