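import Mathlib
import Cfsg.Agent.S0040
import Cfsg.Agent.Lib.Helper83.Idx2
import Cfsg.Agent.Lib.Helper83.RegLin
import Cfsg.Agent.Lib.Helper83.ZassReg

/-!
# Sharply triply transitive groups of even degree

For a sharply triply transitive group of even degree in which a two-point stabiliser has at most
one subgroup of order three, the two-point stabiliser has a subgroup of index two, which can be
chosen invariant under an involution interchanging the two points.
-/

set_option autoImplicit false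

namespace Cfsg.Agent.Lib.Helper83

/-- Sharp triple transitivity in elementary form. -/
structure Sharp3 (G Ω : Type*) [Group G] [MulAction G Ω] : Prop where
  trans : ∀ x y z x' y' z' : Ω, x ≠ y → x ≠ z → y ≠ z → x' ≠ y' → x' ≠ z' → y' ≠ z' →
    ∃ g : G, g • x = x' ∧ g • y = y' ∧ g • z = z'
  sharp : ∀ g : G, ∀ a b c : Ω, a ≠ b → b ≠ c → a ≠ c → g • a = a → g • b = b → g • c = c → g = 1

section Sharp3

variable {G Ω : Type*} [Group G] [MulAction G Ω]

theorem exists_third [Finite Ω] (h3 : 3 ≤ Nat.card Ω) (a b : Ω) : ∃ c : Ω, c ≠ a ∧ c ≠ b := by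
  by_contra hcon
  push Not at hcon
  have h1 : (Set.univ : Set Ω) ⊆ {a, b} := by
    intro x _
    by_cases hx : x = a
    · rw [hx]; exact Set.mem_insert _ _
    · rw [hcon x hx]; exact Set.mem_insert_of_mem _ rfl
  have h2 := Set.ncard_le_ncard h1 (Set.toFinite _)
  rw [Set.ncard_univ] at h2
  have h3' : ({a, b} : Set Ω).ncard ≤ 2 := by
    have := Set.ncard_insert_le a ({b} : Set Ω)
    rw [Set.ncard_singleton] at this
    exact this
  omega

theorem Sharp3.two_trans [Finite Ω] (S : Sharp3 G Ω) (h3 : 3 ≤ Nat.card Ω) :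
    MulAction.IsMultiplyPretransitive G Ω 2 := by
  rw [MulAction.is_two_pretransitive_iff]
  intro a b c d hab hcd
  obtain ⟨z, hza, hzb⟩ := exists_third h3 a b
  obtain ⟨z', hzc, hzd⟩ := exists_third h3 c d
  obtain ⟨g, h1, h2, -⟩ := S.trans a b z c d z' hab (Ne.symm hza) (Ne.symm hzb) hcd
    (Ne.symm hzc) (Ne.symm hzd)
  exact ⟨g, h1, h2⟩

theorem Sharp3.card_stab [Finite Ω] (S : Sharp3 G Ω) {a b : Ω} (hab : a ≠ b)
    (h3 : 3 ≤ Nat.card Ω) :
    Nat.card ↥(MulAction.stabilizer G a ⊓ MulAction.stabilizer G b) + 2 = Nat.card Ω := by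
  obtain ⟨c, hca, hcb⟩ := exists_third h3 a b
  have memH : ∀ g : G, g ∈ MulAction.stabilizer G a ⊓ MulAction.stabilizer G b ↔
      g • a = a ∧ g • b = b := by
    intro g
    rw [Subgroup.mem_inf, MulAction.mem_stabilizer_iff, MulAction.mem_stabilizer_iff]
  obtain ⟨s, hs⟩ : ∃ s : Set Ω, s = {x | x ≠ a ∧ x ≠ b} := ⟨_, rfl⟩
  have hs' : s = ({a, b} : Set Ω)ᶜ := by
    rw [hs]
    ext x
    simp
  have h1 : Nat.card ↥(MulAction.stabilizer G a ⊓ MulAction.stabilizer G b) = Nat.card ↥s := by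
    apply Nat.card_congr
    have hmem : ∀ h : ↥(MulAction.stabilizer G a ⊓ MulAction.stabilizer G b), (h : G) • c ∈ s := by
      intro h
      obtain ⟨ha, hb⟩ := (memH _).mp h.2
      rw [hs]
      constructor
      · intro h0
        apply hca
        have : (h : G) • c = (h : G) • a := by rw [h0, ha]
        exact MulAction.injective _ this
      · intro h0
        apply hcb
        have : (h : G) • c = (h : G) • b := by rw [h0, hb]
        exact MulAction.injective _ this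
    apply Equiv.ofBijective (fun h : ↥(MulAction.stabilizer G a ⊓ MulAction.stabilizer G b) =>
      (⟨(h : G) • c, hmem h⟩ : ↥s))
    constructor
    · intro h h' hh
      have h2 : (h : G) • c = (h' : G) • c := congrArg Subtype.val hh
      obtain ⟨ha, hb⟩ := (memH _).mp h.2
      obtain ⟨ha', hb'⟩ := (memH _).mp h'.2
      have h3 : (h' : G)⁻¹ * (h : G) = 1 := by
        apply S.sharp _ a b c hab (Ne.symm hcb) (Ne.symm hca)
        · rw [mul_smul, ha, inv_smul_eq_iff, ha']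
        · rw [mul_smul, hb, inv_smul_eq_iff, hb']
        · rw [mul_smul, h2, inv_smul_smul]
      apply Subtype.ext
      exact (inv_mul_eq_one.mp h3).symm
    · rintro ⟨x, hx⟩
      rw [hs] at hx
      obtain ⟨g, hga, hgb, hgc⟩ := S.trans a b c a b x hab (Ne.symm hca) (Ne.symm hcb) hab
        (Ne.symm hx.1) (Ne.symm hx.2)
      exact ⟨⟨g, (memH g).mpr ⟨hga, hgb⟩⟩, Subtype.ext hgc⟩
  have h2 : Nat.card ↥s = s.ncard := rfl
  have h3 := Set.ncard_add_ncard_compl ({a, b} : Set Ω)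
  rw [Set.ncard_pair hab, ← hs'] at h3
  omega

/-- The two-point stabiliser contains at most one involution. -/
theorem Sharp3.invol_unique (S : Sharp3 G Ω) {a b c : Ω} (hab : a ≠ b) (hca : c ≠ a)
    (hcb : c ≠ b) {t t' : G} (hta : t • a = a) (htb : t • b = b) (ht2 : t * t = 1) (ht1 : t ≠ 1)
    (hta' : t' • a = a) (htb' : t' • b = b) (ht2' : t' * t' = 1) (ht1' : t' ≠ 1) : t = t' := by
  have htc : t • c ≠ c := fun h => ht1 (S.sharp t a b c hab (Ne.symm hcb) (Ne.symm hca) hta htb h)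
  have htc' : t' • c ≠ c :=
    fun h => ht1' (S.sharp t' a b c hab (Ne.symm hcb) (Ne.symm hca) hta' htb' h)
  have htca : t • c ≠ a := by
    intro h
    apply hca
    have : t • c = t • a := by rw [h, hta]
    exact MulAction.injective _ this
  have htca' : t' • c ≠ a := by
    intro h
    apply hca
    have : t' • c = t' • a := by rw [h, hta']
    exact MulAction.injective _ this
  have htt : t • t • c = c := by rw [← mul_smul, ht2, one_smul]
  have htt' : t' • t' • c = c := by rw [← mul_smul, ht2', one_smul]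
  have htinv : t⁻¹ = t := inv_eq_of_mul_eq_one_right ht2
  obtain ⟨g, hga, hgc, hgt⟩ := S.trans a c (t' • c) a c (t • c) (Ne.symm hca) (Ne.symm htca')
    (Ne.symm htc') (Ne.symm hca) (Ne.symm htca) (Ne.symm htc)
  have hga' : g⁻¹ • a = a := by rw [inv_smul_eq_iff, hga]
  have hgc' : g⁻¹ • c = c := by rw [inv_smul_eq_iff, hgc]
  have hgt' : g⁻¹ • t • c = t' • c := by rw [inv_smul_eq_iff, hgt]
  have hu : g * t' * g⁻¹ = t := by
    have h1 : t⁻¹ * (g * t' * g⁻¹) = 1 := by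
      apply S.sharp _ a c (t • c) (Ne.symm hca) (Ne.symm htc) (Ne.symm htca)
      · rw [mul_smul, mul_smul, mul_smul, hga', hta', hga, inv_smul_eq_iff, hta]
      · rw [mul_smul, mul_smul, mul_smul, hgc', hgt, inv_smul_smul]
      · rw [mul_smul, mul_smul, mul_smul, hgt', htt', hgc, htinv]
    calc g * t' * g⁻¹ = t * (t⁻¹ * (g * t' * g⁻¹)) := by group
      _ = t := by rw [h1, mul_one]
  have hgb : g • b = b := by
    by_contra hne
    have hgba : g • b ≠ a := by
      intro h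
      apply hab
      have : g • a = g • b := by rw [h, hga]
      exact MulAction.injective _ this
    apply ht1
    apply S.sharp t a b (g • b) hab (Ne.symm hne) (Ne.symm hgba) hta htb
    rw [← hu, mul_smul, mul_smul, inv_smul_smul, htb']
  have hg1 : g = 1 := S.sharp g a b c hab (Ne.symm hcb) (Ne.symm hca) hga hgb hgc
  rw [← hu, hg1]
  group

/-- The Frobenius kernel of a point stabiliser, and cyclicity of the odd Sylow subgroups of a
two-point stabiliser. -/
theorem Sharp3.kernel [Finite G] [Finite Ω] (S : Sharp3 G Ω) {a b : Ω} (hab : a ≠ b)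
    (h4 : 4 ≤ Nat.card Ω) :
    ∃ K : Subgroup G,
      (∀ k ∈ K, k • a = a) ∧
      (∀ x : Ω, x ≠ a → ∃ k ∈ K, k • b = x) ∧
      (∀ k ∈ K, k ≠ 1 → ∀ ω : Ω, ω ≠ a → k • ω ≠ ω) ∧
      (∀ g : G, g • a = a → ∀ k ∈ K, g * k * g⁻¹ ∈ K) ∧
      (∀ h : G, h • a = a → h • b = b → h ≠ 1 → ∀ k ∈ K, h * k = k * h → k = 1) ∧
      (∀ r : ℕ, ∀ _ : Fact r.Prime, r ≠ 2 →
        ∀ P : Sylow r ↥(MulAction.stabilizer G a ⊓ MulAction.stabilizer G b), IsCyclic P) := by
  have h2 := S.two_trans (by omega : 3 ≤ Nat.card Ω)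
  have hcard := S.card_stab hab (by omega : 3 ≤ Nat.card Ω)
  have hc := exists_third (by omega : 3 ≤ Nat.card Ω) a b
  have memH : ∀ g : G, g ∈ MulAction.stabilizer G a ⊓ MulAction.stabilizer G b ↔
      g • a = a ∧ g • b = b := by
    intro g
    rw [Subgroup.mem_inf, MulAction.mem_stabilizer_iff, MulAction.mem_stabilizer_iff]
  have hne : ∃ g : G, g ≠ 1 ∧ g • a = a ∧ g • b = b := by
    have : Nontrivial ↥(MulAction.stabilizer G a ⊓ MulAction.stabilizer G b) :=
      Finite.one_lt_card_iff_nontrivial.mp (by omega)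
    obtain ⟨⟨g, hg⟩, hg1⟩ :=
      exists_ne (1 : ↥(MulAction.stabilizer G a ⊓ MulAction.stabilizer G b))
    exact ⟨g, fun h => hg1 (Subtype.ext h), (memH g).mp hg⟩
  obtain ⟨K0, hK0n, hK0ne, -, hK0t, hK0r, hK0f⟩ := zass_frob hab h2 S.sharp hne hc
  refine ⟨K0.map (MulAction.stabilizer G a).subtype, ?_, ?_, ?_, ?_, ?_, ?_⟩
  · rintro _ ⟨x, -, rfl⟩
    exact MulAction.mem_stabilizer_iff.mp x.2
  · intro x hx
    obtain ⟨g, hga, hgb⟩ := MulAction.is_two_pretransitive_iff.mp h2 hab (Ne.symm hx)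
    obtain ⟨k, hk, hkb⟩ := hK0t ⟨g, MulAction.mem_stabilizer_iff.mpr hga⟩
    exact ⟨k, ⟨k, hk, rfl⟩, by rw [hkb]; exact hgb⟩
  · rintro _ ⟨x, hx, rfl⟩ h1 ω hω
    exact hK0r x hx (fun h => h1 (by rw [h]; rfl)) ω hω
  · intro g hg
    rintro _ ⟨x, hx, rfl⟩
    exact ⟨⟨g, MulAction.mem_stabilizer_iff.mpr hg⟩ * x *
      ⟨g, MulAction.mem_stabilizer_iff.mpr hg⟩⁻¹, hK0n.conj_mem x hx _, rfl⟩
  · intro h hha hhb hh1
    rintro _ ⟨x, hx, rfl⟩ hcomm
    have := hK0f ⟨h, MulAction.mem_stabilizer_iff.mpr hha⟩ hhb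
      (fun e => hh1 (congrArg Subtype.val e)) x hx (Subtype.ext hcomm)
    rw [this]
    rfl
  · intro r hr hr2 P
    obtain ⟨HH, hHH⟩ : ∃ HH : Subgroup ↥(MulAction.stabilizer G a),
      HH = (MulAction.stabilizer G a ⊓ MulAction.stabilizer G b).subgroupOf
        (MulAction.stabilizer G a) := ⟨_, rfl⟩
    have memHH : ∀ x : ↥(MulAction.stabilizer G a), x ∈ HH ↔ (x : G) • b = b := by
      intro x
      rw [hHH, Subgroup.mem_subgroupOf, memH]
      constructor
      · exact fun h => h.2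
      · exact fun h => ⟨MulAction.mem_stabilizer_iff.mp x.2, h⟩
    have hcompl : Subgroup.IsComplement' K0 HH := by
      apply Subgroup.isComplement'_of_disjoint_and_mul_eq_univ
      · rw [Subgroup.disjoint_def]
        intro x hxK hxH
        by_contra hx1
        exact hK0r x hxK hx1 b (Ne.symm hab) ((memHH x).mp hxH)
      · rw [Set.eq_univ_iff_forall]
        intro g
        obtain ⟨k, hk, hkb⟩ := hK0t g
        refine ⟨k, hk, k⁻¹ * g, ?_, by group⟩
        rw [SetLike.mem_coe, memHH]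
        rw [Subgroup.coe_mul, mul_smul, ← hkb, Subgroup.coe_inv, inv_smul_smul]
    have hfpf : ∀ h ∈ HH, h ≠ 1 → K0 ⊓ Subgroup.centralizer {h} = ⊥ := by
      intro h hh hh1
      rw [eq_bot_iff]
      intro k hk
      rw [Subgroup.mem_inf, Subgroup.mem_centralizer_iff] at hk
      rw [Subgroup.mem_bot]
      exact hK0f h ((memHH h).mp hh) hh1 k hk.1 (hk.2 h rfl)
    have hX : ∀ Q : Sylow r ↥HH, IsCyclic Q := by
      intro Q
      have : K0.Normal := hK0n
      rcases Cfsg.Agent.S0040.result K0 HH hcompl hK0ne hfpf r Q with h | ⟨n, ⟨e⟩⟩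
      · exact h
      · exfalso
        obtain ⟨m, hm⟩ := IsPGroup.iff_card.mp Q.2
        have h1 : Nat.card (Q : Subgroup ↥HH) = 4 * 2 ^ n := by
          rw [Nat.card_congr e.toEquiv, Nat.card_eq_fintype_card, QuaternionGroup.card]
        rw [hm] at h1
        have h2 : 2 ∣ r ^ m := by
          rw [h1]
          exact Dvd.dvd.mul_right (by norm_num) _
        have h3 : 2 ∣ r := Nat.Prime.dvd_of_dvd_pow Nat.prime_two h2
        exact hr2 ((Nat.prime_dvd_prime_iff_eq Nat.prime_two hr.out).mp h3).symm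
    have hle : MulAction.stabilizer G a ⊓ MulAction.stabilizer G b ≤ MulAction.stabilizer G a :=
      inf_le_left
    rw [hHH] at hX
    exact isCyclic_sylow_of_injective (Subgroup.subgroupOfEquivOfLe hle).symm.toMonoidHom
      (Subgroup.subgroupOfEquivOfLe hle).symm.injective hX P

/-- A two-point stabiliser of a sharply triply transitive group of even degree has a subgroup of
index two, provided it has at most one subgroup of order three. -/
theorem Sharp3.hasIdx2 [Finite G] [Finite Ω] (S : Sharp3 G Ω) {a b : Ω} (hab : a ≠ b)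
    (heven : Even (Nat.card Ω)) (h4 : 4 ≤ Nat.card Ω)
    (h3sub : ∀ A B : Subgroup G, A ≤ MulAction.stabilizer G a ⊓ MulAction.stabilizer G b →
      B ≤ MulAction.stabilizer G a ⊓ MulAction.stabilizer G b →
      Nat.card A = 3 → Nat.card B = 3 → A = B) :
    HasIdx2 ↥(MulAction.stabilizer G a ⊓ MulAction.stabilizer G b) := by
  have hcard := S.card_stab hab (by omega : 3 ≤ Nat.card Ω)
  obtain ⟨K, hKa, hKt, hKr, hKn, hKf, hKsyl⟩ := S.kernel hab h4
  obtain ⟨H, hH⟩ : ∃ H : Subgroup G,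
    H = MulAction.stabilizer G a ⊓ MulAction.stabilizer G b := ⟨_, rfl⟩
  rw [← hH] at h3sub hcard hKsyl ⊢
  have memH : ∀ g : G, g ∈ H ↔ g • a = a ∧ g • b = b := by
    intro g
    rw [hH, Subgroup.mem_inf, MulAction.mem_stabilizer_iff, MulAction.mem_stabilizer_iff]
  obtain ⟨c, hca, hcb⟩ := exists_third (by omega : 3 ≤ Nat.card Ω) a b
  have hHeven : 2 ∣ Nat.card ↥H := by
    obtain ⟨m, hm⟩ := heven
    omega
  have hinvol : ∀ x : ↥H, orderOf x = 2 → (x : G) * (x : G) = 1 ∧ (x : G) ≠ 1 := by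
    intro x hx
    constructor
    · have h1 := pow_orderOf_eq_one x
      rw [hx, pow_two] at h1
      exact congrArg Subtype.val h1
    · intro h
      have h1 : x = 1 := Subtype.ext h
      rw [h1, orderOf_one] at hx
      omega
  have hinv : ∀ x y : ↥H, orderOf x = 2 → orderOf y = 2 → x = y := by
    intro x y hx hy
    apply Subtype.ext
    exact S.invol_unique hab hca hcb ((memH _).mp x.2).1 ((memH _).mp x.2).2 (hinvol x hx).1
      (hinvol x hx).2 ((memH _).mp y.2).1 ((memH _).mp y.2).2 (hinvol y hy).1 (hinvol y hy).2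
  have hP3 : ∀ A B : Subgroup ↥H, Nat.card A = 3 → Nat.card B = 3 → A = B := by
    intro A B hA hB
    have h1 := h3sub (A.map H.subtype) (B.map H.subtype) (Subgroup.map_subtype_le A)
      (Subgroup.map_subtype_le B)
      (by rw [Subgroup.card_map_of_injective H.subtype_injective]; exact hA)
      (by rw [Subgroup.card_map_of_injective H.subtype_injective]; exact hB)
    exact Subgroup.map_injective H.subtype_injective h1
  rcases idx2_core hinv hKsyl hP3 hHeven with h | ⟨hsolv, h9, hD⟩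
  · exact h
  have : Fact (Nat.Prime 2) := ⟨Nat.prime_two⟩
  obtain ⟨t', ht'⟩ := exists_prime_orderOf_dvd_card' 2 hHeven
  obtain ⟨t, htdef⟩ : ∃ t : G, t = (t' : G) := ⟨_, rfl⟩
  have hta : t • a = a := by rw [htdef]; exact ((memH _).mp t'.2).1
  have htb : t • b = b := by rw [htdef]; exact ((memH _).mp t'.2).2
  have ht2 : t * t = 1 := by rw [htdef]; exact (hinvol t' ht').1
  have ht1 : t ≠ 1 := by rw [htdef]; exact (hinvol t' ht').2
  have htK : ∀ k ∈ K, t * k * t⁻¹ = k⁻¹ := by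
    apply inverts_of_fpf_invol K ht2 (fun n hn => hKn t hta n hn)
    intro k hk hkc
    apply hKf t hta htb ht1 k hk
    calc t * k = (t * k * t⁻¹) * t := by group
      _ = k * t := by rw [hkc]
  have hKc : ∀ x ∈ K, ∀ y ∈ K, x * y = y * x := by
    intro x hx y hy
    have h1 := htK (x * y) (K.mul_mem hx hy)
    have h2 : t * (x * y) * t⁻¹ = (t * x * t⁻¹) * (t * y * t⁻¹) := by group
    rw [h2, htK x hx, htK y hy] at h1
    have h3 : (x⁻¹ * y⁻¹)⁻¹ = ((x * y)⁻¹)⁻¹ := by rw [h1]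
    rw [inv_inv, mul_inv_rev, inv_inv, inv_inv] at h3
    exact h3.symm
  have hKuniq : ∀ k ∈ K, ∀ k' ∈ K, k • b = k' • b → k = k' := by
    intro k hk k' hk' h
    by_contra hne
    have h1 : k'⁻¹ * k ≠ 1 := fun e => hne (inv_mul_eq_one.mp e).symm
    apply hKr _ (K.mul_mem (K.inv_mem hk') hk) h1 b (Ne.symm hab)
    rw [mul_smul, h, inv_smul_smul]
  have hmove : ∀ k ∈ K, k ≠ 1 → k • b ≠ a ∧ k • b ≠ b := by
    intro k hk hk1
    refine ⟨?_, hKr k hk hk1 b (Ne.symm hab)⟩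
    intro h
    apply hab
    have : k • a = k • b := by rw [h, hKa k hk]
    exact MulAction.injective _ this
  have hnorm : ∀ h ∈ H, ∀ k ∈ K, h * k * h⁻¹ ∈ K :=
    fun h hh k hk => hKn h ((memH h).mp hh).1 k hk
  have hreg : ∀ k ∈ K, ∀ k' ∈ K, k ≠ 1 → k' ≠ 1 →
      ∃ h ∈ H, h * k * h⁻¹ = k' ∧ ∀ h' ∈ H, h' * k * h'⁻¹ = k' → h' = h := by
    intro k hk k' hk' hk1 hk1'
    obtain ⟨hxa, hxb⟩ := hmove k hk hk1
    obtain ⟨hxa', hxb'⟩ := hmove k' hk' hk1'
    obtain ⟨g, hga, hgb, hgx⟩ := S.trans a b (k • b) a b (k' • b) hab (Ne.symm hxa) (Ne.symm hxb)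
      hab (Ne.symm hxa') (Ne.symm hxb')
    have hgb' : g⁻¹ • b = b := by rw [inv_smul_eq_iff, hgb]
    refine ⟨g, (memH g).mpr ⟨hga, hgb⟩, ?_, ?_⟩
    · apply hKuniq _ (hKn g hga k hk) _ hk'
      rw [mul_smul, mul_smul, hgb', hgx]
    · intro h' hh' he
      obtain ⟨hha, hhb⟩ := (memH h').mp hh'
      have hhb' : h'⁻¹ • b = b := by rw [inv_smul_eq_iff, hhb]
      have hhx : h' • k • b = k' • b := by
        rw [← he, mul_smul, mul_smul, hhb']
      have h1 : g⁻¹ * h' = 1 := by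
        apply S.sharp _ a b (k • b) hab (Ne.symm hxb) (Ne.symm hxa)
        · rw [mul_smul, hha, inv_smul_eq_iff, hga]
        · rw [mul_smul, hhb, hgb']
        · rw [mul_smul, hhx, inv_smul_eq_iff, hgx]
      exact (inv_mul_eq_one.mp h1).symm
  obtain ⟨k₁, hk₁, hk₁b⟩ := hKt c hca
  have hk₁1 : k₁ ≠ 1 := by
    intro h
    rw [h, one_smul] at hk₁b
    exact hcb hk₁b.symm
  have hord : orderOf k₁ ≠ 1 := fun h => hk₁1 (orderOf_eq_one_iff.mp h)
  have hpp : (orderOf k₁).minFac.Prime := Nat.minFac_prime hord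
  obtain ⟨p, hp⟩ : ∃ p : ℕ, p = (orderOf k₁).minFac := ⟨_, rfl⟩
  rw [← hp] at hpp
  have : Fact p.Prime := ⟨hpp⟩
  obtain ⟨k₀, hk₀⟩ : ∃ k₀ : G, k₀ = k₁ ^ (orderOf k₁ / p) := ⟨_, rfl⟩
  have hk₀o : orderOf k₀ = p := by
    rw [hk₀]
    apply orderOf_pow_orderOf_div (orderOf_pos k₁).ne'
    rw [hp]
    exact Nat.minFac_dvd _
  have hk₀K : k₀ ∈ K := by rw [hk₀]; exact K.pow_mem hk₁ _
  have hk₀1 : k₀ ≠ 1 := by
    intro h
    rw [h, orderOf_one] at hk₀o
    exact hpp.one_lt.ne hk₀o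
  have hk₀p : k₀ ^ p = 1 := by rw [← hk₀o]; exact pow_orderOf_eq_one k₀
  have hKp : ∀ k ∈ K, k ^ p = 1 := by
    intro k hk
    by_cases hk1 : k = 1
    · rw [hk1, one_pow]
    · obtain ⟨h, -, he, -⟩ := hreg k₀ hk₀K k hk hk₀1 hk1
      rw [← he, conj_pow, hk₀p]
      group
  obtain ⟨D, hD1, hD2⟩ := reglin_conj K H hKc hKp hnorm hreg ⟨k₀, hk₀K, hk₀1⟩ hsolv h9
  exact hD D hD1 hD2

/-- An involutive automorphism preserves some subgroup of index two, if there is one. -/
theorem idx2_invariant {X : Type*} [Group X] (h : HasIdx2 X) (φ : X ≃* X)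
    (hφ : ∀ x, φ (φ x) = x) : ∃ N : Subgroup X, N.index = 2 ∧ ∀ x ∈ N, φ x ∈ N := by
  obtain ⟨N₀, hN₀⟩ := h
  by_cases hall : ∀ x, x ∈ N₀ → φ x ∈ N₀
  · exact ⟨N₀, hN₀, hall⟩
  push Not at hall
  obtain ⟨a, ha, hφa⟩ := hall
  have hmul : ∀ x y : X, x * y ∈ N₀ ↔ (x ∈ N₀ ↔ y ∈ N₀) :=
    fun x y => Subgroup.mul_mem_iff_of_index_two hN₀
  obtain ⟨N, hN⟩ : ∃ N : Subgroup X, ∀ x, x ∈ N ↔ (x ∈ N₀ ↔ φ x ∈ N₀) := by
    refine ⟨{ carrier := {x | x ∈ N₀ ↔ φ x ∈ N₀}
              one_mem' := ?_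
              mul_mem' := ?_
              inv_mem' := ?_ }, fun x => Iff.rfl⟩
    · intro x y hx hy
      change x ∈ N₀ ↔ φ x ∈ N₀ at hx
      change y ∈ N₀ ↔ φ y ∈ N₀ at hy
      change x * y ∈ N₀ ↔ φ (x * y) ∈ N₀
      rw [map_mul, hmul, hmul, hx, hy]
    · change (1 : X) ∈ N₀ ↔ φ 1 ∈ N₀
      rw [map_one]
    · intro x hx
      change x ∈ N₀ ↔ φ x ∈ N₀ at hx
      change x⁻¹ ∈ N₀ ↔ φ x⁻¹ ∈ N₀
      rw [map_inv, inv_mem_iff, inv_mem_iff]
      exact hx
  refine ⟨N, ?_, ?_⟩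
  · rw [Subgroup.index_eq_two_iff]
    refine ⟨a, fun b => ?_⟩
    rw [hN, hN, map_mul, hmul, hmul]
    unfold Xor
    tauto
  · intro x hx
    rw [hN] at hx ⊢
    rw [hφ]
    exact hx.symm

/-- In a sharply triply transitive group, a subgroup of index two of a two-point stabiliser can be
chosen invariant under an element interchanging the two points and fixing a third. -/
theorem Sharp3.exists_normal (S : Sharp3 G Ω) {a b c : Ω} (hab : a ≠ b) (hca : c ≠ a)
    (hcb : c ≠ b) (hidx : HasIdx2 ↥(MulAction.stabilizer G a ⊓ MulAction.stabilizer G b))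
    {s : G} (hsa : s • a = b) (hsb : s • b = a) (hsc : s • c = c) :
    ∃ N : Subgroup G, N ≤ MulAction.stabilizer G a ⊓ MulAction.stabilizer G b ∧
      (N.subgroupOf (MulAction.stabilizer G a ⊓ MulAction.stabilizer G b)).Normal ∧
      N.relIndex (MulAction.stabilizer G a ⊓ MulAction.stabilizer G b) = 2 ∧
      ∀ n ∈ N, s * n * s⁻¹ ∈ N := by
  obtain ⟨H, hH⟩ : ∃ H : Subgroup G,
    H = MulAction.stabilizer G a ⊓ MulAction.stabilizer G b := ⟨_, rfl⟩
  rw [← hH] at hidx ⊢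
  have memH : ∀ g : G, g ∈ H ↔ g • a = a ∧ g • b = b := by
    intro g
    rw [hH, Subgroup.mem_inf, MulAction.mem_stabilizer_iff, MulAction.mem_stabilizer_iff]
  have hs2 : s * s = 1 := by
    apply S.sharp _ a b c hab (Ne.symm hcb) (Ne.symm hca)
    · rw [mul_smul, hsa, hsb]
    · rw [mul_smul, hsb, hsa]
    · rw [mul_smul, hsc, hsc]
  have hsinv : s⁻¹ = s := inv_eq_of_mul_eq_one_right hs2
  have hconj : ∀ h ∈ H, s * h * s⁻¹ ∈ H := by
    intro h hh
    obtain ⟨ha, hb⟩ := (memH h).mp hh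
    rw [memH, hsinv]
    constructor
    · rw [mul_smul, mul_smul, hsa, hb, hsb]
    · rw [mul_smul, mul_smul, hsb, ha, hsa]
  obtain ⟨φ, hφ⟩ : ∃ φ : ↥H ≃* ↥H, ∀ x : ↥H, ((φ x : ↥H) : G) = s * (x : G) * s⁻¹ := by
    refine ⟨{ toFun := fun x => ⟨s * (x : G) * s⁻¹, hconj x x.2⟩
              invFun := fun x => ⟨s * (x : G) * s⁻¹, hconj x x.2⟩
              left_inv := fun x => Subtype.ext ?_
              right_inv := fun x => Subtype.ext ?_
              map_mul' := fun x y => Subtype.ext ?_ }, fun x => rfl⟩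
    · change s * (s * (x : G) * s⁻¹) * s⁻¹ = (x : G)
      calc s * (s * (x : G) * s⁻¹) * s⁻¹ = (s * s) * (x : G) * (s * s)⁻¹ := by group
        _ = (x : G) := by rw [hs2]; group
    · change s * (s * (x : G) * s⁻¹) * s⁻¹ = (x : G)
      calc s * (s * (x : G) * s⁻¹) * s⁻¹ = (s * s) * (x : G) * (s * s)⁻¹ := by group
        _ = (x : G) := by rw [hs2]; group
    · change s * ((x : G) * (y : G)) * s⁻¹ = (s * (x : G) * s⁻¹) * (s * (y : G) * s⁻¹)
      group
  have hφφ : ∀ x : ↥H, φ (φ x) = x := by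
    intro x
    apply Subtype.ext
    rw [hφ, hφ]
    calc s * (s * (x : G) * s⁻¹) * s⁻¹ = (s * s) * (x : G) * (s * s)⁻¹ := by group
      _ = (x : G) := by rw [hs2]; group
  obtain ⟨N₁, hN₁, hN₁φ⟩ := idx2_invariant hidx φ hφφ
  have hsub : (N₁.map H.subtype).subgroupOf H = N₁ :=
    Subgroup.comap_map_eq_self_of_injective H.subtype_injective N₁
  refine ⟨N₁.map H.subtype, Subgroup.map_subtype_le N₁, ?_, ?_, ?_⟩
  · rw [hsub]
    exact Subgroup.normal_of_index_eq_two hN₁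
  · change ((N₁.map H.subtype).subgroupOf H).index = 2
    rw [hsub]
    exact hN₁
  · rintro _ ⟨x, hx, rfl⟩
    exact ⟨φ x, hN₁φ x hx, hφ x⟩

end Sharp3

end Cfsg.Agent.Lib.Helper83
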