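import Mathlib
import Cfsg.Agent.Lib.Helper83.Sharp3

/-!
# A subgroup of index two in a sharply triply transitive group of even degree

From a subgroup `N` of index two in a two-point stabiliser `H`, invariant under a suitable
involution `w` interchanging the two points, the set `K N ∪ K N w K` (`K` the Frobenius kernel of
a point stabiliser) is a subgroup of index two of the whole group.
-/

set_option autoImplicit false

namespace Cfsg.Agent.Lib.Helper83

section Bruhat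

variable {G Ω : Type*} [Group G] [MulAction G Ω]

/-- Generic group identity behind the Bruhat relation. -/
theorem bruhat_identity {w h k : G} (hw2 : w * w = 1) (hB0 : w * k * w = k⁻¹ * w * k⁻¹) :
    w * (h * k * h⁻¹) * w
      = ((w * h * w⁻¹) * k⁻¹ * (w * h * w⁻¹)⁻¹) * ((w * h * w⁻¹) * h⁻¹) * w
        * ((w * h * w⁻¹) * k⁻¹ * (w * h * w⁻¹)⁻¹) := by
  have hwinv : w⁻¹ = w := inv_eq_of_mul_eq_one_right hw2
  symm
  calc ((w * h * w⁻¹) * k⁻¹ * (w * h * w⁻¹)⁻¹) * ((w * h * w⁻¹) * h⁻¹) * w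
        * ((w * h * w⁻¹) * k⁻¹ * (w * h * w⁻¹)⁻¹)
      = w * h * w⁻¹ * k⁻¹ * h⁻¹ * (w * w) * h * w⁻¹ * k⁻¹ * w * h⁻¹ * w⁻¹ := by group
    _ = w * h * (w * k * w)⁻¹ * k⁻¹ * w * h⁻¹ * w⁻¹ := by rw [hw2]; group
    _ = w * (h * k * h⁻¹) * w⁻¹ := by rw [hB0]; group
    _ = w * (h * k * h⁻¹) * w := by rw [hwinv]

/-- The Bruhat-type construction of a subgroup of index two. -/
theorem bruhat_index_two (S : Sharp3 G Ω) {a b : Ω} (hab : a ≠ b) (K : Subgroup G)
    (hKa : ∀ k ∈ K, k • a = a)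
    (hKt : ∀ x : Ω, x ≠ a → ∃ k ∈ K, k • b = x)
    (hKr : ∀ k ∈ K, k ≠ 1 → ∀ ω : Ω, ω ≠ a → k • ω ≠ ω)
    (hKn : ∀ g : G, g • a = a → ∀ k ∈ K, g * k * g⁻¹ ∈ K)
    (N : Subgroup G) (hNH : ∀ m ∈ N, m • a = a ∧ m • b = b)
    (hN2 : ∀ h h' : G, h • a = a → h • b = b → h' • a = a → h' • b = b →
      (h * h' ∈ N ↔ (h ∈ N ↔ h' ∈ N)))
    {h₀ : G} (h₀a : h₀ • a = a) (h₀b : h₀ • b = b) (h₀N : h₀ ∉ N)
    {w : G} (hwa : w • a = b) (hwb : w • b = a) (hw2 : w * w = 1)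
    (hwN : ∀ m ∈ N, w * m * w⁻¹ ∈ N)
    {k₀ : G} (hk₀ : k₀ ∈ K) (hk₀1 : k₀ ≠ 1) (hwk : w • k₀ • b = k₀⁻¹ • b) :
    ∃ L : Subgroup G, L.index = 2 := by
  have hwinv : w⁻¹ = w := inv_eq_of_mul_eq_one_right hw2
  have hwa' : w⁻¹ • a = b := by rw [hwinv]; exact hwa
  have hwb' : w⁻¹ • b = a := by rw [hwinv]; exact hwb
  have hinvfix : ∀ (g : G) (x : Ω), g • x = x → g⁻¹ • x = x :=
    fun g x h => by rw [inv_smul_eq_iff, h]
  have hKuniq : ∀ k ∈ K, ∀ k' ∈ K, k • b = k' • b → k = k' := by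
    intro k hk k' hk' h
    by_contra hne
    have h1 : k'⁻¹ * k ≠ 1 := fun e => hne (inv_mul_eq_one.mp e).symm
    apply hKr _ (K.mul_mem (K.inv_mem hk') hk) h1 b (Ne.symm hab)
    rw [mul_smul, h, inv_smul_smul]
  have hKb : ∀ k ∈ K, k • b = b → k = 1 := by
    intro k hk h
    by_contra h1
    exact hKr k hk h1 b (Ne.symm hab) h
  have hαH : ∀ h : G, h • a = a → h • b = b →
      (w * h * w⁻¹) • a = a ∧ (w * h * w⁻¹) • b = b := by
    intro h ha hb
    constructor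
    · rw [mul_smul, mul_smul, hwa', hb, hwb]
    · rw [mul_smul, mul_smul, hwb', ha, hwa]
  have hαN : ∀ h : G, (w * h * w⁻¹ ∈ N ↔ h ∈ N) := by
    intro h
    constructor
    · intro hh
      have h1 := hwN _ hh
      have e : w * (w * h * w⁻¹) * w⁻¹ = (w * w) * h * (w * w)⁻¹ := by group
      rw [e, hw2, one_mul, inv_one, mul_one] at h1
      exact h1
    · exact hwN h
  have hkeyN : ∀ h : G, h • a = a → h • b = b → (w * h * w⁻¹) * h⁻¹ ∈ N := by
    intro h ha hb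
    obtain ⟨h1, h2⟩ := hαH h ha hb
    rw [hN2 _ _ h1 h2 (hinvfix h a ha) (hinvfix h b hb), hαN, inv_mem_iff]
  obtain ⟨c, hc⟩ : ∃ c : Ω, c = k₀ • b := ⟨_, rfl⟩
  have hcb : c ≠ b := by rw [hc]; exact hKr k₀ hk₀ hk₀1 b (Ne.symm hab)
  have hca : c ≠ a := by
    rw [hc]
    intro h
    apply hab
    have : k₀ • a = k₀ • b := by rw [h, hKa k₀ hk₀]
    exact MulAction.injective _ this
  have hB0 : w * k₀ * w = k₀⁻¹ * w * k₀⁻¹ := by
    have h1 : (k₀ * w) • a = c := by rw [mul_smul, hwa, hc]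
    have h2 : (k₀ * w) • c = b := by rw [mul_smul, hc, hwk, smul_inv_smul]
    have h3 : (k₀ * w) • b = a := by rw [mul_smul, hwb, hKa k₀ hk₀]
    have h4 : (k₀ * w) * (k₀ * w) * (k₀ * w) = 1 := by
      apply S.sharp _ a b c hab (Ne.symm hcb) (Ne.symm hca)
      · rw [mul_smul, mul_smul, h1, h2, h3]
      · rw [mul_smul, mul_smul, h3, h1, h2]
      · rw [mul_smul, mul_smul, h2, h3, h1]
    calc w * k₀ * w = k₀⁻¹ * ((k₀ * w) * (k₀ * w) * (k₀ * w)) * w⁻¹ * k₀⁻¹ := by group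
      _ = k₀⁻¹ * w⁻¹ * k₀⁻¹ := by rw [h4]; group
      _ = k₀⁻¹ * w * k₀⁻¹ := by rw [hwinv]
  have hB : ∀ k ∈ K, k ≠ 1 → ∃ k' ∈ K, ∃ m ∈ N, w * k * w = k' * m * w * k' := by
    intro k hk hk1
    have hxb : k • b ≠ b := hKr k hk hk1 b (Ne.symm hab)
    have hxa : k • b ≠ a := by
      intro h
      apply hab
      have : k • a = k • b := by rw [h, hKa k hk]
      exact MulAction.injective _ this
    obtain ⟨h, hha, hhb, hhc⟩ := S.trans a b c a b (k • b) hab (Ne.symm hca) (Ne.symm hcb) hab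
      (Ne.symm hxa) (Ne.symm hxb)
    have hk' : k = h * k₀ * h⁻¹ := by
      apply hKuniq k hk _ (hKn h hha k₀ hk₀)
      rw [mul_smul, mul_smul, hinvfix h b hhb, ← hc, hhc]
    obtain ⟨h1, h2⟩ := hαH h hha hhb
    refine ⟨(w * h * w⁻¹) * k₀⁻¹ * (w * h * w⁻¹)⁻¹, hKn _ h1 _ (K.inv_mem hk₀),
      (w * h * w⁻¹) * h⁻¹, hkeyN h hha hhb, ?_⟩
    rw [hk']
    exact bruhat_identity hw2 hB0
  obtain ⟨P, hP⟩ : ∃ P : G → Prop, ∀ g, P g ↔ ((∃ k ∈ K, ∃ m ∈ N, g = k * m) ∨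
      (∃ k ∈ K, ∃ m ∈ N, ∃ k' ∈ K, g = k * m * w * k')) := ⟨_, fun g => Iff.rfl⟩
  have hc1 : ∀ g, P g → ∀ k ∈ K, P (g * k) := by
    intro g hg k hk
    rw [hP] at hg ⊢
    rcases hg with ⟨k₁, hk₁, m, hm, rfl⟩ | ⟨k₁, hk₁, m, hm, k', hk', rfl⟩
    · left
      exact ⟨k₁ * (m * k * m⁻¹), K.mul_mem hk₁ (hKn m (hNH m hm).1 k hk), m, hm, by group⟩
    · right
      exact ⟨k₁, hk₁, m, hm, k' * k, K.mul_mem hk' hk, by group⟩
  have hc2 : ∀ g, P g → ∀ m' ∈ N, P (g * m') := by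
    intro g hg m' hm'
    rw [hP] at hg ⊢
    rcases hg with ⟨k₁, hk₁, m, hm, rfl⟩ | ⟨k₁, hk₁, m, hm, k', hk', rfl⟩
    · left
      exact ⟨k₁, hk₁, m * m', N.mul_mem hm hm', by group⟩
    · right
      refine ⟨k₁, hk₁, m * (w * m' * w⁻¹), N.mul_mem hm (hwN m' hm'), m'⁻¹ * k' * m', ?_,
        by group⟩
      have := hKn m'⁻¹ (hinvfix m' a (hNH m' hm').1) k' hk'
      rwa [inv_inv] at this
  have hc3 : ∀ g, P g → P (g * w) := by
    intro g hg
    rw [hP] at hg ⊢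
    rcases hg with ⟨k₁, hk₁, m, hm, rfl⟩ | ⟨k₁, hk₁, m, hm, k', hk', rfl⟩
    · right
      exact ⟨k₁, hk₁, m, hm, 1, K.one_mem, by group⟩
    · by_cases hk'1 : k' = 1
      · left
        refine ⟨k₁, hk₁, m, hm, ?_⟩
        rw [hk'1]
        calc k₁ * m * w * 1 * w = k₁ * m * (w * w) := by group
          _ = k₁ * m := by rw [hw2, mul_one]
      · right
        obtain ⟨k'', hk'', m'', hm'', e⟩ := hB k' hk' hk'1
        refine ⟨k₁ * (m * k'' * m⁻¹), K.mul_mem hk₁ (hKn m (hNH m hm).1 k'' hk''), m * m'',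
          N.mul_mem hm hm'', k'', hk'', ?_⟩
        calc k₁ * m * w * k' * w = k₁ * m * (w * k' * w) := by group
          _ = k₁ * m * (k'' * m'' * w * k'') := by rw [e]
          _ = k₁ * (m * k'' * m⁻¹) * (m * m'') * w * k'' := by group
  obtain ⟨L, hL⟩ : ∃ L : Subgroup G,
    L = Subgroup.closure ((K : Set G) ∪ (N : Set G) ∪ {w}) := ⟨_, rfl⟩
  have hKL : ∀ k ∈ K, k ∈ L := fun k hk => by
    rw [hL]; exact Subgroup.subset_closure (Or.inl (Or.inl hk))
  have hNL : ∀ m ∈ N, m ∈ L := fun m hm => by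
    rw [hL]; exact Subgroup.subset_closure (Or.inl (Or.inr hm))
  have hwL : w ∈ L := by rw [hL]; exact Subgroup.subset_closure (Or.inr rfl)
  have hLP : ∀ g ∈ L, P g := by
    intro g hg
    rw [hL] at hg
    induction hg using Subgroup.closure_induction_right with
    | one =>
      rw [hP]
      left
      exact ⟨1, K.one_mem, 1, N.one_mem, by group⟩
    | mul_right x hx y hy ih =>
      rcases hy with (hy | hy) | hy
      · exact hc1 x ih y hy
      · exact hc2 x ih y hy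
      · rw [Set.mem_singleton_iff] at hy
        rw [hy]
        exact hc3 x ih
    | mul_inv_cancel x hx y hy ih =>
      rcases hy with (hy | hy) | hy
      · exact hc1 x ih y⁻¹ (K.inv_mem hy)
      · exact hc2 x ih y⁻¹ (N.inv_mem hy)
      · rw [Set.mem_singleton_iff] at hy
        rw [hy, hwinv]
        exact hc3 x ih
  have hPL : ∀ g, P g → g ∈ L := by
    intro g hg
    rw [hP] at hg
    rcases hg with ⟨k₁, hk₁, m, hm, rfl⟩ | ⟨k₁, hk₁, m, hm, k', hk', rfl⟩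
    · exact L.mul_mem (hKL _ hk₁) (hNL _ hm)
    · exact L.mul_mem (L.mul_mem (L.mul_mem (hKL _ hk₁) (hNL _ hm)) hwL) (hKL _ hk')
  have h₀L : h₀ ∉ L := by
    intro h
    have h' := hLP h₀ h
    rw [hP] at h'
    rcases h' with ⟨k₁, hk₁, m, hm, e⟩ | ⟨k₁, hk₁, m, hm, k', hk', e⟩
    · have h1 : k₁ = 1 := by
        apply hKb k₁ hk₁
        have h2 : k₁ = h₀ * m⁻¹ := by rw [e]; group
        rw [h2, mul_smul, hinvfix m b (hNH m hm).2, h₀b]
      apply h₀N
      rw [e, h1, one_mul]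
      exact hm
    · apply hab
      have h1 : h₀ • a = k₁ • b := by
        rw [e, mul_smul, mul_smul, mul_smul, hKa k' hk', hwa, (hNH m hm).2]
      rw [h₀a] at h1
      have h2 : k₁ • a = k₁ • b := by rw [hKa k₁ hk₁]; exact h1
      exact MulAction.injective _ h2
  have hGa : ∀ g : G, g • a = a → ∃ k ∈ K, ∃ h : G, h • a = a ∧ h • b = b ∧ g = k * h := by
    intro g hga
    have hgb : g • b ≠ a := by
      intro h
      apply hab
      have : g • a = g • b := by rw [h, hga]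
      exact MulAction.injective _ this
    obtain ⟨k, hk, hkb⟩ := hKt (g • b) hgb
    refine ⟨k, hk, k⁻¹ * g, ?_, ?_, by group⟩
    · rw [mul_smul, hga, hinvfix k a (hKa k hk)]
    · rw [mul_smul, ← hkb, inv_smul_smul]
  have hdecomp : ∀ g : G, (∃ k ∈ K, ∃ h : G, h • a = a ∧ h • b = b ∧ g = k * h) ∨
      (∃ k ∈ K, ∃ h : G, h • a = a ∧ h • b = b ∧ ∃ k' ∈ K, g = k * h * w * k') := by
    intro g
    by_cases hga : g • a = a
    · left
      exact hGa g hga
    · right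
      have hx : g⁻¹ • a ≠ a := by
        intro h
        apply hga
        exact (inv_smul_eq_iff.mp h).symm
      obtain ⟨k', hk', hk'b⟩ := hKt (g⁻¹ • a) hx
      have h1 : (g * k' * w) • a = a := by
        rw [mul_smul, mul_smul, hwa, hk'b, smul_inv_smul]
      obtain ⟨k, hk, h, hha, hhb, e⟩ := hGa _ h1
      refine ⟨k, hk, h, hha, hhb, k'⁻¹, K.inv_mem hk', ?_⟩
      calc g = (g * k' * w) * w⁻¹ * k'⁻¹ := by group
        _ = k * h * w * k'⁻¹ := by rw [e, hwinv]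
  refine ⟨L, ?_⟩
  rw [Subgroup.index_eq_two_iff]
  refine ⟨h₀, fun g => ?_⟩
  have hor : g ∈ L ∨ g * h₀ ∈ L := by
    rcases hdecomp g with ⟨k, hk, h, hha, hhb, rfl⟩ | ⟨k, hk, h, hha, hhb, k', hk', rfl⟩
    · by_cases hhN : h ∈ N
      · left
        exact L.mul_mem (hKL k hk) (hNL h hhN)
      · right
        have h1 : h * h₀ ∈ N := by
          rw [hN2 h h₀ hha hhb h₀a h₀b]
          tauto
        rw [mul_assoc]
        exact L.mul_mem (hKL k hk) (hNL _ h1)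
    · by_cases hhN : h ∈ N
      · left
        apply hPL
        rw [hP]
        right
        exact ⟨k, hk, h, hhN, k', hk', rfl⟩
      · right
        apply hPL
        rw [hP]
        right
        obtain ⟨h1, h2⟩ := hαH h₀ h₀a h₀b
        have hm : h * (w * h₀ * w⁻¹) ∈ N := by
          rw [hN2 h _ hha hhb h1 h2, hαN]
          tauto
        refine ⟨k, hk, h * (w * h₀ * w⁻¹), hm, h₀⁻¹ * k' * h₀, ?_, by group⟩
        have := hKn h₀⁻¹ (hinvfix h₀ a h₀a) k' hk'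
        rwa [inv_inv] at this
  unfold Xor
  by_cases hg : g ∈ L
  · right
    refine ⟨hg, fun h => h₀L ?_⟩
    have e : h₀ = g⁻¹ * (g * h₀) := by group
    rw [e]
    exact L.mul_mem (L.inv_mem hg) h
  · left
    rcases hor with h | h
    · exact absurd h hg
    · exact ⟨h, hg⟩

/-- A sharply triply transitive group of even degree whose two-point stabilisers have a subgroup
of index two has itself a subgroup of index two. -/
theorem Sharp3.index_two [Finite G] [Finite Ω] (S : Sharp3 G Ω) {a b : Ω} (hab : a ≠ b)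
    (heven : Even (Nat.card Ω)) (h4 : 4 ≤ Nat.card Ω)
    (hidx : HasIdx2 ↥(MulAction.stabilizer G a ⊓ MulAction.stabilizer G b)) :
    ∃ L : Subgroup G, L.index = 2 := by
  have hcard := S.card_stab hab (by omega : 3 ≤ Nat.card Ω)
  obtain ⟨K, hKa, hKt, hKr, hKn, hKf, -⟩ := S.kernel hab h4
  obtain ⟨c, hca, hcb⟩ := exists_third (by omega : 3 ≤ Nat.card Ω) a b
  obtain ⟨s, hsa, hsb, hsc⟩ := S.trans a b c b a c hab (Ne.symm hca) (Ne.symm hcb) (Ne.symm hab)
    (Ne.symm hcb) (Ne.symm hca)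
  obtain ⟨N, hNle, hNn, hNidx, hNs⟩ := S.exists_normal hab hca hcb hidx hsa hsb hsc
  obtain ⟨H, hH⟩ : ∃ H : Subgroup G,
    H = MulAction.stabilizer G a ⊓ MulAction.stabilizer G b := ⟨_, rfl⟩
  rw [← hH] at hcard hNle hNidx hNn
  have memH : ∀ g : G, g ∈ H ↔ g • a = a ∧ g • b = b := by
    intro g
    rw [hH, Subgroup.mem_inf, MulAction.mem_stabilizer_iff, MulAction.mem_stabilizer_iff]
  have hHeven : 2 ∣ Nat.card ↥H := by
    obtain ⟨m, hm⟩ := heven
    omega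
  have : Fact (Nat.Prime 2) := ⟨Nat.prime_two⟩
  obtain ⟨t', ht'⟩ := exists_prime_orderOf_dvd_card' 2 hHeven
  obtain ⟨t, htdef⟩ : ∃ t : G, t = (t' : G) := ⟨_, rfl⟩
  have htH : t ∈ H := by rw [htdef]; exact t'.2
  have hta : t • a = a := ((memH _).mp htH).1
  have htb : t • b = b := ((memH _).mp htH).2
  have ht2 : t * t = 1 := by
    rw [htdef]
    have h1 := pow_orderOf_eq_one t'
    rw [ht', pow_two] at h1
    exact congrArg Subtype.val h1
  have ht1 : t ≠ 1 := by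
    rw [htdef]
    intro h
    have h1 : t' = 1 := Subtype.ext h
    rw [h1, orderOf_one] at ht'
    omega
  have htK : ∀ k ∈ K, t * k * t⁻¹ = k⁻¹ := by
    apply inverts_of_fpf_invol K ht2 (fun n hn => hKn t hta n hn)
    intro k hk hkc
    apply hKf t hta htb ht1 k hk
    calc t * k = (t * k * t⁻¹) * t := by group
      _ = k * t := by rw [hkc]
  have hNH : ∀ m ∈ N, m • a = a ∧ m • b = b := fun m hm => (memH m).mp (hNle hm)
  have hN2 : ∀ h h' : G, h • a = a → h • b = b → h' • a = a → h' • b = b →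
      (h * h' ∈ N ↔ (h ∈ N ↔ h' ∈ N)) := by
    intro h h' ha hb ha' hb'
    have hh : h ∈ H := (memH h).mpr ⟨ha, hb⟩
    have hh' : h' ∈ H := (memH h').mpr ⟨ha', hb'⟩
    have h1 := Subgroup.mul_mem_iff_of_index_two (H := N.subgroupOf H) hNidx
      (a := ⟨h, hh⟩) (b := ⟨h', hh'⟩)
    rw [Subgroup.mem_subgroupOf, Subgroup.mem_subgroupOf, Subgroup.mem_subgroupOf] at h1
    exact h1
  obtain ⟨h₀, h₀H, h₀N⟩ : ∃ h₀ ∈ H, h₀ ∉ N := by
    by_contra hcon
    push Not at hcon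
    have h1 : N.relIndex H = 1 := Subgroup.relIndex_eq_one.mpr hcon
    omega
  have hs2 : s * s = 1 := by
    apply S.sharp _ a b c hab (Ne.symm hcb) (Ne.symm hca)
    · rw [mul_smul, hsa, hsb]
    · rw [mul_smul, hsb, hsa]
    · rw [mul_smul, hsc, hsc]
  have hsinv : s⁻¹ = s := inv_eq_of_mul_eq_one_right hs2
  have hst : s * t * s⁻¹ = t := by
    symm
    apply S.invol_unique hab hca hcb hta htb ht2 ht1
    · rw [hsinv, mul_smul, mul_smul, hsa, htb, hsb]
    · rw [hsinv, mul_smul, mul_smul, hsb, hta, hsa]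
    · calc s * t * s⁻¹ * (s * t * s⁻¹) = s * (t * t) * s⁻¹ := by group
        _ = 1 := by rw [ht2]; group
    · intro h
      apply ht1
      calc t = s⁻¹ * (s * t * s⁻¹) * s := by group
        _ = 1 := by rw [h]; group
  have hcomm : s * t = t * s := by
    calc s * t = (s * t * s⁻¹) * s := by group
      _ = t * s := by rw [hst]
  have hwa : (t * s) • a = b := by rw [mul_smul, hsa, htb]
  have hwb : (t * s) • b = a := by rw [mul_smul, hsb, hta]
  have hw2 : (t * s) * (t * s) = 1 := by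
    calc (t * s) * (t * s) = t * (s * t) * s := by group
      _ = t * (t * s) * s := by rw [hcomm]
      _ = (t * t) * (s * s) := by group
      _ = 1 := by rw [ht2, hs2, one_mul]
  have hwN : ∀ m ∈ N, (t * s) * m * (t * s)⁻¹ ∈ N := by
    intro m hm
    have h1 : s * m * s⁻¹ ∈ N := hNs m hm
    have h2 : (⟨s * m * s⁻¹, hNle h1⟩ : ↥H) ∈ N.subgroupOf H := Subgroup.mem_subgroupOf.mpr h1
    have h3 := hNn.conj_mem _ h2 ⟨t, htH⟩
    rw [Subgroup.mem_subgroupOf] at h3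
    have e : (t * s) * m * (t * s)⁻¹ = t * (s * m * s⁻¹) * t⁻¹ := by group
    rw [e]
    exact h3
  obtain ⟨k₀, hk₀, hk₀b⟩ := hKt c hca
  have hk₀1 : k₀ ≠ 1 := by
    intro h
    rw [h, one_smul] at hk₀b
    exact hcb hk₀b.symm
  have hwk : (t * s) • k₀ • b = k₀⁻¹ • b := by
    have htb' : t⁻¹ • b = b := by rw [inv_smul_eq_iff, htb]
    rw [hk₀b, mul_smul, hsc, ← htK k₀ hk₀, mul_smul, mul_smul, htb', hk₀b]
  exact bruhat_index_two S hab K hKa hKt hKr hKn N hNH hN2 ((memH h₀).mp h₀H).1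
    ((memH h₀).mp h₀H).2 h₀N hwa hwb hw2 hwN hk₀ hk₀1 hwk

end Bruhat

end Cfsg.Agent.Lib.Helper83
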