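import Mathlib
import Cfsg.Prelude.Def_RootSubgroups

set_option autoImplicit false

namespace Cfsg.Agent.Lib.Helper83

open Cfsg

variable {G : Type*} [Group G]

/-! ### Conjugates of subgroups -/

theorem mem_conjBy {A : Subgroup G} {g x : G} : x ∈ conjBy A g ↔ g⁻¹ * x * g ∈ A := by
  constructor
  · rintro ⟨y, hy, rfl⟩
    simpa [MulAut.conj_apply, mul_assoc] using hy
  · intro h
    exact ⟨g⁻¹ * x * g, h, by simp [MulAut.conj_apply, mul_assoc]⟩

theorem conj_mem_conjBy {A : Subgroup G} {x : G} (hx : x ∈ A) (g : G) : g * x * g⁻¹ ∈ conjBy A g := by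
  rw [mem_conjBy]
  simpa [mul_assoc] using hx

theorem conjBy_one (A : Subgroup G) : conjBy A 1 = A := by
  ext x; simp

theorem conjBy_conjBy (A : Subgroup G) (g h : G) : conjBy (conjBy A g) h = conjBy A (h * g) := by
  ext x
  simp only [mem_conjBy]
  simp [mul_assoc]

theorem conjBy_of_mem {A : Subgroup G} {g : G} (hg : g ∈ A) : conjBy A g = A := by
  ext x
  rw [mem_conjBy]
  constructor
  · intro h
    have := A.mul_mem (A.mul_mem hg h) (A.inv_mem hg)
    simpa [mul_assoc] using this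
  · intro h
    exact A.mul_mem (A.mul_mem (A.inv_mem hg) h) hg

theorem conjBy_eq_iff {A B : Subgroup G} {g : G} : conjBy A g = B ↔ A = conjBy B g⁻¹ := by
  constructor
  · rintro rfl
    rw [conjBy_conjBy]; simp [conjBy_one]
  · intro h
    rw [h, conjBy_conjBy]; simp [conjBy_one]

theorem conjBy_inj {A B : Subgroup G} {g : G} (h : conjBy A g = conjBy B g) : A = B := by
  rw [conjBy_eq_iff, conjBy_conjBy] at h
  simpa [conjBy_one] using h

theorem conjBy_mono {A B : Subgroup G} (h : A ≤ B) (g : G) : conjBy A g ≤ conjBy B g :=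
  Subgroup.map_mono h

theorem conjBy_sup (A B : Subgroup G) (g : G) : conjBy (A ⊔ B) g = conjBy A g ⊔ conjBy B g :=
  Subgroup.map_sup _ _ _

theorem conjBy_le_of_mem {A H : Subgroup G} {g : G} (hA : A ≤ H) (hg : g ∈ H) : conjBy A g ≤ H := by
  intro x hx
  rw [mem_conjBy] at hx
  have h1 := hA hx
  have := H.mul_mem (H.mul_mem hg h1) (H.inv_mem hg)
  simpa [mul_assoc] using this

theorem mem_normalizer_iff_conjBy {A : Subgroup G} {g : G} :
    g ∈ Subgroup.normalizer (A : Set G) ↔ conjBy A g = A :=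
  Subgroup.mem_normalizer_iff_map_conj_eq

theorem conjBy_ne_bot {A : Subgroup G} (hA : A ≠ ⊥) (g : G) : conjBy A g ≠ ⊥ := by
  intro h
  apply hA
  have : conjBy A g = conjBy ⊥ g := by
    rw [h]; ext x; simp
  exact conjBy_inj this

theorem conjBy_bot (g : G) : conjBy (⊥ : Subgroup G) g = ⊥ := by
  ext x
  rw [mem_conjBy, Subgroup.mem_bot, Subgroup.mem_bot]
  constructor
  · intro h
    have : x = g * (g⁻¹ * x * g) * g⁻¹ := by group
    rw [this, h]; group
  · rintro rfl; group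

/-- The conjugation isomorphism from `A` onto `conjBy A g`. -/
noncomputable def conjByEquiv (A : Subgroup G) (g : G) : A ≃* conjBy A g :=
  A.equivMapOfInjective (MulAut.conj g).toMonoidHom (MulAut.conj g).injective

theorem conjBy_nilpotent {A : Subgroup G} (hA : Group.IsNilpotent A) (g : G) :
    Group.IsNilpotent (conjBy A g) :=
  (Group.nilpotent_of_mulEquiv (conjByEquiv A g)) 

/-! ### Rank one pairs -/

theorem rankOneCondition_conj {A B : Subgroup G} (h : RankOneCondition A B) (g : G) :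
    RankOneCondition (conjBy A g) (conjBy B g) := by
  intro a ha ha1
  rw [mem_conjBy] at ha
  have ha1' : g⁻¹ * a * g ≠ 1 := by
    intro h1
    apply ha1
    have : a = g * (g⁻¹ * a * g) * g⁻¹ := by group
    rw [this, h1]; group
  obtain ⟨b, hb, hb1, hab⟩ := h _ ha ha1'
  refine ⟨g * b * g⁻¹, conj_mem_conjBy hb g, ?_, ?_⟩
  · intro h1
    apply hb1
    have : b = g⁻¹ * (g * b * g⁻¹) * g := by group
    rw [this, h1]; group
  · rw [conjBy_conjBy, conjBy_conjBy]
    have e1 : (g * b * g⁻¹)⁻¹ * g = g * b⁻¹ := by group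
    have e2 : a⁻¹ * g = g * (g⁻¹ * a * g)⁻¹ := by group
    rw [e1, e2, ← conjBy_conjBy A, ← conjBy_conjBy B, hab]

theorem rankOne_conj {A B : Subgroup G} (h : IsRankOnePair A B) (g : G) :
    IsRankOnePair (conjBy A g) (conjBy B g) :=
  ⟨fun e => h.ne (conjBy_inj e), conjBy_nilpotent h.nilpotent_left g, conjBy_nilpotent h.nilpotent_right g,
    rankOneCondition_conj h.cond_left g, rankOneCondition_conj h.cond_right g⟩

/-- No non-identity element of `A` normalizes `B`. -/
theorem rankOne_inf_normalizer {A B : Subgroup G} (h : IsRankOnePair A B) :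
    A ⊓ Subgroup.normalizer (B : Set G) = ⊥ := by
  rw [eq_bot_iff]
  intro a ha
  rw [Subgroup.mem_bot]
  by_contra ha1
  obtain ⟨b, hb, -, hab⟩ := h.cond_left a ha.1 ha1
  have hn : a⁻¹ ∈ Subgroup.normalizer (B : Set G) := inv_mem ha.2
  rw [mem_normalizer_iff_conjBy] at hn
  rw [hn, conjBy_eq_iff, inv_inv, conjBy_of_mem hb] at hab
  exact h.ne hab

theorem rankOne_eq_one_of_normalizes {A B : Subgroup G} (h : IsRankOnePair A B) {a : G}
    (ha : a ∈ A) (hn : conjBy B a = B) : a = 1 := by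
  have : a ∈ A ⊓ Subgroup.normalizer (B : Set G) := ⟨ha, mem_normalizer_iff_conjBy.mpr hn⟩
  rw [rankOne_inf_normalizer h] at this
  exact this

theorem rankOne_symm {A B : Subgroup G} (h : IsRankOnePair A B) : IsRankOnePair B A :=
  RankOnePair_symm h

theorem rankOne_ne_bot_left {A B : Subgroup G} (h : IsRankOnePair A B) : A ≠ ⊥ := by
  intro hA
  have hB : B ≠ ⊥ := fun hB => h.ne (hA.trans hB.symm)
  obtain ⟨⟨b, hb⟩, hb1⟩ := (Subgroup.ne_bot_iff_exists_ne_one).mp hB
  obtain ⟨a, ha, ha1, -⟩ := h.cond_right b hb (fun e => hb1 (Subtype.ext e))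
  rw [hA, Subgroup.mem_bot] at ha
  exact ha1 ha

theorem rankOne_ne_bot_right {A B : Subgroup G} (h : IsRankOnePair A B) : B ≠ ⊥ :=
  rankOne_ne_bot_left (rankOne_symm h)


/-- Uniqueness of the partner `b(a)`. -/
theorem rankOne_partner_unique {A B : Subgroup G} (h : IsRankOnePair A B) {a b b' : G}
    (hb : b ∈ B) (hb' : b' ∈ B)
    (e : conjBy A b⁻¹ = conjBy B a⁻¹) (e' : conjBy A b'⁻¹ = conjBy B a⁻¹) : b = b' := by
  have h1 : conjBy A (b' * b⁻¹) = A := by
    rw [← conjBy_conjBy, e, ← e', conjBy_conjBy]; simp [conjBy_one]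
  have := rankOne_eq_one_of_normalizes (rankOne_symm h) (B.mul_mem hb' (B.inv_mem hb)) h1
  exact (mul_inv_eq_one.mp this).symm

/-- Uniqueness of `a` with given partner `b`. -/
theorem rankOne_partner_unique' {A B : Subgroup G} (h : IsRankOnePair A B) {a a' b : G}
    (ha : a ∈ A) (ha' : a' ∈ A)
    (e : conjBy A b⁻¹ = conjBy B a⁻¹) (e' : conjBy A b⁻¹ = conjBy B a'⁻¹) : a = a' :=
  rankOne_partner_unique (rankOne_symm h) ha ha' e.symm e'.symm

/-- `B` is a conjugate of `A` inside `A ⊔ B`. -/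
theorem rankOne_right_mem_unipotent {A B : Subgroup G} (h : IsRankOnePair A B) :
    B ∈ unipotentSubgroups A B := by
  obtain ⟨⟨a, ha⟩, ha1⟩ := (Subgroup.ne_bot_iff_exists_ne_one).mp (rankOne_ne_bot_left h)
  obtain ⟨b, hb, -, hab⟩ := h.cond_left a ha (fun e => ha1 (Subtype.ext e))
  refine ⟨a * b⁻¹, ?_, ?_⟩
  · exact mul_mem (Subgroup.mem_sup_left ha) (inv_mem (Subgroup.mem_sup_right hb))
  · rw [← conjBy_conjBy, hab, conjBy_conjBy]; simp [conjBy_one]

theorem left_mem_unipotent (A B : Subgroup G) : A ∈ unipotentSubgroups A B :=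
  ⟨1, one_mem _, (conjBy_one A).symm⟩

theorem unipotent_conj_mem {A B C : Subgroup G} (hC : C ∈ unipotentSubgroups A B) {x : G}
    (hx : x ∈ A ⊔ B) : conjBy C x ∈ unipotentSubgroups A B := by
  obtain ⟨y, hy, rfl⟩ := hC
  exact ⟨x * y, mul_mem hx hy, conjBy_conjBy A y x⟩

theorem unipotent_le {A B C : Subgroup G} (hC : C ∈ unipotentSubgroups A B) : C ≤ A ⊔ B := by
  obtain ⟨y, hy, rfl⟩ := hC
  exact conjBy_le_of_mem le_sup_left hy

/-- The subgroup of elements stabilizing a set of subgroups under conjugation. -/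
def conjStabilizer (T : Set (Subgroup G)) : Subgroup G where
  carrier := {x | (∀ C ∈ T, conjBy C x ∈ T) ∧ (∀ C ∈ T, conjBy C x⁻¹ ∈ T)}
  mul_mem' := by
    rintro x y ⟨hx, hx'⟩ ⟨hy, hy'⟩
    refine ⟨fun C hC => ?_, fun C hC => ?_⟩
    · rw [← conjBy_conjBy]; exact hx _ (hy _ hC)
    · rw [mul_inv_rev, ← conjBy_conjBy]; exact hy' _ (hx' _ hC)
  one_mem' := by
    refine ⟨fun C hC => ?_, fun C hC => ?_⟩
    · rw [conjBy_one]; exact hC
    · rw [inv_one, conjBy_one]; exact hC
  inv_mem' := by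
    rintro x ⟨hx, hx'⟩
    refine ⟨hx', fun C hC => ?_⟩
    rw [inv_inv]; exact hx C hC

/-- The set `{A} ∪ {a B a⁻¹ | a ∈ A}`. -/
def rankOneOrbit (A B : Subgroup G) : Set (Subgroup G) := {C | C = A ∨ ∃ a ∈ A, C = conjBy B a}

theorem rankOne_le_conjStabilizer {A B : Subgroup G} (h : IsRankOnePair A B) :
    A ⊔ B ≤ conjStabilizer (rankOneOrbit A B) := by
  have hA : ∀ x ∈ A, ∀ C ∈ rankOneOrbit A B, conjBy C x ∈ rankOneOrbit A B := by
    rintro x hx C (rfl | ⟨a, ha, rfl⟩)
    · left; exact conjBy_of_mem hx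
    · right; exact ⟨x * a, mul_mem hx ha, conjBy_conjBy B a x⟩
  have hBA : ∀ x ∈ B, conjBy A x ∈ rankOneOrbit A B := by
    intro x hx
    by_cases hx1 : x = 1
    · left; rw [hx1, conjBy_one]
    · have hx1' : x⁻¹ ≠ 1 := fun e => hx1 (inv_eq_one.mp e)
      obtain ⟨a, ha, -, hab⟩ := h.cond_right x⁻¹ (inv_mem hx) hx1'
      rw [inv_inv] at hab
      right; exact ⟨a⁻¹, inv_mem ha, hab.symm⟩
  have hB : ∀ x ∈ B, ∀ C ∈ rankOneOrbit A B, conjBy C x ∈ rankOneOrbit A B := by
    rintro x hx C (rfl | ⟨a, ha, rfl⟩)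
    · exact hBA x hx
    · by_cases ha1 : a = 1
      · right
        refine ⟨1, one_mem _, ?_⟩
        rw [ha1, conjBy_one, conjBy_of_mem hx]
      · have ha1' : a⁻¹ ≠ 1 := fun e => ha1 (inv_eq_one.mp e)
        obtain ⟨b, hb, -, hab⟩ := h.cond_left a⁻¹ (inv_mem ha) ha1'
        rw [inv_inv] at hab
        rw [← hab, conjBy_conjBy]
        exact hBA _ (mul_mem hx (inv_mem hb))
  refine sup_le (fun x hx => ⟨hA x hx, hA x⁻¹ (inv_mem hx)⟩) (fun x hx => ⟨hB x hx, hB x⁻¹ (inv_mem hx)⟩)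

/-- The conjugates of `A` under `A ⊔ B` are `A` and the conjugates of `B` under `A`. -/
theorem rankOne_unipotent_eq {A B : Subgroup G} (h : IsRankOnePair A B) :
    unipotentSubgroups A B = rankOneOrbit A B := by
  ext C
  constructor
  · rintro ⟨x, hx, rfl⟩
    exact (rankOne_le_conjStabilizer h hx).1 A (Or.inl rfl)
  · rintro (rfl | ⟨a, ha, rfl⟩)
    · exact left_mem_unipotent _ B
    · exact unipotent_conj_mem (rankOne_right_mem_unipotent h) (Subgroup.mem_sup_left ha)

theorem rankOne_unipotent_cases {A B C : Subgroup G} (h : IsRankOnePair A B)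
    (hC : C ∈ unipotentSubgroups A B) : C = A ∨ ∃ a ∈ A, C = conjBy B a := by
  rw [rankOne_unipotent_eq h] at hC
  exact hC

theorem rankOne_conjBy_right_ne_left {A B : Subgroup G} (h : IsRankOnePair A B) {a : G} (ha : a ∈ A) :
    conjBy B a ≠ A := by
  intro e
  rw [conjBy_eq_iff, conjBy_of_mem (inv_mem ha)] at e
  exact h.ne e.symm

theorem rankOne_conjBy_right_inj {A B : Subgroup G} (h : IsRankOnePair A B) {a a' : G} (ha : a ∈ A)
    (ha' : a' ∈ A) (e : conjBy B a = conjBy B a') : a = a' := by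
  have h1 : conjBy B (a'⁻¹ * a) = B := by
    rw [← conjBy_conjBy, e, conjBy_conjBy]; simp [conjBy_one]
  have := rankOne_eq_one_of_normalizes h (A.mul_mem (A.inv_mem ha') ha) h1
  exact (inv_mul_eq_one.mp this).symm

/-- Double transitivity, in the form: any ordered pair of distinct conjugates is a simultaneous
conjugate of `(A, B)`. -/
theorem rankOne_two_transitive {A B C₁ C₂ : Subgroup G} (h : IsRankOnePair A B)
    (h1 : C₁ ∈ unipotentSubgroups A B) (h2 : C₂ ∈ unipotentSubgroups A B) (hne : C₁ ≠ C₂) :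
    ∃ x ∈ A ⊔ B, C₁ = conjBy A x ∧ C₂ = conjBy B x := by
  obtain ⟨x₁, hx₁, rfl⟩ := h1
  have h2' : conjBy C₂ x₁⁻¹ ∈ unipotentSubgroups A B := unipotent_conj_mem h2 (inv_mem hx₁)
  rcases rankOne_unipotent_cases h h2' with e | ⟨a, ha, e⟩
  · exfalso
    apply hne
    rw [← conjBy_eq_iff.mpr e.symm]
  · refine ⟨x₁ * a, mul_mem hx₁ (Subgroup.mem_sup_left ha), ?_, ?_⟩
    · rw [← conjBy_conjBy, conjBy_of_mem ha]
    · rw [← conjBy_conjBy, ← e, conjBy_conjBy]; simp [conjBy_one]

/-- Two distinct conjugates form a rank one pair generating the same group. -/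
theorem rankOne_pair_of_mem_unipotent {A B E F : Subgroup G} (h : IsRankOnePair A B)
    (hE : E ∈ unipotentSubgroups A B) (hF : F ∈ unipotentSubgroups A B) (hne : E ≠ F) :
    IsRankOnePair E F ∧ E ⊔ F = A ⊔ B := by
  obtain ⟨x, hx, rfl, rfl⟩ := rankOne_two_transitive h hE hF hne
  exact ⟨rankOne_conj h x, by rw [← conjBy_sup, conjBy_of_mem hx]⟩

theorem unipotent_eq_of_mem {A B E F : Subgroup G} (h : IsRankOnePair A B)
    (hE : E ∈ unipotentSubgroups A B) (hF : F ∈ unipotentSubgroups A B) (hne : E ≠ F) :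
    unipotentSubgroups E F = unipotentSubgroups A B := by
  obtain ⟨x, hx, rfl, rfl⟩ := rankOne_two_transitive h hE hF hne
  ext C
  have hs : conjBy A x ⊔ conjBy B x = A ⊔ B := by rw [← conjBy_sup, conjBy_of_mem hx]
  constructor
  · rintro ⟨y, hy, rfl⟩
    rw [hs] at hy
    exact ⟨y * x, mul_mem hy hx, conjBy_conjBy A x y⟩
  · rintro ⟨y, hy, rfl⟩
    refine ⟨y * x⁻¹, ?_, ?_⟩
    · rw [hs]; exact mul_mem hy (inv_mem hx)
    · rw [conjBy_conjBy]; simp

theorem unipotent_symm {A B : Subgroup G} (h : IsRankOnePair A B) :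
    unipotentSubgroups B A = unipotentSubgroups A B :=
  unipotent_eq_of_mem h (rankOne_right_mem_unipotent h) (left_mem_unipotent A B) h.ne.symm

/-- Non-identity elements of `A` and `B` never commute. -/
theorem rankOne_not_commute {A B : Subgroup G} (h : IsRankOnePair A B) {a b : G} (ha : a ∈ A)
    (ha1 : a ≠ 1) (hb : b ∈ B) (hb1 : b ≠ 1) : a * b ≠ b * a := by
  intro hc
  obtain ⟨b', hb', -, hab⟩ := h.cond_left a ha ha1
  have e : conjBy A (b' * b)⁻¹ = conjBy B a⁻¹ := by
    have e1 : (b' * b)⁻¹ = b⁻¹ * b'⁻¹ := by group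
    have e2 : b⁻¹ * a⁻¹ = a⁻¹ * b⁻¹ := by
      have : (a * b)⁻¹ = (b * a)⁻¹ := by rw [hc]
      simpa [mul_inv_rev] using this
    rw [e1, ← conjBy_conjBy, hab, conjBy_conjBy, e2, ← conjBy_conjBy, conjBy_of_mem (inv_mem hb)]
  have := rankOne_partner_unique h (mul_mem hb' hb) hb' e hab
  exact hb1 (by simpa using this)

/-- An element normalizing every conjugate of `A` commutes with `A`. -/
theorem rankOne_commute_of_normalizes_all {A B : Subgroup G} (h : IsRankOnePair A B) {n : G}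
    (hn : ∀ C ∈ unipotentSubgroups A B, conjBy C n = C) {a : G} (ha : a ∈ A) : n * a = a * n := by
  have hn' : ∀ C ∈ unipotentSubgroups A B, conjBy C n⁻¹ = C := by
    intro C hC
    have := hn C hC
    rw [conjBy_eq_iff] at this
    exact this.symm
  have hc : n * a * n⁻¹ * a⁻¹ ∈ A := by
    refine mul_mem ?_ (inv_mem ha)
    have : n * a * n⁻¹ ∈ conjBy A n := conj_mem_conjBy ha n
    rwa [hn A (left_mem_unipotent A B)] at this
  have hB : conjBy B (n * a * n⁻¹ * a⁻¹) = B := by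
    have e : n * a * n⁻¹ * a⁻¹ = n * (a * (n⁻¹ * a⁻¹)) := by group
    rw [e, ← conjBy_conjBy, ← conjBy_conjBy, ← conjBy_conjBy,
      hn' _ (unipotent_conj_mem (rankOne_right_mem_unipotent h) (Subgroup.mem_sup_left (inv_mem ha))),
      conjBy_conjBy B a⁻¹ a, mul_inv_cancel, conjBy_one, hn B (rankOne_right_mem_unipotent h)]
  have := rankOne_eq_one_of_normalizes h hc hB
  calc n * a = (n * a * n⁻¹ * a⁻¹) * (a * n) := by group
    _ = a * n := by rw [this, one_mul]

/-- An element normalizing every conjugate of `A` centralizes `A ⊔ B`. -/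
theorem rankOne_centralizes_of_normalizes_all {A B : Subgroup G} (h : IsRankOnePair A B) {n : G}
    (hn : ∀ C ∈ unipotentSubgroups A B, conjBy C n = C) :
    n ∈ Subgroup.centralizer ((A ⊔ B : Subgroup G) : Set G) := by
  have hA : A ≤ Subgroup.centralizer ({n} : Set G) := by
    intro a ha
    rw [Subgroup.mem_centralizer_iff]
    intro m hm
    rw [Set.mem_singleton_iff] at hm
    rw [hm]
    exact rankOne_commute_of_normalizes_all h hn ha
  have hB : B ≤ Subgroup.centralizer ({n} : Set G) := by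
    intro b hb
    rw [Subgroup.mem_centralizer_iff]
    intro m hm
    rw [Set.mem_singleton_iff] at hm
    rw [hm]
    exact rankOne_commute_of_normalizes_all (rankOne_symm h) (by rw [unipotent_symm h]; exact hn) hb
  rw [Subgroup.mem_centralizer_iff]
  intro x hx
  have := (sup_le hA hB) hx
  rw [Subgroup.mem_centralizer_iff] at this
  exact (this n rfl).symm

end Cfsg.Agent.Lib.Helper83
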