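import Cfsg.Agent.Lib.Helper83.RankOne

set_option autoImplicit false

namespace Cfsg.Agent.Lib.Helper83

open Cfsg
open scoped commutatorElement

variable {G : Type*} [Group G]

theorem exists_mul_of_mem_normal_sup {N H : Subgroup G} (hN : N.Normal) {x : G} (hx : x ∈ N ⊔ H) :
    ∃ n ∈ N, ∃ h ∈ H, x = n * h := by
  have : x ∈ ((N ⊔ H : Subgroup G) : Set G) := hx
  rw [Subgroup.normal_mul] at this
  obtain ⟨n, hn, h, hh, e⟩ := Set.mem_mul.mp this
  exact ⟨n, hn, h, hh, e.symm⟩

theorem conjBy_of_mem_center (A : Subgroup G) {z : G} (hz : z ∈ Subgroup.center G) : conjBy A z = A := by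
  ext x
  rw [mem_conjBy]
  have : z⁻¹ * x * z = x := by
    rw [mul_assoc, (Subgroup.mem_center_iff.mp hz x), ← mul_assoc, inv_mul_cancel, one_mul]
  rw [this]

/-- A normal subgroup of a rank one group either supplements `A` or is central. -/
theorem rankOneGroup_normal_dichotomy {A B : Subgroup G} (h : IsRankOneGroup G A B) (N : Subgroup G)
    (hN : N.Normal) : N ⊔ A = ⊤ ∨ N ≤ Subgroup.center G := by
  obtain ⟨htop, hp⟩ := h
  by_cases hcase' : ∃ n ∈ N, conjBy A n ≠ A
  swap
  · right
    have hcase : ∀ n ∈ N, conjBy A n = A := by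
      intro n hn
      by_contra hne
      exact hcase' ⟨n, hn, hne⟩
    intro n hn
    have hall : ∀ C ∈ unipotentSubgroups A B, conjBy C n = C := by
      rintro C ⟨x, hx, rfl⟩
      rw [conjBy_conjBy]
      have e : n * x = x * (x⁻¹ * n * x) := by group
      rw [e, ← conjBy_conjBy, hcase _ (hN.conj_mem' n hn x)]
    have := rankOne_centralizes_of_normalizes_all hp hall
    rw [htop, Subgroup.coe_top, Subgroup.centralizer_univ] at this
    exact this
  · left
    obtain ⟨n, hn, hne⟩ := hcase'
    have hmem : conjBy A n ∈ unipotentSubgroups A B := ⟨n, by rw [htop]; trivial, rfl⟩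
    rcases rankOne_unipotent_cases hp hmem with e | ⟨a, ha, e⟩
    · exact absurd e hne
    · have hB : B = conjBy A (a⁻¹ * n) := by
        rw [← conjBy_conjBy, e, conjBy_conjBy]; simp [conjBy_one]
      rw [eq_top_iff, ← htop]
      refine sup_le le_sup_right ?_
      rw [hB]
      exact conjBy_le_of_mem le_sup_right
        (mul_mem (Subgroup.mem_sup_right (inv_mem ha)) (Subgroup.mem_sup_left hn))

theorem rankOneGroup_center_ne_top {A B : Subgroup G} (h : IsRankOneGroup G A B) :
    Subgroup.center G ≠ ⊤ := by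
  intro hc
  obtain ⟨-, hp⟩ := h
  apply rankOne_ne_bot_left hp
  rw [eq_bot_iff, ← rankOne_inf_normalizer hp]
  intro a ha
  exact ⟨ha, mem_normalizer_iff_conjBy.mpr (conjBy_of_mem_center B (by rw [hc]; trivial))⟩

/-- The second centre of a rank one group equals its centre. -/
theorem rankOneGroup_upperCentralSeries_two {A B : Subgroup G} (h : IsRankOneGroup G A B) :
    Subgroup.upperCentralSeries G 2 = Subgroup.center G := by
  have hmono : Subgroup.center G ≤ Subgroup.upperCentralSeries G 2 := by
    rw [← Subgroup.upperCentralSeries_one]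
    exact Subgroup.upperCentralSeries_mono G (by norm_num)
  rcases rankOneGroup_normal_dichotomy h (Subgroup.upperCentralSeries G 2) inferInstance with h2 | h2
  · exfalso
    obtain ⟨htop, hp⟩ := h
    obtain ⟨⟨b, hb⟩, hb1⟩ := (Subgroup.ne_bot_iff_exists_ne_one).mp (rankOne_ne_bot_right hp)
    have hb1' : b ≠ 1 := fun e => hb1 (Subtype.ext e)
    -- `b` does not normalize `A`
    have hbA : conjBy A b ≠ A := fun e => hb1' (rankOne_eq_one_of_normalizes (rankOne_symm hp) hb e)
    have hbmem : b ∈ Subgroup.upperCentralSeries G 2 ⊔ A := by rw [h2]; trivial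
    obtain ⟨z, hz, a, ha, e⟩ := exists_mul_of_mem_normal_sup inferInstance hbmem
    have hC : conjBy A b = conjBy A z := by
      rw [e, ← conjBy_conjBy, conjBy_of_mem ha]
    have hCle : conjBy A z ≤ Subgroup.center G ⊔ A := by
      intro x hx
      rw [mem_conjBy] at hx
      have hzc : ⁅z, z⁻¹ * x * z⁆ ∈ Subgroup.center G := by
        have := (Subgroup.mem_upperCentralSeries_succ_iff (n := 1)).mp hz (z⁻¹ * x * z)
        rwa [Subgroup.upperCentralSeries_one] at this
      have ex : x = ⁅z, z⁻¹ * x * z⁆ * (z⁻¹ * x * z) := by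
        rw [commutatorElement_def]; group
      rw [ex]
      exact mul_mem (Subgroup.mem_sup_left hzc) (Subgroup.mem_sup_right hx)
    have hCmem : conjBy A b ∈ unipotentSubgroups A B := ⟨b, by rw [htop]; trivial, rfl⟩
    have hsup := (rankOne_pair_of_mem_unipotent hp (left_mem_unipotent A B) hCmem (Ne.symm hbA)).2
    have htop' : Subgroup.center G ⊔ A = ⊤ := by
      rw [eq_top_iff, ← htop, ← hsup]
      refine sup_le le_sup_right ?_
      rw [hC]; exact hCle
    have hbmem' : b ∈ Subgroup.center G ⊔ A := by rw [htop']; trivial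
    obtain ⟨z', hz', a', ha', e'⟩ := exists_mul_of_mem_normal_sup inferInstance hbmem'
    apply hbA
    rw [e', ← conjBy_conjBy, conjBy_of_mem ha', conjBy_of_mem_center A hz']
  · exact le_antisymm h2 hmono

/-- A rank one group is not nilpotent. -/
theorem rankOneGroup_not_nilpotent {A B : Subgroup G} (h : IsRankOneGroup G A B) :
    ¬ Group.IsNilpotent G := by
  intro hnil
  obtain ⟨n, hn⟩ := hnil.nilpotent
  have h2 := rankOneGroup_upperCentralSeries_two h
  have h12 : Subgroup.upperCentralSeries G 1 = Subgroup.upperCentralSeries G (1 + 1) := by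
    rw [Subgroup.upperCentralSeries_one]; exact h2.symm
  have hle : Subgroup.upperCentralSeries G n ≤ Subgroup.upperCentralSeries G (max n 1) :=
    Subgroup.upperCentralSeries_mono G (le_max_left n 1)
  have heq := Subgroup.upperCentralSeries.eq_ge_of_eq_succ (le_max_right n 1) h12
  rw [hn, ← heq, Subgroup.upperCentralSeries_one] at hle
  exact rankOneGroup_center_ne_top h (eq_top_iff.mpr hle)

end Cfsg.Agent.Lib.Helper83
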