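import Mathlib
import Cfsg.Agent.Lib.Helper83.Sharp3
import Cfsg.Agent.Lib.Helper83.CommField
import Cfsg.Agent.Lib.Helper58.Moebius

/-!
# Sharply triply transitive groups of degree `p ^ f + 1`, `f` odd

Coordinatisation by a field: the Frobenius kernel of a point stabiliser becomes the additive group
of a field, the two-point stabiliser its multiplicative group, and an involution interchanging the
two points the inversion.
-/

set_option autoImplicit false

namespace Cfsg.Agent.Lib.Helper83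

/-- An involutive automorphism of a finite field of order `p ^ f` with `f` odd is trivial. -/
theorem invol_aut_trivial {F : Type*} [Field F] [Finite F] {p f : ℕ} (hp : p.Prime) (hf : Odd f)
    (hcard : Nat.card F = p ^ f) (σ : F ≃+* F) (hσ : ∀ x, σ (σ x) = x) : ∀ x, σ x = x := by
  classical
  have hfinR : Finite (RingAut F) := Finite.of_injective (fun f : RingAut F => (f : F → F))
    (fun f g h => RingEquiv.ext (fun x => congrFun h x))
  obtain ⟨τ, hτ⟩ : ∃ τ : RingAut F, τ = σ := ⟨σ, rfl⟩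
  have hτ2 : τ ^ 2 = 1 := by
    apply RingEquiv.ext
    intro x
    rw [hτ, pow_two]
    exact hσ x
  obtain ⟨S, hS⟩ : ∃ S : Subgroup (RingAut F), S = Subgroup.zpowers τ := ⟨_, rfl⟩
  let _ : Fintype S := Fintype.ofFinite S
  have h1 := FixedPoints.finrank_eq_card S F
  have h2 := Module.natCard_eq_pow_finrank (K := FixedPoints.subfield S F) (V := F)
  have h3 : Fintype.card S = orderOf τ := by
    rw [← Nat.card_eq_fintype_card, hS, Nat.card_zpowers]
  have h4 : orderOf τ ∣ 2 := orderOf_dvd_of_pow_eq_one hτ2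
  have h5 : orderOf τ = 1 ∨ orderOf τ = 2 := by
    have := Nat.le_of_dvd (by norm_num) h4
    have hpos := orderOf_pos τ
    rcases Nat.lt_or_ge (orderOf τ) 2 with h | h
    · left; omega
    · right; omega
  rcases h5 with h5 | h5
  · have h6 : τ = 1 := orderOf_eq_one_iff.mp h5
    intro x
    rw [← hτ, h6]
    rfl
  · exfalso
    rw [h1, h3, h5, hcard] at h2
    have h6 := congrArg (fun k => k.factorization p) h2
    simp only [Nat.factorization_pow, Finsupp.smul_apply, smul_eq_mul,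
      hp.factorization_self, mul_one] at h6
    obtain ⟨k, hk⟩ := hf
    omega

/-- A fixed-point-free group `N` of automorphisms of a group `K` of odd order `2 |N| + 1` acts
irreducibly. -/
theorem irr_of_half {G : Type*} [Group G] [Finite G] (K N : Subgroup G)
    (hfpf : ∀ m ∈ N, m ≠ 1 → ∀ k ∈ K, m * k = k * m → k = 1)
    (hodd : Odd (Nat.card K)) (hcard : 2 * Nat.card N + 1 = Nat.card K) :
    ∀ L : Subgroup G, L ≤ K → (∀ h ∈ N, ∀ x ∈ L, h * x * h⁻¹ ∈ L) → L = ⊥ ∨ L = K := by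
  intro L hLK hLinv
  by_contra hcon
  push Not at hcon
  obtain ⟨hbot, hK⟩ := hcon
  obtain ⟨k₁, hk₁L, hk₁1⟩ : ∃ k₁ ∈ L, k₁ ≠ 1 := by
    by_contra hall
    push Not at hall
    apply hbot
    rw [eq_bot_iff]
    intro x hx
    rw [Subgroup.mem_bot]
    exact hall x hx
  obtain ⟨φ, hφ⟩ : ∃ φ : G → G, ∀ m, φ m = m * k₁ * m⁻¹ := ⟨fun m => m * k₁ * m⁻¹, fun m => rfl⟩
  have hinj : Set.InjOn φ (N : Set G) := by
    intro m hm m' hm' h
    rw [hφ, hφ] at h
    by_contra hne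
    have h1 : m'⁻¹ * m ≠ 1 := fun e => hne (inv_mul_eq_one.mp e).symm
    have h2 : (m'⁻¹ * m) * k₁ = k₁ * (m'⁻¹ * m) := by
      calc (m'⁻¹ * m) * k₁ = m'⁻¹ * (m * k₁ * m⁻¹) * m := by group
        _ = m'⁻¹ * (m' * k₁ * m'⁻¹) * m := by rw [h]
        _ = k₁ * (m'⁻¹ * m) := by group
    exact hk₁1 (hfpf _ (N.mul_mem (N.inv_mem hm') hm) h1 k₁ (hLK hk₁L) h2)
  have himg : φ '' (N : Set G) ⊆ (L : Set G) \ {1} := by
    rintro _ ⟨m, hm, rfl⟩
    rw [hφ]
    refine ⟨hLinv m hm k₁ hk₁L, ?_⟩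
    intro h
    rw [Set.mem_singleton_iff] at h
    apply hk₁1
    calc k₁ = m⁻¹ * (m * k₁ * m⁻¹) * m := by group
      _ = 1 := by rw [h]; group
  have h1 := Set.ncard_le_ncard himg (Set.toFinite _)
  rw [Set.InjOn.ncard_image hinj, Set.ncard_sdiff_singleton_of_mem L.one_mem] at h1
  have hN : (N : Set G).ncard = Nat.card N := rfl
  have hL : (L : Set G).ncard = Nat.card L := rfl
  rw [hN, hL] at h1
  have hne : Nat.card L ≠ Nat.card K := fun h => hK (Subgroup.eq_of_le_of_card_ge hLK h.ge)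
  obtain ⟨q, hq⟩ := Subgroup.card_dvd_of_le hLK
  have hLpos : 0 < Nat.card L := Nat.card_pos
  obtain ⟨j, hj⟩ := hodd
  rcases Nat.lt_or_ge q 3 with hq3 | hq3
  · interval_cases q
    · omega
    · omega
    · omega
  · have : Nat.card L * 3 ≤ Nat.card L * q := Nat.mul_le_mul_left _ hq3
    omega

/-- An additive map of a finite field of order `p ^ f` (`p`, `f` odd) which is semilinear with
respect to more than half of the nonzero scalars and whose square is a scalar is itself a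
scalar. -/
theorem mult_of_semilinear {F : Type*} [Field F] [Finite F] {p f : ℕ} (hp : p.Prime)
    (hp2 : p ≠ 2) (hf : Odd f) (hcard : Nat.card F = p ^ f) (Λ : Set F) (hΛ0 : (0 : F) ∉ Λ)
    (hΛcard : Nat.card F ≤ 2 * Λ.ncard + 1)
    (g : F → F) (hgadd : ∀ x y, g (x + y) = g x + g y) (hg1 : g 1 ≠ 0)
    (hgΛ : ∀ l ∈ Λ, ∃ l' : F, ∀ z, g (l * z) = l' * g z)
    {μ : F} (hμ : μ ≠ 0) (hgg : ∀ z, g (g z) = μ * z) :
    ∀ z, g z = g 1 * z := by
  have hg0 : g 0 = 0 := by
    have h := hgadd 0 0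
    rw [add_zero] at h
    have h' : g 0 + 0 = g 0 + g 0 := by rw [add_zero]; exact h
    exact (add_left_cancel h').symm
  have hgneg : ∀ x, g (-x) = -g x := by
    intro x
    have h := hgadd x (-x)
    rw [add_neg_cancel, hg0] at h
    exact eq_neg_of_add_eq_zero_right h.symm
  obtain ⟨R, hR⟩ : ∃ R : AddSubgroup F, ∀ x, x ∈ R ↔ ∃ x', ∀ z, g (x * z) = x' * g z := by
    refine ⟨{ carrier := {x | ∃ x', ∀ z, g (x * z) = x' * g z}
              add_mem' := ?_
              zero_mem' := ?_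
              neg_mem' := ?_ }, fun x => Iff.rfl⟩
    · rintro x y ⟨x', hx⟩ ⟨y', hy⟩
      exact ⟨x' + y', fun z => by rw [add_mul, hgadd, hx, hy, add_mul]⟩
    · exact ⟨0, fun z => by rw [zero_mul, zero_mul, hg0]⟩
    · rintro x ⟨x', hx⟩
      exact ⟨-x', fun z => by rw [neg_mul, hgneg, hx, neg_mul]⟩
  have hsub : insert 0 Λ ⊆ (R : Set F) := by
    intro x hx
    rcases hx with rfl | hx
    · exact R.zero_mem
    · exact (hR x).mpr (hgΛ x hx)
  have h1 := Set.ncard_le_ncard hsub (Set.toFinite _)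
  rw [Set.ncard_insert_of_notMem hΛ0] at h1
  have hRc : (R : Set F).ncard = Nat.card R := rfl
  rw [hRc] at h1
  have hodd : Odd (Nat.card F) := by
    rw [hcard]
    exact (hp.odd_of_ne_two hp2).pow
  have hRtop : R = ⊤ := by
    apply AddSubgroup.eq_top_of_card_eq
    obtain ⟨q, hq⟩ := AddSubgroup.card_addSubgroup_dvd_card R
    have hFpos : 0 < Nat.card F := Nat.card_pos
    obtain ⟨j, hj⟩ := hodd
    rcases Nat.lt_or_ge q 3 with hq3 | hq3
    · interval_cases q
      · omega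
      · omega
      · omega
    · have : Nat.card R * 3 ≤ Nat.card R * q := Nat.mul_le_mul_left _ hq3
      omega
  have hall : ∀ x, ∃ x', ∀ z, g (x * z) = x' * g z := by
    intro x
    rw [← hR, hRtop]
    trivial
  have hσ : ∀ x z, g (x * z) = (g x / g 1) * g z := by
    intro x z
    obtain ⟨x', hx'⟩ := hall x
    have h2 := hx' 1
    rw [mul_one] at h2
    rw [hx' z, h2, mul_div_assoc, div_self hg1, mul_one]
  obtain ⟨σ, hσdef⟩ : ∃ σ : F →+* F, ∀ x, σ x = g x / g 1 := by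
    refine ⟨{ toFun := fun x => g x / g 1
              map_one' := div_self hg1
              map_mul' := ?_
              map_zero' := ?_
              map_add' := ?_ }, fun x => rfl⟩
    · intro x y
      change g (x * y) / g 1 = g x / g 1 * (g y / g 1)
      rw [hσ x y]
      ring
    · change g 0 / g 1 = 0
      rw [hg0, zero_div]
    · intro x y
      change g (x + y) / g 1 = g x / g 1 + g y / g 1
      rw [hgadd, add_div]
  have hgσ : ∀ z, g z = σ z * g 1 := by
    intro z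
    rw [hσdef, div_mul_cancel₀ _ hg1]
  have hσσ : ∀ z, σ (σ z) = z := by
    have h3 : ∀ z, σ (σ z) * (σ (g 1) * g 1) = μ * z := by
      intro z
      rw [← hgg z, hgσ z, hσ, ← hσdef, hgσ (g 1)]
    have h4 := h3 1
    rw [map_one, map_one, one_mul, mul_one] at h4
    intro z
    have h5 := h3 z
    rw [h4] at h5
    have h6 : μ * σ (σ z) = μ * z := by rw [mul_comm]; exact h5
    exact mul_left_cancel₀ hμ h6
  obtain ⟨σ', hσ'⟩ : ∃ σ' : F ≃+* F, ∀ x, σ' x = σ x :=
    ⟨RingEquiv.ofBijective σ (Finite.injective_iff_bijective.mp σ.injective), fun x => rfl⟩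
  have hid := invol_aut_trivial hp hf hcard σ' (fun x => by rw [hσ', hσ', hσσ])
  intro z
  rw [hgσ z, ← hσ', hid, mul_comm]

/-- The functional equation of an involution of a sharply triply transitive group forces it to
be the inversion. -/
theorem kt_inverse {F : Type*} [Field F] (h2 : (2 : F) ≠ 0) (A : F → F)
    (hmul : ∀ x y : F, x ≠ 0 → y ≠ 0 → A (x * y) = A x * A y)
    (hne : ∀ x : F, x ≠ 0 → A x ≠ 0)
    (hinv : ∀ x : F, x ≠ 0 → A (A x) = x)
    (hneg : A (-1) = -1) (hone : A 1 = 1)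
    (hKT : ∀ x : F, x ≠ 0 → x ≠ 1 → A (1 - A x) = 1 - A (1 - x)) :
    ∀ x : F, x ≠ 0 → A x = x⁻¹ := by
  have hAinj1 : ∀ x : F, x ≠ 0 → A x = 1 → x = 1 := by
    intro x hx h
    have h' := hinv x hx
    rw [h, hone] at h'
    exact h'.symm
  have hE1 : ∀ x : F, x ≠ 0 → x ≠ 1 → A (1 - x) * (A x - x) = (1 + x) * A x := by
    intro x hx0 hx1
    have hxi0 : x⁻¹ ≠ 0 := inv_ne_zero hx0
    have hxi1 : x⁻¹ ≠ 1 := by
      intro h
      apply hx1
      rw [← inv_inv x, h, inv_one]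
    have ha0 : A x ≠ 0 := hne x hx0
    have hAxi : A x⁻¹ = (A x)⁻¹ := by
      have h := hmul x x⁻¹ hx0 hxi0
      rw [mul_inv_cancel₀ hx0, hone] at h
      exact eq_inv_of_mul_eq_one_right h.symm
    have h1x : 1 - x ≠ 0 := sub_ne_zero.mpr (Ne.symm hx1)
    have h1xi : 1 - A x⁻¹ ≠ 0 := by
      intro h
      exact hxi1 (hAinj1 _ hxi0 (sub_eq_zero.mp h).symm)
    have ha : A x * (A x)⁻¹ = 1 := mul_inv_cancel₀ ha0
    have hxx : x * x⁻¹ = 1 := mul_inv_cancel₀ hx0
    have e1 : 1 - A x = (-1) * (A x * (1 - A x⁻¹)) := by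
      rw [hAxi]
      linear_combination (-1 : F) * ha
    have e2 : A (1 - A x) = -(x * A (1 - A x⁻¹)) := by
      rw [e1, hmul (-1) _ (by norm_num) (mul_ne_zero ha0 h1xi), hmul _ _ ha0 h1xi, hneg,
        hinv x hx0]
      ring
    have e3 := hKT x⁻¹ hxi0 hxi1
    have e4 : 1 - x⁻¹ = (-1) * ((1 - x) * x⁻¹) := by
      linear_combination (-1 : F) * hxx
    have e5 : A (1 - x⁻¹) = -(A (1 - x) * (A x)⁻¹) := by
      rw [e4, hmul (-1) _ (by norm_num) (mul_ne_zero h1x hxi0), hmul _ _ h1x hxi0, hneg, hAxi]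
      ring
    have e6 := hKT x hx0 hx1
    rw [e2, e3, e5] at e6
    linear_combination (A x) * e6 + (x * A (1 - x)) * ha
  intro x hx0
  by_cases hx1 : x = 1
  · rw [hx1, hone, inv_one]
  have h1x : 1 - x ≠ 0 := sub_ne_zero.mpr (Ne.symm hx1)
  have h1x1 : 1 - x ≠ 1 := by
    intro h
    apply hx0
    linear_combination -h
  have E1 := hE1 x hx0 hx1
  have E2 := hE1 (1 - x) h1x h1x1
  rw [sub_sub_cancel] at E2
  have E3 : A x * x = A (1 - x) * (1 - x) := by
    have h3 : (2 : F) * (A x * x - A (1 - x) * (1 - x)) = 0 := by linear_combination E2 - E1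
    have h4 := (mul_eq_zero.mp h3).resolve_left h2
    exact sub_eq_zero.mp h4
  have ha0 : A x ≠ 0 := hne x hx0
  have h5 : A x * (x * A x - 1) = 0 := by
    linear_combination (1 - x) * E1 + (A x - x) * E3
  have h6 := (mul_eq_zero.mp h5).resolve_left ha0
  exact eq_inv_of_mul_eq_one_right (sub_eq_zero.mp h6)

section Sharp3Field

variable {G Ω : Type*} [Group G] [MulAction G Ω]

/-- The Frobenius kernel of a point stabiliser of a sharply triply transitive group of even degree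
is commutative and inverted by the involution of a two-point stabiliser. -/
theorem Sharp3.kernel_struct [Finite G] [Finite Ω] (S : Sharp3 G Ω) {a b : Ω} (hab : a ≠ b)
    (heven : Even (Nat.card Ω)) (h4 : 4 ≤ Nat.card Ω) :
    ∃ (K : Subgroup G) (t : G),
      (∀ k ∈ K, k • a = a) ∧
      (∀ x : Ω, x ≠ a → ∃ k ∈ K, k • b = x) ∧
      (∀ k ∈ K, k ≠ 1 → ∀ ω : Ω, ω ≠ a → k • ω ≠ ω) ∧
      (∀ g : G, g • a = a → ∀ k ∈ K, g * k * g⁻¹ ∈ K) ∧
      (∀ h : G, h • a = a → h • b = b → h ≠ 1 → ∀ k ∈ K, h * k = k * h → k = 1) ∧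
      t • a = a ∧ t • b = b ∧ t * t = 1 ∧ t ≠ 1 ∧
      (∀ k ∈ K, t * k * t⁻¹ = k⁻¹) ∧
      (∀ x ∈ K, ∀ y ∈ K, x * y = y * x) ∧
      (∀ k ∈ K, ∀ k' ∈ K, k • b = k' • b → k = k') ∧
      Nat.card K + 1 = Nat.card Ω := by
  have hcard := S.card_stab hab (by omega : 3 ≤ Nat.card Ω)
  obtain ⟨K, hKa, hKt, hKr, hKn, hKf, -⟩ := S.kernel hab h4
  obtain ⟨H, hH⟩ : ∃ H : Subgroup G,
    H = MulAction.stabilizer G a ⊓ MulAction.stabilizer G b := ⟨_, rfl⟩
  rw [← hH] at hcard
  have memH : ∀ g : G, g ∈ H ↔ g • a = a ∧ g • b = b := by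
    intro g
    rw [hH, Subgroup.mem_inf, MulAction.mem_stabilizer_iff, MulAction.mem_stabilizer_iff]
  have hHeven : 2 ∣ Nat.card ↥H := by
    obtain ⟨m, hm⟩ := heven
    omega
  have : Fact (Nat.Prime 2) := ⟨Nat.prime_two⟩
  obtain ⟨t', ht'⟩ := exists_prime_orderOf_dvd_card' 2 hHeven
  obtain ⟨t, htdef⟩ : ∃ t : G, t = (t' : G) := ⟨_, rfl⟩
  have htH : t ∈ H := by rw [htdef]; exact t'.2
  have hta : t • a = a := ((memH _).mp htH).1
  have htb : t • b = b := ((memH _).mp htH).2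
  have ht2 : t * t = 1 := by
    rw [htdef]
    have h1 := pow_orderOf_eq_one t'
    rw [ht', pow_two] at h1
    exact congrArg Subtype.val h1
  have ht1 : t ≠ 1 := by
    rw [htdef]
    intro h
    have h1 : t' = 1 := Subtype.ext h
    rw [h1, orderOf_one] at ht'
    omega
  have htK : ∀ k ∈ K, t * k * t⁻¹ = k⁻¹ := by
    apply inverts_of_fpf_invol K ht2 (fun n hn => hKn t hta n hn)
    intro k hk hkc
    apply hKf t hta htb ht1 k hk
    calc t * k = (t * k * t⁻¹) * t := by group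
      _ = k * t := by rw [hkc]
  have hKc : ∀ x ∈ K, ∀ y ∈ K, x * y = y * x := by
    intro x hx y hy
    have h1 := htK (x * y) (K.mul_mem hx hy)
    have h2 : t * (x * y) * t⁻¹ = (t * x * t⁻¹) * (t * y * t⁻¹) := by group
    rw [h2, htK x hx, htK y hy] at h1
    have h3 : (x⁻¹ * y⁻¹)⁻¹ = ((x * y)⁻¹)⁻¹ := by rw [h1]
    rw [inv_inv, mul_inv_rev, inv_inv, inv_inv] at h3
    exact h3.symm
  have hKuniq : ∀ k ∈ K, ∀ k' ∈ K, k • b = k' • b → k = k' := by
    intro k hk k' hk' h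
    by_contra hne
    have h1 : k'⁻¹ * k ≠ 1 := fun e => hne (inv_mul_eq_one.mp e).symm
    apply hKr _ (K.mul_mem (K.inv_mem hk') hk) h1 b (Ne.symm hab)
    rw [mul_smul, h, inv_smul_smul]
  refine ⟨K, t, hKa, hKt, hKr, hKn, hKf, hta, htb, ht2, ht1, htK, hKc, hKuniq, ?_⟩
  obtain ⟨s, hs⟩ : ∃ s : Set Ω, s = {x | x ≠ a} := ⟨_, rfl⟩
  have hs' : s = ({a} : Set Ω)ᶜ := by
    rw [hs]
    ext x
    simp
  have hsmem : ∀ x : Ω, x ∈ s ↔ x ≠ a := by
    intro x
    rw [hs]
    rfl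
  have hmem : ∀ k : ↥K, (k : G) • b ∈ s := by
    intro k
    rw [hsmem]
    intro h
    apply hab
    have : (k : G) • a = (k : G) • b := by rw [h, hKa k k.2]
    exact MulAction.injective _ this
  have h1 : Nat.card ↥K = Nat.card ↥s := by
    apply Nat.card_congr
    apply Equiv.ofBijective (fun k : ↥K => (⟨(k : G) • b, hmem k⟩ : ↥s))
    constructor
    · intro k k' hk
      apply Subtype.ext
      exact hKuniq k k.2 k' k'.2 (congrArg Subtype.val hk)
    · rintro ⟨x, hx⟩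
      obtain ⟨k, hk, hkb⟩ := hKt x ((hsmem x).mp hx)
      exact ⟨⟨k, hk⟩, Subtype.ext hkb⟩
  have h2 : Nat.card ↥s = s.ncard := rfl
  have h3 := Set.ncard_add_ncard_compl ({a} : Set Ω)
  rw [Set.ncard_singleton, ← hs'] at h3
  omega

/-- An involution interchanging `a` and `b` and fixing a third point inverts every element of a
subgroup of index two of the two-point stabiliser which it normalises. -/
theorem Sharp3.swap_inverts [Finite G] (S : Sharp3 G Ω) {a b c : Ω} (hab : a ≠ b) (hca : c ≠ a)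
    (hcb : c ≠ b) {t : G} (hta : t • a = a) (htb : t • b = b) (ht2 : t * t = 1) (ht1 : t ≠ 1)
    {s : G} (hsa : s • a = b) (hsb : s • b = a) (hsc : s • c = c)
    (N : Subgroup G) (hNle : N ≤ MulAction.stabilizer G a ⊓ MulAction.stabilizer G b)
    (hNidx : N.relIndex (MulAction.stabilizer G a ⊓ MulAction.stabilizer G b) = 2)
    (hNs : ∀ n ∈ N, s * n * s⁻¹ ∈ N) :
    ∀ m ∈ N, s * m * s⁻¹ = m⁻¹ := by
  classical
  obtain ⟨H, hH⟩ : ∃ H : Subgroup G,
    H = MulAction.stabilizer G a ⊓ MulAction.stabilizer G b := ⟨_, rfl⟩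
  rw [← hH] at hNle hNidx
  have memH : ∀ g : G, g ∈ H ↔ g • a = a ∧ g • b = b := by
    intro g
    rw [hH, Subgroup.mem_inf, MulAction.mem_stabilizer_iff, MulAction.mem_stabilizer_iff]
  have hs2 : s * s = 1 := by
    apply S.sharp _ a b c hab (Ne.symm hcb) (Ne.symm hca)
    · rw [mul_smul, hsa, hsb]
    · rw [mul_smul, hsb, hsa]
    · rw [mul_smul, hsc, hsc]
  have hsinv : s⁻¹ = s := inv_eq_of_mul_eq_one_right hs2
  have hst : s * t * s⁻¹ = t := by
    symm
    apply S.invol_unique hab hca hcb hta htb ht2 ht1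
    · rw [hsinv, mul_smul, mul_smul, hsa, htb, hsb]
    · rw [hsinv, mul_smul, mul_smul, hsb, hta, hsa]
    · calc s * t * s⁻¹ * (s * t * s⁻¹) = s * (t * t) * s⁻¹ := by group
        _ = 1 := by rw [ht2]; group
    · intro h
      apply ht1
      calc t = s⁻¹ * (s * t * s⁻¹) * s := by group
        _ = 1 := by rw [h]; group
  have hcomm : s * t = t * s := by
    calc s * t = (s * t * s⁻¹) * s := by group
      _ = t * s := by rw [hst]
  have htc : t • c ≠ c := fun h => ht1 (S.sharp t a b c hab (Ne.symm hcb) (Ne.symm hca) hta htb h)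
  have hstc : s • t • c = t • c := by rw [← mul_smul, hcomm, mul_smul, hsc]
  have hs1 : s ≠ 1 := by
    intro h
    rw [h, one_smul] at hsa
    exact hab hsa
  have hcent : ∀ u ∈ H, u * s = s * u → u = 1 ∨ u = t := by
    intro u hu hus
    obtain ⟨hua, hub⟩ := (memH u).mp hu
    by_cases huc : u • c = c
    · left
      exact S.sharp u a b c hab (Ne.symm hcb) (Ne.symm hca) hua hub huc
    · right
      have hsuc : s • u • c = u • c := by rw [← mul_smul, ← hus, mul_smul, hsc]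
      have hut : u • c = t • c := by
        by_contra hne
        exact hs1 (S.sharp s c (t • c) (u • c) (Ne.symm htc) (Ne.symm hne) (Ne.symm huc) hsc hstc
          hsuc)
      have h1 : t⁻¹ * u = 1 := by
        apply S.sharp _ a b c hab (Ne.symm hcb) (Ne.symm hca)
        · rw [mul_smul, hua, inv_smul_eq_iff, hta]
        · rw [mul_smul, hub, inv_smul_eq_iff, htb]
        · rw [mul_smul, hut, inv_smul_smul]
      exact (inv_mul_eq_one.mp h1).symm
  have hN2 : ∀ h ∈ H, ∀ h' ∈ H, (h * h' ∈ N ↔ (h ∈ N ↔ h' ∈ N)) := by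
    intro h hh h' hh'
    have h1 := Subgroup.mul_mem_iff_of_index_two (H := N.subgroupOf H) hNidx
      (a := ⟨h, hh⟩) (b := ⟨h', hh'⟩)
    rw [Subgroup.mem_subgroupOf, Subgroup.mem_subgroupOf, Subgroup.mem_subgroupOf] at h1
    exact h1
  have hconjH : ∀ h ∈ H, s * h * s⁻¹ ∈ H := by
    intro h hh
    obtain ⟨ha, hb⟩ := (memH h).mp hh
    rw [memH, hsinv]
    constructor
    · rw [mul_smul, mul_smul, hsa, hb, hsb]
    · rw [mul_smul, mul_smul, hsb, ha, hsa]
  have hαN : ∀ h : G, (s * h * s⁻¹ ∈ N ↔ h ∈ N) := by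
    intro h
    constructor
    · intro hh
      have h1 := hNs _ hh
      have e : s * (s * h * s⁻¹) * s⁻¹ = (s * s) * h * (s * s)⁻¹ := by group
      rw [e, hs2, one_mul, inv_one, mul_one] at h1
      exact h1
    · exact hNs h
  have hφN : ∀ h ∈ H, h * s * h⁻¹ * s⁻¹ ∈ N := by
    intro h hh
    have e : h * s * h⁻¹ * s⁻¹ = h * (s * h * s⁻¹)⁻¹ := by group
    rw [e, hN2 h hh _ (H.inv_mem (hconjH h hh)), inv_mem_iff, hαN]
  have : Fintype ↥H := Fintype.ofFinite _
  obtain ⟨φ, hφ⟩ : ∃ φ : ↥H → G, ∀ h : ↥H, φ h = (h : G) * s * (h : G)⁻¹ * s⁻¹ :=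
    ⟨fun h => (h : G) * s * (h : G)⁻¹ * s⁻¹, fun h => rfl⟩
  have hsub : Set.range φ ⊆ (N : Set G) := by
    rintro _ ⟨h, rfl⟩
    rw [hφ]
    exact hφN h h.2
  have hcardH : Nat.card ↥H = 2 * Nat.card ↥N := by
    have h1 := Subgroup.relIndex_mul_relIndex (H := (⊥ : Subgroup G)) (K := N) (L := H) bot_le
      hNle
    rw [Subgroup.relIndex_bot_left, Subgroup.relIndex_bot_left, hNidx] at h1
    omega
  have hfib : ∀ g ∈ Finset.univ.image φ, (Finset.univ.filter (fun x => φ x = g)).card ≤ 2 := by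
    intro g hg
    obtain ⟨h, -, rfl⟩ := Finset.mem_image.mp hg
    have h1 : Finset.univ.filter (fun x => φ x = φ h) ⊆ {h, h * ⟨t, (memH t).mpr ⟨hta, htb⟩⟩} := by
      intro x hx
      rw [Finset.mem_filter] at hx
      have h2 := hx.2
      rw [hφ, hφ] at h2
      have h3 : ((h : G)⁻¹ * (x : G)) * s = s * ((h : G)⁻¹ * (x : G)) := by
        have h4 : (x : G) * s * (x : G)⁻¹ = (h : G) * s * (h : G)⁻¹ := mul_right_cancel h2
        calc ((h : G)⁻¹ * (x : G)) * s = (h : G)⁻¹ * ((x : G) * s * (x : G)⁻¹) * (x : G) := by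
              group
          _ = (h : G)⁻¹ * ((h : G) * s * (h : G)⁻¹) * (x : G) := by rw [h4]
          _ = s * ((h : G)⁻¹ * (x : G)) := by group
      rw [Finset.mem_insert, Finset.mem_singleton]
      rcases hcent _ (H.mul_mem (H.inv_mem h.2) x.2) h3 with h5 | h5
      · left
        apply Subtype.ext
        exact (inv_mul_eq_one.mp h5).symm
      · right
        apply Subtype.ext
        rw [Subgroup.coe_mul]
        calc (x : G) = (h : G) * ((h : G)⁻¹ * (x : G)) := by group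
          _ = (h : G) * t := by rw [h5]
    exact (Finset.card_le_card h1).trans Finset.card_le_two
  have hle := Finset.card_le_mul_card_image (Finset.univ : Finset ↥H) 2 hfib
  have hrange : Set.range φ = ↑(Finset.univ.image φ) := by
    rw [Finset.coe_image, Finset.coe_univ, Set.image_univ]
  have hncard : (Set.range φ).ncard = (Finset.univ.image φ).card := by
    rw [hrange, Set.ncard_coe_finset]
  have hNcard : (N : Set G).ncard = Nat.card ↥N := rfl
  have heq : Set.range φ = (N : Set G) := by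
    apply Set.eq_of_subset_of_ncard_le hsub _ (Set.toFinite _)
    rw [hncard, hNcard]
    rw [Finset.card_univ, ← Nat.card_eq_fintype_card, hcardH] at hle
    omega
  intro m hm
  have hm' : m ∈ Set.range φ := by rw [heq]; exact hm
  obtain ⟨h, rfl⟩ := hm'
  rw [hφ]
  calc s * ((h : G) * s * (h : G)⁻¹ * s⁻¹) * s⁻¹
      = s * (h : G) * s * (h : G)⁻¹ * (s * s)⁻¹ := by group
    _ = s * (h : G) * s * (h : G)⁻¹ := by rw [hs2, inv_one, mul_one]
    _ = s * (h : G) * s⁻¹ * (h : G)⁻¹ := by rw [hsinv]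
    _ = ((h : G) * s * (h : G)⁻¹ * s⁻¹)⁻¹ := by group

open OnePoint in
/-- Coordinatisation of a sharply triply transitive group of degree `p ^ f + 1` with `p` and `f`
odd by the projective line over the field with `p ^ f` elements. -/
theorem Sharp3.coordinatise [Finite G] [Finite Ω] (S : Sharp3 G Ω) {a b : Ω} (hab : a ≠ b)
    {p f : ℕ} (hp : p.Prime) (hp2 : p ≠ 2) (hf : Odd f) (hcardΩ : Nat.card Ω = p ^ f + 1)
    (hidx : HasIdx2 ↥(MulAction.stabilizer G a ⊓ MulAction.stabilizer G b)) :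
    ∃ (F : Type) (_ : Field F) (_ : Fintype F) (pt : OnePoint F → Ω) (s : G),
      Fintype.card F = p ^ f ∧ Function.Bijective pt ∧
      (∀ g : G, g • pt ∞ = pt ∞ → ∃ a' b' : F, a' ≠ 0 ∧
        ∀ x : F, g • pt (x : OnePoint F) = pt ((x * a' + b' : F) : OnePoint F)) ∧
      (∀ a' b' : F, a' ≠ 0 → ∃ g : G, g • pt ∞ = pt ∞ ∧
        ∀ x : F, g • pt (x : OnePoint F) = pt ((x * a' + b' : F) : OnePoint F)) ∧
      s • pt ∞ = pt ((0 : F) : OnePoint F) ∧ s • pt ((0 : F) : OnePoint F) = pt ∞ ∧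
      (∀ x : F, x ≠ 0 → s • pt (x : OnePoint F) = pt ((x⁻¹ : F) : OnePoint F)) := by
  classical
  have hpodd : Odd p := hp.odd_of_ne_two hp2
  have hnodd : Odd (p ^ f) := hpodd.pow
  have hevenΩ : Even (Nat.card Ω) := by rw [hcardΩ]; exact hnodd.add_one
  have hn3 : 3 ≤ p ^ f := by
    obtain ⟨k, hk⟩ := hf
    have h1 : p ^ 1 ≤ p ^ f := Nat.pow_le_pow_right hp.pos (by omega)
    rw [pow_one] at h1
    have h2 := hp.two_le
    omega
  have h4 : 4 ≤ Nat.card Ω := by omega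
  obtain ⟨K, t, hKa, hKt, hKr, hKn, hKf, hta, htb, ht2, ht1, htK, hKc, hKuniq, hKcard⟩ :=
    S.kernel_struct hab hevenΩ h4
  have hcardK : Nat.card K = p ^ f := by omega
  have hcardH := S.card_stab hab (by omega : 3 ≤ Nat.card Ω)
  obtain ⟨c, hca, hcb⟩ := exists_third (by omega : 3 ≤ Nat.card Ω) a b
  obtain ⟨s, hsa, hsb, hsc⟩ := S.trans a b c b a c hab (Ne.symm hca) (Ne.symm hcb) (Ne.symm hab)
    (Ne.symm hcb) (Ne.symm hca)
  obtain ⟨N, hNle, hNn, hNidx, hNs⟩ := S.exists_normal hab hca hcb hidx hsa hsb hsc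
  have hNinv := S.swap_inverts hab hca hcb hta htb ht2 ht1 hsa hsb hsc N hNle hNidx hNs
  obtain ⟨H, hH⟩ : ∃ H : Subgroup G,
    H = MulAction.stabilizer G a ⊓ MulAction.stabilizer G b := ⟨_, rfl⟩
  rw [← hH] at hNle hNidx hNn hcardH
  have memH : ∀ g : G, g ∈ H ↔ g • a = a ∧ g • b = b := by
    intro g
    rw [hH, Subgroup.mem_inf, MulAction.mem_stabilizer_iff, MulAction.mem_stabilizer_iff]
  have hcardN : 2 * Nat.card ↥N = Nat.card ↥H := by
    have h1 := Subgroup.relIndex_mul_relIndex (H := (⊥ : Subgroup G)) (K := N) (L := H) bot_le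
      hNle
    rw [Subgroup.relIndex_bot_left, Subgroup.relIndex_bot_left, hNidx] at h1
    omega
  have hNc : ∀ x ∈ N, ∀ y ∈ N, x * y = y * x := by
    intro x hx y hy
    have h1 := hNinv (x * y) (N.mul_mem hx hy)
    have h2 : s * (x * y) * s⁻¹ = (s * x * s⁻¹) * (s * y * s⁻¹) := by group
    rw [h2, hNinv x hx, hNinv y hy] at h1
    have h3 : (x⁻¹ * y⁻¹)⁻¹ = ((x * y)⁻¹)⁻¹ := by rw [h1]
    rw [inv_inv, mul_inv_rev, inv_inv, inv_inv] at h3
    exact h3.symm
  have hnormH : ∀ h ∈ H, ∀ k ∈ K, h * k * h⁻¹ ∈ K :=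
    fun h hh k hk => hKn h ((memH h).mp hh).1 k hk
  have hfpfH : ∀ h ∈ H, h ≠ 1 → ∀ k ∈ K, h * k = k * h → k = 1 :=
    fun h hh h1 k hk e => hKf h ((memH h).mp hh).1 ((memH h).mp hh).2 h1 k hk e
  have hirr := irr_of_half K N (fun m hm => hfpfH m (hNle hm)) (by rw [hcardK]; exact hnodd)
    (by omega)
  have hKnt : K ≠ ⊥ := by
    intro h
    rw [h, Subgroup.card_bot] at hcardK
    omega
  have : Fact p.Prime := ⟨hp⟩
  obtain ⟨F, instF, instFin, θ, lam, hFcard, hθK, hθsurj, hθinj, hθadd, hlam, hlammul, hlam1⟩ :=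
    field_of_subgroups K N hKc hNc (fun h hh k hk => hnormH h (hNle hh) k hk) hirr hKnt hcardK
  have hFcard' : Nat.card F = p ^ f := by rw [Nat.card_eq_fintype_card]; exact hFcard
  have hθ0 : θ 0 = 1 := by
    have h := hθadd 0 0
    rw [add_zero] at h
    have h' : θ 0 * θ 0 = θ 0 * 1 := by rw [mul_one]; exact h.symm
    exact mul_left_cancel h'
  have hθneg : ∀ z, θ (-z) = (θ z)⁻¹ := by
    intro z
    have h := hθadd z (-z)
    rw [add_neg_cancel, hθ0] at h
    exact eq_inv_of_mul_eq_one_right h.symm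
  have hθne : ∀ z, z ≠ 0 → θ z ≠ 1 := fun z hz h => hz (hθinj (h.trans hθ0.symm))
  have hlam0 : ∀ m ∈ N, lam m ≠ 0 := by
    intro m hm h0
    have h1 := hlam m hm 1
    rw [h0, zero_mul, hθ0] at h1
    have h2 : θ 1 = 1 := by
      calc θ 1 = m⁻¹ * (m * θ 1 * m⁻¹) * m := by group
        _ = 1 := by rw [h1]; group
    exact hθne 1 one_ne_zero h2
  have hlaminj : Set.InjOn lam (N : Set G) := by
    intro m hm m' hm' h
    by_contra hne
    have h1 : m'⁻¹ * m ≠ 1 := fun e => hne (inv_mul_eq_one.mp e).symm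
    have e1 := hlam m hm 1
    have e2 := hlam m' hm' 1
    rw [h] at e1
    have h2 : (m'⁻¹ * m) * θ 1 = θ 1 * (m'⁻¹ * m) := by
      calc (m'⁻¹ * m) * θ 1 = m'⁻¹ * (m * θ 1 * m⁻¹) * m := by group
        _ = m'⁻¹ * (m' * θ 1 * m'⁻¹) * m := by rw [e1, e2]
        _ = θ 1 * (m'⁻¹ * m) := by group
    exact hθne 1 one_ne_zero
      (hfpfH _ (hNle (N.mul_mem (N.inv_mem hm') hm)) h1 (θ 1) (hθK 1) h2)
  have hNnorm : ∀ h ∈ H, ∀ m ∈ N, h * m * h⁻¹ ∈ N := by
    intro h hh m hm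
    have h2 : (⟨m, hNle hm⟩ : ↥H) ∈ N.subgroupOf H := Subgroup.mem_subgroupOf.mpr hm
    have h3 := hNn.conj_mem _ h2 ⟨h, hh⟩
    rw [Subgroup.mem_subgroupOf] at h3
    exact h3
  have hsq : ∀ h ∈ H, h * h ∈ N := by
    intro h hh
    have h1 := Subgroup.mul_mem_iff_of_index_two (H := N.subgroupOf H) hNidx
      (a := ⟨h, hh⟩) (b := ⟨h, hh⟩)
    rw [Subgroup.mem_subgroupOf, Subgroup.mem_subgroupOf] at h1
    exact h1.mpr Iff.rfl
  have hmult : ∀ h ∈ H, ∃ c : F, c ≠ 0 ∧ ∀ z, h * θ z * h⁻¹ = θ (c * z) := by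
    intro h hh
    have hex : ∀ z, ∃ z', θ z' = h * θ z * h⁻¹ := fun z => hθsurj _ (hnormH h hh _ (hθK z))
    choose g hg using hex
    have hgadd : ∀ x y, g (x + y) = g x + g y := by
      intro x y
      apply hθinj
      rw [hg, hθadd, hθadd, hg, hg]
      group
    have hg1 : g 1 ≠ 0 := by
      intro h0
      have h1 := hg 1
      rw [h0, hθ0] at h1
      have h2 : θ 1 = 1 := by
        calc θ 1 = h⁻¹ * (h * θ 1 * h⁻¹) * h := by group
          _ = 1 := by rw [← h1]; group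
      exact hθne 1 one_ne_zero h2
    have hgΛ : ∀ l ∈ lam '' (N : Set G), ∃ l' : F, ∀ z, g (l * z) = l' * g z := by
      rintro _ ⟨m, hm, rfl⟩
      have hm' : h * m * h⁻¹ ∈ N := hNnorm h hh m hm
      refine ⟨lam (h * m * h⁻¹), fun z => ?_⟩
      apply hθinj
      rw [hg, ← hlam m hm, ← hlam _ hm', hg]
      group
    have hh2 : h * h ∈ N := hsq h hh
    have hgg : ∀ z, g (g z) = lam (h * h) * z := by
      intro z
      apply hθinj
      rw [hg, hg, ← hlam _ hh2]
      group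
    have hΛ0 : (0 : F) ∉ lam '' (N : Set G) := by
      rintro ⟨m, hm, h0⟩
      exact hlam0 m hm h0
    have hΛcard : Nat.card F ≤ 2 * (lam '' (N : Set G)).ncard + 1 := by
      rw [Set.InjOn.ncard_image hlaminj]
      have hNc' : (N : Set G).ncard = Nat.card N := rfl
      rw [hNc', hFcard']
      omega
    have key := mult_of_semilinear hp hp2 hf hFcard' (lam '' (N : Set G)) hΛ0 hΛcard g hgadd hg1
      hgΛ (hlam0 _ hh2) hgg
    exact ⟨g 1, hg1, fun z => by rw [← hg, key]⟩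
  choose! lamH hlamH using hmult
  obtain ⟨pt, hptinf, hptc⟩ : ∃ pt : OnePoint F → Ω,
      pt ∞ = a ∧ ∀ z : F, pt (z : OnePoint F) = θ z • b :=
    ⟨fun x => OnePoint.elim x a (fun z => θ z • b), rfl, fun z => rfl⟩
  have hptne : ∀ z : F, pt (z : OnePoint F) ≠ a := by
    intro z h
    rw [hptc] at h
    apply hab
    have h1 : θ z • a = θ z • b := by rw [h, hKa _ (hθK z)]
    exact MulAction.injective _ h1
  have hptneb : ∀ z : F, z ≠ 0 → pt (z : OnePoint F) ≠ b := by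
    intro z hz
    rw [hptc]
    exact hKr _ (hθK z) (hθne z hz) b (Ne.symm hab)
  have hpt0 : pt ((0 : F) : OnePoint F) = b := by rw [hptc, hθ0, one_smul]
  have hptinj : ∀ x y : F, pt (x : OnePoint F) = pt (y : OnePoint F) → x = y := by
    intro x y h
    rw [hptc, hptc] at h
    exact hθinj (hKuniq _ (hθK x) _ (hθK y) h)
  have hptbij : Function.Bijective pt := by
    constructor
    · intro x y hxy
      cases x with
      | infty =>
        cases y with
        | infty => rfl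
        | coe y =>
          rw [hptinf] at hxy
          exact absurd hxy.symm (hptne y)
      | coe x =>
        cases y with
        | infty =>
          rw [hptinf] at hxy
          exact absurd hxy (hptne x)
        | coe y => rw [hptinj x y hxy]
    · intro ω
      by_cases hω : ω = a
      · exact ⟨∞, by rw [hptinf, hω]⟩
      · obtain ⟨k, hk, hkb⟩ := hKt ω hω
        obtain ⟨z, rfl⟩ := hθsurj k hk
        exact ⟨(z : OnePoint F), by rw [hptc, hkb]⟩
  have hinvfix : ∀ (g : G) (x : Ω), g • x = x → g⁻¹ • x = x :=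
    fun g x h => by rw [inv_smul_eq_iff, h]
  have hGa : ∀ g : G, g • a = a → ∃ k ∈ K, ∃ h ∈ H, g = k * h := by
    intro g hga
    have hgb : g • b ≠ a := by
      intro h
      apply hab
      have : g • a = g • b := by rw [h, hga]
      exact MulAction.injective _ this
    obtain ⟨k, hk, hkb⟩ := hKt (g • b) hgb
    refine ⟨k, hk, k⁻¹ * g, ?_, by group⟩
    rw [memH]
    constructor
    · rw [mul_smul, hga, hinvfix k a (hKa k hk)]
    · rw [mul_smul, ← hkb, inv_smul_smul]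
  have hHpt : ∀ h ∈ H, ∀ z : F,
      h • pt (z : OnePoint F) = pt ((lamH h * z : F) : OnePoint F) := by
    intro h hh z
    rw [hptc, hptc, ← (hlamH h hh).2 z, mul_smul, mul_smul,
      hinvfix h b ((memH h).mp hh).2]
  have hθpt : ∀ u z : F, θ u • pt (z : OnePoint F) = pt ((u + z : F) : OnePoint F) := by
    intro u z
    rw [hptc, hptc, hθadd, mul_smul]
  have ha : ∀ g : G, g • pt ∞ = pt ∞ → ∃ a' b' : F, a' ≠ 0 ∧
      ∀ x : F, g • pt (x : OnePoint F) = pt ((x * a' + b' : F) : OnePoint F) := by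
    intro g hg
    rw [hptinf] at hg
    obtain ⟨k, hk, h, hh, rfl⟩ := hGa g hg
    obtain ⟨u, rfl⟩ := hθsurj k hk
    refine ⟨lamH h, u, (hlamH h hh).1, fun x => ?_⟩
    rw [mul_smul, hHpt h hh, hθpt]
    congr 2
    ring
  have hlamHsurj : ∀ c' : F, c' ≠ 0 → ∃ h ∈ H, lamH h = c' := by
    intro c' hc'
    obtain ⟨h, hha, hhb, hh1⟩ := S.trans a b (pt ((1 : F) : OnePoint F)) a b
      (pt ((c' : F) : OnePoint F)) hab (Ne.symm (hptne 1)) (Ne.symm (hptneb 1 one_ne_zero)) hab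
      (Ne.symm (hptne c')) (Ne.symm (hptneb c' hc'))
    have hh : h ∈ H := (memH h).mpr ⟨hha, hhb⟩
    refine ⟨h, hh, ?_⟩
    have h1 := hHpt h hh 1
    rw [hh1, mul_one] at h1
    exact (hptinj _ _ h1).symm
  have hb : ∀ a' b' : F, a' ≠ 0 → ∃ g : G, g • pt ∞ = pt ∞ ∧
      ∀ x : F, g • pt (x : OnePoint F) = pt ((x * a' + b' : F) : OnePoint F) := by
    intro a' b' ha'
    obtain ⟨h, hh, rfl⟩ := hlamHsurj a' ha'
    refine ⟨θ b' * h, ?_, fun x => ?_⟩
    · rw [hptinf, mul_smul, ((memH h).mp hh).1, hKa _ (hθK b')]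
    · rw [mul_smul, hHpt h hh, hθpt]
      congr 2
      ring
  -- the involution fixing the point with coordinate `1`
  obtain ⟨e, he⟩ : ∃ e : Ω, e = pt ((1 : F) : OnePoint F) := ⟨_, rfl⟩
  have hea : e ≠ a := by rw [he]; exact hptne 1
  have heb : e ≠ b := by rw [he]; exact hptneb 1 one_ne_zero
  obtain ⟨s₁, hs₁a, hs₁b, hs₁e⟩ := S.trans a b e b a e hab (Ne.symm hea) (Ne.symm heb)
    (Ne.symm hab) (Ne.symm heb) (Ne.symm hea)
  have hs₁2 : s₁ * s₁ = 1 := by
    apply S.sharp _ a b e hab (Ne.symm heb) (Ne.symm hea)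
    · rw [mul_smul, hs₁a, hs₁b]
    · rw [mul_smul, hs₁b, hs₁a]
    · rw [mul_smul, hs₁e, hs₁e]
  have hs₁inv : s₁⁻¹ = s₁ := inv_eq_of_mul_eq_one_right hs₁2
  have hs₁t : s₁ * t * s₁⁻¹ = t := by
    symm
    apply S.invol_unique hab hea heb hta htb ht2 ht1
    · rw [hs₁inv, mul_smul, mul_smul, hs₁a, htb, hs₁b]
    · rw [hs₁inv, mul_smul, mul_smul, hs₁b, hta, hs₁a]
    · calc s₁ * t * s₁⁻¹ * (s₁ * t * s₁⁻¹) = s₁ * (t * t) * s₁⁻¹ := by group
        _ = 1 := by rw [ht2]; group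
    · intro h
      apply ht1
      calc t = s₁⁻¹ * (s₁ * t * s₁⁻¹) * s₁ := by group
        _ = 1 := by rw [h]; group
  have hs₁H : ∀ h ∈ H, s₁ * h * s₁⁻¹ ∈ H := by
    intro h hh
    obtain ⟨h1, h2⟩ := (memH h).mp hh
    rw [memH, hs₁inv]
    constructor
    · rw [mul_smul, mul_smul, hs₁a, h2, hs₁b]
    · rw [mul_smul, mul_smul, hs₁b, h1, hs₁a]
  have hspt : ∀ x : F, x ≠ 0 →
      ∃ y : F, y ≠ 0 ∧ s₁ • pt (x : OnePoint F) = pt (y : OnePoint F) := by
    intro x hx
    obtain ⟨y', hy'⟩ := hptbij.2 (s₁ • pt (x : OnePoint F))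
    cases y' with
    | infty =>
      exfalso
      rw [hptinf] at hy'
      have h1 : pt (x : OnePoint F) = s₁⁻¹ • a := by rw [hy', inv_smul_smul]
      rw [hs₁inv, hs₁a] at h1
      exact hptneb x hx h1
    | coe y =>
      refine ⟨y, ?_, hy'.symm⟩
      intro hy0
      rw [hy0, hpt0] at hy'
      have h1 : pt (x : OnePoint F) = s₁⁻¹ • b := by rw [hy', inv_smul_smul]
      rw [hs₁inv, hs₁b] at h1
      exact hptne x h1
  choose! A hA using hspt
  have hA1 : A 1 = 1 := by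
    have h1 := (hA 1 one_ne_zero).2
    rw [← he, hs₁e, he] at h1
    exact (hptinj _ _ h1).symm
  have hAH : ∀ h ∈ H, ∀ x : F, x ≠ 0 → A (lamH h * x) = lamH (s₁ * h * s₁⁻¹) * A x := by
    intro h hh x hx
    have hne : lamH h * x ≠ 0 := mul_ne_zero (hlamH h hh).1 hx
    have h1 := (hA _ hne).2
    rw [← hHpt h hh] at h1
    have h2 : s₁ • h • pt (x : OnePoint F) = (s₁ * h * s₁⁻¹) • s₁ • pt (x : OnePoint F) := by
      rw [mul_smul, mul_smul, inv_smul_smul]
    rw [h2, (hA x hx).2, hHpt _ (hs₁H h hh)] at h1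
    exact (hptinj _ _ h1).symm
  have hAmul : ∀ x y : F, x ≠ 0 → y ≠ 0 → A (x * y) = A x * A y := by
    intro x y hx hy
    obtain ⟨h, hh, rfl⟩ := hlamHsurj x hx
    have h1 := hAH h hh 1 one_ne_zero
    rw [mul_one, hA1, mul_one] at h1
    rw [hAH h hh y hy, h1]
  have hAinv : ∀ x : F, x ≠ 0 → A (A x) = x := by
    intro x hx
    have h1 := (hA _ (hA x hx).1).2
    rw [← (hA x hx).2, ← mul_smul, hs₁2, one_smul] at h1
    exact (hptinj _ _ h1).symm
  have hlamt : lamH t = -1 := by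
    have htH : t ∈ H := (memH t).mpr ⟨hta, htb⟩
    have h1 := (hlamH t htH).2 1
    rw [htK _ (hθK 1), ← hθneg, mul_one] at h1
    exact (hθinj h1).symm
  have hAneg : A (-1) = -1 := by
    have htH : t ∈ H := (memH t).mpr ⟨hta, htb⟩
    have h1 := hAH t htH 1 one_ne_zero
    rw [hs₁t, hlamt, hA1, mul_one] at h1
    exact h1
  obtain ⟨ρ, hρ⟩ : ∃ ρ : G, ρ = θ 1 * (t * s₁) := ⟨_, rfl⟩
  have hρa : ρ • a = e := by
    rw [hρ, mul_smul, mul_smul, hs₁a, htb, he, hptc]
  have hρb : ρ • b = a := by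
    rw [hρ, mul_smul, mul_smul, hs₁b, hta, hKa _ (hθK 1)]
  have hρx : ∀ x : F, x ≠ 0 → ρ • pt (x : OnePoint F) = pt ((1 - A x : F) : OnePoint F) := by
    intro x hx
    have htH : t ∈ H := (memH t).mpr ⟨hta, htb⟩
    rw [hρ, mul_smul, mul_smul, (hA x hx).2, hHpt t htH, hθpt, hlamt]
    congr 2
    ring
  have hρe : ρ • e = b := by
    rw [he, hρx 1 one_ne_zero, hA1, sub_self, hpt0]
  have hρ3 : ρ * ρ * ρ = 1 := by
    apply S.sharp _ a b e hab (Ne.symm heb) (Ne.symm hea)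
    · rw [mul_smul, mul_smul, hρa, hρe, hρb]
    · rw [mul_smul, mul_smul, hρb, hρa, hρe]
    · rw [mul_smul, mul_smul, hρe, hρb, hρa]
  have hA1' : ∀ x : F, x ≠ 0 → A x = 1 → x = 1 := by
    intro x hx h
    have h' := hAinv x hx
    rw [h, hA1] at h'
    exact h'.symm
  have hKT : ∀ x : F, x ≠ 0 → x ≠ 1 → A (1 - A x) = 1 - A (1 - x) := by
    intro x hx0 hx1
    have hy0 : 1 - A x ≠ 0 := by
      intro h
      exact hx1 (hA1' x hx0 (sub_eq_zero.mp h).symm)
    have hy1 : 1 - A x ≠ 1 := by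
      intro h
      apply (hA x hx0).1
      linear_combination -h
    have hy'0 : 1 - A (1 - A x) ≠ 0 := by
      intro h
      exact hy1 (hA1' _ hy0 (sub_eq_zero.mp h).symm)
    have h1 : (ρ * ρ * ρ) • pt (x : OnePoint F)
        = pt ((1 - A (1 - A (1 - A x)) : F) : OnePoint F) := by
      rw [mul_smul, mul_smul, hρx x hx0, hρx _ hy0, hρx _ hy'0]
    rw [hρ3, one_smul] at h1
    have h2 := hptinj _ _ h1
    have h3 : A (1 - A (1 - A x)) = 1 - x := by linear_combination h2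
    have h4 := hAinv _ hy'0
    rw [h3] at h4
    linear_combination h4
  have h2F : (2 : F) ≠ 0 := by
    apply Ring.two_ne_zero
    intro hchar
    have h1 := FiniteField.even_card_iff_char_two.mp hchar
    rw [hFcard] at h1
    obtain ⟨k, hk⟩ := hnodd
    omega
  have hAx := kt_inverse h2F A hAmul (fun x hx => (hA x hx).1) hAinv hAneg hA1 hKT
  refine ⟨F, instF, instFin, pt, s₁, hFcard, hptbij, ha, hb, ?_, ?_, ?_⟩
  · rw [hptinf, hs₁a, hpt0]
  · rw [hptinf, hpt0, hs₁b]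
  · intro x hx
    rw [(hA x hx).2, hAx x hx]

end Sharp3Field

end Cfsg.Agent.Lib.Helper83
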