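import Cfsg.Agent.Lib.Helper83.RankOne2

set_option autoImplicit false

namespace Cfsg.Agent.Lib.Helper83

open Cfsg

variable {G : Type*} [Group G]

/-- Two conjugates of `A` sharing a non-identity element coincide. -/
theorem unipotent_eq_of_common_mem {A B E F : Subgroup G} (h : IsRankOnePair A B)
    (hE : E ∈ unipotentSubgroups A B) (hF : F ∈ unipotentSubgroups A B) {x : G} (hxE : x ∈ E)
    (hxF : x ∈ F) (hx1 : x ≠ 1) : E = F := by
  by_contra hne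
  have hp := (rankOne_pair_of_mem_unipotent h hE hF hne).1
  have hmem : x ∈ E ⊓ Subgroup.normalizer (F : Set G) := ⟨hxE, Subgroup.le_normalizer hxF⟩
  rw [rankOne_inf_normalizer hp] at hmem
  exact hx1 hmem

/-- The partner relation `A^b = B^a` for `a ∈ A`, `b ∈ B`. -/
def RPartner (A B : Subgroup G) (a b : G) : Prop :=
  a ∈ A ∧ b ∈ B ∧ conjBy A b⁻¹ = conjBy B a⁻¹

theorem rpartner_ne_one_left {A B : Subgroup G} (h : IsRankOnePair A B) {a b : G}
    (r : RPartner A B a b) : a ≠ 1 := by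
  rintro rfl
  obtain ⟨-, hb, e⟩ := r
  rw [inv_one, conjBy_one, conjBy_eq_iff, inv_inv, conjBy_of_mem hb] at e
  exact h.ne e

theorem rpartner_ne_one_right {A B : Subgroup G} (h : IsRankOnePair A B) {a b : G}
    (r : RPartner A B a b) : b ≠ 1 := by
  rintro rfl
  obtain ⟨ha, -, e⟩ := r
  rw [inv_one, conjBy_one] at e
  have e' := e.symm
  rw [conjBy_eq_iff, inv_inv, conjBy_of_mem ha] at e'
  exact h.ne e'.symm

theorem rpartner_unique_right {A B : Subgroup G} (h : IsRankOnePair A B) {a b b' : G}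
    (r : RPartner A B a b) (r' : RPartner A B a b') : b = b' :=
  rankOne_partner_unique h r.2.1 r'.2.1 r.2.2 r'.2.2

theorem rpartner_unique_left {A B : Subgroup G} (h : IsRankOnePair A B) {a a' b : G}
    (r : RPartner A B a b) (r' : RPartner A B a' b) : a = a' :=
  rankOne_partner_unique' h r.1 r'.1 r.2.2 r'.2.2

theorem rpartner_exists {A B : Subgroup G} (h : IsRankOnePair A B) {a : G} (ha : a ∈ A)
    (ha1 : a ≠ 1) : ∃ b, RPartner A B a b := by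
  obtain ⟨b, hb, -, e⟩ := h.cond_left a ha ha1
  exact ⟨b, ha, hb, e⟩

theorem rpartner_exists' {A B : Subgroup G} (h : IsRankOnePair A B) {b : G} (hb : b ∈ B)
    (hb1 : b ≠ 1) : ∃ a, RPartner A B a b := by
  obtain ⟨a, ha, -, e⟩ := h.cond_right b hb hb1
  exact ⟨a, ha, hb, e.symm⟩

section SpecialPair

variable {A B : Subgroup G}

theorem special_rel (hs : IsSpecialRankOnePair A B) {a b : G} (r : RPartner A B a b) :
    b⁻¹ * a * b = a⁻¹ * b⁻¹ * a :=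
  hs.2 a r.1 (rpartner_ne_one_left hs.1 r) b r.2.1 (rpartner_ne_one_right hs.1 r) r.2.2

theorem special_braid (hs : IsSpecialRankOnePair A B) {a b : G} (r : RPartner A B a b) :
    a * b⁻¹ * a = b⁻¹ * a * b⁻¹ := by
  have rel := special_rel hs r
  have e : a * b⁻¹ * a = a * (b⁻¹ * a * b) * b⁻¹ := by group
  rw [e, rel]; group

/-- `a n = n b⁻¹` for `n = a b⁻¹ a`. -/
theorem special_n_left (hs : IsSpecialRankOnePair A B) {a b : G} (r : RPartner A B a b) :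
    a * (a * b⁻¹ * a) = (a * b⁻¹ * a) * b⁻¹ := by
  calc a * (a * b⁻¹ * a) = a * (b⁻¹ * a * b⁻¹) := by rw [special_braid hs r]
    _ = (a * b⁻¹ * a) * b⁻¹ := by group

/-- `b⁻¹ n = n a` for `n = a b⁻¹ a`. -/
theorem special_n_right (hs : IsSpecialRankOnePair A B) {a b : G} (r : RPartner A B a b) :
    b⁻¹ * (a * b⁻¹ * a) = (a * b⁻¹ * a) * a := by
  calc b⁻¹ * (a * b⁻¹ * a) = (b⁻¹ * a * b⁻¹) * a := by group
    _ = (a * b⁻¹ * a) * a := by rw [← special_braid hs r]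

/-- `A^n = B` for `n = a b⁻¹ a`. -/
theorem special_swap_left (hs : IsSpecialRankOnePair A B) {a b : G} (r : RPartner A B a b) :
    conjBy A (a * b⁻¹ * a)⁻¹ = B := by
  have hn : a * b⁻¹ * a ∈ A ⊔ B :=
    mul_mem (mul_mem (Subgroup.mem_sup_left r.1) (inv_mem (Subgroup.mem_sup_right r.2.1)))
      (Subgroup.mem_sup_left r.1)
  have hE : conjBy A (a * b⁻¹ * a)⁻¹ ∈ unipotentSubgroups A B := ⟨_, inv_mem hn, rfl⟩
  have hx : b⁻¹ ∈ conjBy A (a * b⁻¹ * a)⁻¹ := by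
    rw [mem_conjBy, inv_inv]
    have : (a * b⁻¹ * a) * b⁻¹ * (a * b⁻¹ * a)⁻¹ = a := by
      rw [← special_n_left hs r, mul_inv_cancel_right]
    rw [this]; exact r.1
  exact unipotent_eq_of_common_mem hs.1 hE (rankOne_right_mem_unipotent hs.1) hx (inv_mem r.2.1)
    (fun e => rpartner_ne_one_right hs.1 r (inv_eq_one.mp e))

/-- `B^n = A` for `n = a b⁻¹ a`. -/
theorem special_swap_right (hs : IsSpecialRankOnePair A B) {a b : G} (r : RPartner A B a b) :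
    conjBy B (a * b⁻¹ * a)⁻¹ = A := by
  have hn : a * b⁻¹ * a ∈ A ⊔ B :=
    mul_mem (mul_mem (Subgroup.mem_sup_left r.1) (inv_mem (Subgroup.mem_sup_right r.2.1)))
      (Subgroup.mem_sup_left r.1)
  have hE : conjBy B (a * b⁻¹ * a)⁻¹ ∈ unipotentSubgroups A B :=
    unipotent_conj_mem (rankOne_right_mem_unipotent hs.1) (inv_mem hn)
  have hx : a ∈ conjBy B (a * b⁻¹ * a)⁻¹ := by
    rw [mem_conjBy, inv_inv]
    have : (a * b⁻¹ * a) * a * (a * b⁻¹ * a)⁻¹ = b⁻¹ := by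
      rw [← special_n_right hs r, mul_inv_cancel_right]
    rw [this]; exact inv_mem r.2.1
  exact unipotent_eq_of_common_mem hs.1 hE (left_mem_unipotent A B) hx r.1
    (rpartner_ne_one_left hs.1 r)

/-- `b(a⁻¹) = b(a)⁻¹`. -/
theorem rpartner_inv (hs : IsSpecialRankOnePair A B) {a b : G} (r : RPartner A B a b) :
    RPartner A B a⁻¹ b⁻¹ := by
  refine ⟨inv_mem r.1, inv_mem r.2.1, ?_⟩
  rw [inv_inv, inv_inv]
  have e' : conjBy (conjBy A b⁻¹) (a * b⁻¹ * a)⁻¹ = conjBy (conjBy B a⁻¹) (a * b⁻¹ * a)⁻¹ := by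
    rw [r.2.2]
  rw [conjBy_conjBy, conjBy_conjBy] at e'
  have h1 : (a * b⁻¹ * a)⁻¹ * b⁻¹ = a * (a * b⁻¹ * a)⁻¹ := by
    have := special_n_right hs r
    calc (a * b⁻¹ * a)⁻¹ * b⁻¹ = (a * b⁻¹ * a)⁻¹ * (b⁻¹ * (a * b⁻¹ * a)) * (a * b⁻¹ * a)⁻¹ := by
          group
      _ = a * (a * b⁻¹ * a)⁻¹ := by rw [this]; group
  have h2 : (a * b⁻¹ * a)⁻¹ * a⁻¹ = b * (a * b⁻¹ * a)⁻¹ := by
    have := special_n_left hs r
    calc (a * b⁻¹ * a)⁻¹ * a⁻¹ = (a * (a * b⁻¹ * a))⁻¹ := by group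
      _ = b * (a * b⁻¹ * a)⁻¹ := by rw [this]; group
  rw [h1, h2, ← conjBy_conjBy, ← conjBy_conjBy, special_swap_left hs r,
    special_swap_right hs r] at e'
  exact e'.symm

/-- The inductive step for `b(a^k)^k = b(a)`. -/
theorem special_pow_step (hs : IsSpecialRankOnePair A B) {m : ℕ}
    (hP : ∀ a b bm : G, RPartner A B a b → RPartner A B (a ^ m) bm → bm ^ m = b) {a b b' : G}
    (r : RPartner A B a b) (r' : RPartner A B (a ^ (m + 1)) b') (hm : a ^ m ≠ 1) :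
    b' ^ (m + 1) = b := by
  obtain ⟨bm, rm⟩ := rpartner_exists hs.1 (A.pow_mem r.1 m) hm
  have hbm : bm ^ m = b := hP a b bm r rm
  have swL := special_swap_left hs r
  have swR := special_swap_right hs r
  have nR := special_n_right hs r
  generalize hn : a * b⁻¹ * a = n at swL swR nR
  -- a' = bm^n
  have ha' : n⁻¹ * bm * n ∈ A := by
    have := conj_mem_conjBy rm.2.1 n⁻¹
    rwa [inv_inv, swR] at this
  have g1 : (b' * b⁻¹)⁻¹ = b * b'⁻¹ := by group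
  have g2 : b * (a ^ (m + 1))⁻¹ = a * (n⁻¹ * (a ^ m)⁻¹) := by
    rw [← hn, pow_succ]; group
  have g3 : n⁻¹ * bm⁻¹ = (n⁻¹ * bm * n)⁻¹ * n⁻¹ := by group
  have g4 : a * (n⁻¹ * bm * n)⁻¹ = (n⁻¹ * bm * n * a⁻¹)⁻¹ := by group
  have key : conjBy A (b' * b⁻¹)⁻¹ = conjBy B (n⁻¹ * bm * n * a⁻¹)⁻¹ := by
    calc conjBy A (b' * b⁻¹)⁻¹ = conjBy (conjBy A b'⁻¹) b := by rw [g1, conjBy_conjBy]
      _ = conjBy B (b * (a ^ (m + 1))⁻¹) := by rw [r'.2.2, conjBy_conjBy]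
      _ = conjBy (conjBy (conjBy B (a ^ m)⁻¹) n⁻¹) a := by
          rw [g2, ← conjBy_conjBy, ← conjBy_conjBy]
      _ = conjBy (conjBy A (n⁻¹ * bm⁻¹)) a := by rw [← rm.2.2, conjBy_conjBy A]
      _ = conjBy (conjBy B (n⁻¹ * bm * n)⁻¹) a := by rw [g3, ← conjBy_conjBy, swL]
      _ = conjBy B (n⁻¹ * bm * n * a⁻¹)⁻¹ := by rw [conjBy_conjBy, g4]
  have rk : RPartner A B (n⁻¹ * bm * n * a⁻¹) (b' * b⁻¹) :=
    ⟨mul_mem ha' (inv_mem r.1), mul_mem r'.2.1 (inv_mem r.2.1), key⟩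
  have rk' := rpartner_inv hs rk
  -- c = a'⁻¹ with c^m = a
  have hcm : ((n⁻¹ * bm * n)⁻¹) ^ m = a := by
    rw [inv_pow]
    have e1 : (n⁻¹ * bm * n) ^ m = n⁻¹ * bm ^ m * n := by
      have := conj_pow (a := n⁻¹) (b := bm) (i := m)
      rwa [inv_inv] at this
    rw [e1, hbm]
    have e2 : n⁻¹ * b * n = a⁻¹ := by
      have : n⁻¹ * b⁻¹ * n = a := by rw [mul_assoc, nR, inv_mul_cancel_left]
      calc n⁻¹ * b * n = (n⁻¹ * b⁻¹ * n)⁻¹ := by group
        _ = a⁻¹ := by rw [this]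
    rw [e2, inv_inv]
  have e3 : (n⁻¹ * bm * n * a⁻¹)⁻¹ = ((n⁻¹ * bm * n)⁻¹) ^ (m + 1) := by
    rw [pow_succ, hcm]; group
  have e4 : (((n⁻¹ * bm * n)⁻¹) ^ (m + 1)) ^ m = a ^ (m + 1) := by
    rw [← pow_mul, mul_comm, pow_mul, hcm]
  rw [e3, g1] at rk'
  have r'' : RPartner A B ((((n⁻¹ * bm * n)⁻¹) ^ (m + 1)) ^ m) b' := by rw [e4]; exact r'
  have hfin := hP _ _ _ rk' r''
  rw [pow_succ, hfin]; group

/-- `b(a^k)^k = b(a)` as long as no non-identity element of `A` has order `≤ N` and `k ≤ N + 1`. -/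
theorem special_pow (hs : IsSpecialRankOnePair A B) (N : ℕ)
    (hT : ∀ x ∈ A, x ≠ 1 → ∀ j, 1 ≤ j → j ≤ N → x ^ j ≠ 1) :
    ∀ k, 1 ≤ k → k ≤ N + 1 → ∀ a b b' : G, RPartner A B a b → RPartner A B (a ^ k) b' →
      b' ^ k = b := by
  intro k
  induction k with
  | zero => intro h; omega
  | succ k ih =>
    intro _ hk a b b' r r'
    by_cases hk0 : k = 0
    · subst hk0
      rw [zero_add, pow_one] at r' ⊢
      exact rpartner_unique_right hs.1 r' r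
    · have hk1 : 1 ≤ k := Nat.one_le_iff_ne_zero.mpr hk0
      exact special_pow_step hs (ih hk1 (by omega)) r r'
        (hT a r.1 (rpartner_ne_one_left hs.1 r) k hk1 (by omega))

end SpecialPair

end Cfsg.Agent.Lib.Helper83
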