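import Mathlib
import Cfsg.Agent.S0040
import Cfsg.Agent.Lib.Helper83.Idx2
import Cfsg.Agent.Lib.Helper83.ZassReg
import Cfsg.Agent.Lib.Helper83.ZassInv

/-!
# Commutative two-point stabilisers are cyclic

In the Zassenhaus set-up a two-point stabiliser is a Frobenius complement, so if it is commutative
it is cyclic.
-/

set_option autoImplicit false

namespace Cfsg.Agent.Lib.Helper83

section ZassCyc

variable {G Ω : Type*} [Group G] [MulAction G Ω]

theorem zass_comm_cyclic [Finite G] {a b : Ω} (hab : a ≠ b)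
    (h2 : MulAction.IsMultiplyPretransitive G Ω 2)
    (h3 : ∀ g : G, ∀ a b c : Ω, a ≠ b → b ≠ c → a ≠ c → g • a = a → g • b = b → g • c = c → g = 1)
    (hne : ∃ g : G, g ≠ 1 ∧ g • a = a ∧ g • b = b)
    (hc : ∃ c : Ω, c ≠ a ∧ c ≠ b)
    (hcomm : ∀ x ∈ MulAction.stabilizer G a ⊓ MulAction.stabilizer G b,
      ∀ y ∈ MulAction.stabilizer G a ⊓ MulAction.stabilizer G b, x * y = y * x) :
    IsCyclic ↥(MulAction.stabilizer G a ⊓ MulAction.stabilizer G b) := by
  have memH : ∀ g : G, g ∈ MulAction.stabilizer G a ⊓ MulAction.stabilizer G b ↔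
      g • a = a ∧ g • b = b := by
    intro g
    rw [Subgroup.mem_inf, MulAction.mem_stabilizer_iff, MulAction.mem_stabilizer_iff]
  obtain ⟨K0, hK0n, hK0ne, -, hK0t, hK0r, hK0f⟩ := zass_frob hab h2 h3 hne hc
  obtain ⟨HH, hHH⟩ : ∃ HH : Subgroup ↥(MulAction.stabilizer G a),
    HH = (MulAction.stabilizer G a ⊓ MulAction.stabilizer G b).subgroupOf
      (MulAction.stabilizer G a) := ⟨_, rfl⟩
  have memHH : ∀ x : ↥(MulAction.stabilizer G a), x ∈ HH ↔ (x : G) • b = b := by
    intro x
    rw [hHH, Subgroup.mem_subgroupOf, memH]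
    constructor
    · exact fun h => h.2
    · exact fun h => ⟨MulAction.mem_stabilizer_iff.mp x.2, h⟩
  have hcompl : Subgroup.IsComplement' K0 HH := by
    apply Subgroup.isComplement'_of_disjoint_and_mul_eq_univ
    · rw [Subgroup.disjoint_def]
      intro x hxK hxH
      by_contra hx1
      exact hK0r x hxK hx1 b (Ne.symm hab) ((memHH x).mp hxH)
    · rw [Set.eq_univ_iff_forall]
      intro g
      obtain ⟨k, hk, hkb⟩ := hK0t g
      refine ⟨k, hk, k⁻¹ * g, ?_, by group⟩
      rw [SetLike.mem_coe, memHH]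
      rw [Subgroup.coe_mul, mul_smul, ← hkb, Subgroup.coe_inv, inv_smul_smul]
  have hfpf : ∀ h ∈ HH, h ≠ 1 → K0 ⊓ Subgroup.centralizer {h} = ⊥ := by
    intro h hh hh1
    rw [eq_bot_iff]
    intro k hk
    rw [Subgroup.mem_inf, Subgroup.mem_centralizer_iff] at hk
    rw [Subgroup.mem_bot]
    exact hK0f h ((memHH h).mp hh) hh1 k hk.1 (hk.2 h rfl)
  have hHHcomm : ∀ x y : ↥HH, x * y = y * x := by
    intro x y
    apply Subtype.ext
    apply Subtype.ext
    have hx : ((x : ↥(MulAction.stabilizer G a)) : G) ∈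
        MulAction.stabilizer G a ⊓ MulAction.stabilizer G b :=
      (memH _).mpr ⟨MulAction.mem_stabilizer_iff.mp x.1.2, (memHH _).mp x.2⟩
    have hy : ((y : ↥(MulAction.stabilizer G a)) : G) ∈
        MulAction.stabilizer G a ⊓ MulAction.stabilizer G b :=
      (memH _).mpr ⟨MulAction.mem_stabilizer_iff.mp y.1.2, (memHH _).mp y.2⟩
    exact hcomm _ hx _ hy
  have hX : ∀ (r : ℕ) [Fact r.Prime] (Q : Sylow r ↥HH), IsCyclic (Q : Subgroup ↥HH) := by
    intro r _ Q
    have : K0.Normal := hK0n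
    rcases Cfsg.Agent.S0040.result K0 HH hcompl hK0ne hfpf r Q with h | ⟨n, ⟨e⟩⟩
    · exact h
    · rcases Nat.eq_zero_or_pos n with hn | hn
      · subst hn
        have : IsCyclic (QuaternionGroup (2 ^ 0)) := QuaternionGroup.quaternionGroup_one_isCyclic
        exact isCyclic_of_surjective e.symm e.symm.surjective
      · exfalso
        obtain ⟨x, y, hxy⟩ := quat_not_comm hn e
        exact hxy (Subtype.ext (hHHcomm x.1 y.1))
  have hHHcyc : IsCyclic ↥HH := isCyclic_of_comm_of_sylow_cyclic hHHcomm hX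
  have hle : MulAction.stabilizer G a ⊓ MulAction.stabilizer G b ≤ MulAction.stabilizer G a :=
    inf_le_left
  rw [hHH] at hHHcyc
  exact isCyclic_of_surjective (Subgroup.subgroupOfEquivOfLe hle)
    (Subgroup.subgroupOfEquivOfLe hle).surjective

end ZassCyc

end Cfsg.Agent.Lib.Helper83
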