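import Mathlib
import Cfsg.Agent.S0728
import Cfsg.Agent.S0741
import Cfsg.Agent.Lib.Helper13.Zass
import Cfsg.Agent.Lib.Helper83.Bruhat

/-!
# Simple Zassenhaus groups with two-point stabilisers of even order

In a finite simple Zassenhaus group of degree `n + 1` whose two-point stabilisers have even order
`d`, one has `2 d = n - 1`: the other possibility `d = n - 1` (sharp triple transitivity) leads to a
subgroup of index two.
-/

set_option autoImplicit false

namespace Cfsg.Agent.Lib.Helper83

section ZassSimple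

variable {G Ω : Type*} [Group G] [MulAction G Ω]

theorem zass_three_le [Finite Ω] (hZ : Cfsg.IsZassenhausGroup G Ω) : 3 ≤ Nat.card Ω := by
  obtain ⟨g, hg1, a, b, hab, hga, hgb⟩ := hZ.2.2.2.1
  obtain ⟨c, hc⟩ := Cfsg.Agent.Lib.Helper13.zass_exists_moved hZ hg1
  have hca : a ≠ c := by
    intro h
    rw [← h] at hc
    exact hc hga
  have hcb : b ≠ c := by
    intro h
    rw [← h] at hc
    exact hc hgb
  have h1 : ({a, b, c} : Set Ω).ncard = 3 := Set.ncard_eq_three.mpr ⟨a, b, c, hab, hca, hcb, rfl⟩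
  have h2 := Set.ncard_le_card ({a, b, c} : Set Ω)
  omega

/-- The order of a two-point stabiliser divides the number of remaining points. -/
theorem stab_card_dvd [Finite G] [Finite Ω]
    (h3 : ∀ g : G, ∀ a b c : Ω, a ≠ b → b ≠ c → a ≠ c → g • a = a → g • b = b → g • c = c → g = 1)
    {a b : Ω} (hab : a ≠ b) :
    Nat.card ↥(MulAction.stabilizer G a ⊓ MulAction.stabilizer G b) ∣ Nat.card Ω - 2 := by
  obtain ⟨H, hH⟩ : ∃ H : Subgroup G,
    H = MulAction.stabilizer G a ⊓ MulAction.stabilizer G b := ⟨_, rfl⟩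
  rw [← hH]
  have memH : ∀ g : G, g ∈ H ↔ g • a = a ∧ g • b = b := by
    intro g
    rw [hH, Subgroup.mem_inf, MulAction.mem_stabilizer_iff, MulAction.mem_stabilizer_iff]
  obtain ⟨s, hs⟩ : ∃ s : Set Ω, s = {x | x ≠ a ∧ x ≠ b} := ⟨_, rfl⟩
  have hs' : s = ({a, b} : Set Ω)ᶜ := by
    rw [hs]
    ext x
    simp
  have hsmem : ∀ x : Ω, x ∈ s ↔ x ≠ a ∧ x ≠ b := by
    intro x
    rw [hs]
    rfl
  have hmem : ∀ (h : ↥H) (x : ↥s), (h : G) • (x : Ω) ∈ s := by
    intro h x
    obtain ⟨ha, hb⟩ := (memH _).mp h.2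
    have hx := (hsmem _).mp x.2
    rw [hsmem]
    constructor
    · intro h0
      apply hx.1
      have : (h : G) • (x : Ω) = (h : G) • a := by rw [h0, ha]
      exact MulAction.injective _ this
    · intro h0
      apply hx.2
      have : (h : G) • (x : Ω) = (h : G) • b := by rw [h0, hb]
      exact MulAction.injective _ this
  let act : MulAction ↥H ↥s :=
    { smul := fun h x => ⟨(h : G) • (x : Ω), hmem h x⟩
      one_smul := fun x => Subtype.ext (one_smul G (x : Ω))
      mul_smul := fun h h' x => Subtype.ext (mul_smul (h : G) (h' : G) (x : Ω)) }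
  have hsmul : ∀ (h : ↥H) (x : ↥s), ((h • x : ↥s) : Ω) = (h : G) • (x : Ω) := fun h x => rfl
  have hstab : ∀ x : ↥s, MulAction.stabilizer ↥H x = ⊥ := by
    intro x
    rw [eq_bot_iff]
    intro h hh
    rw [MulAction.mem_stabilizer_iff] at hh
    have h1 : (h : G) • (x : Ω) = (x : Ω) := by rw [← hsmul, hh]
    obtain ⟨ha, hb⟩ := (memH _).mp h.2
    have hx := (hsmem _).mp x.2
    rw [Subgroup.mem_bot]
    apply Subtype.ext
    exact h3 _ a b (x : Ω) hab (Ne.symm hx.2) (Ne.symm hx.1) ha hb h1
  have e := MulAction.selfEquivOrbitsQuotientProd hstab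
  have h1 : Nat.card ↥s = Nat.card (Quotient (MulAction.orbitRel ↥H ↥s)) * Nat.card ↥H := by
    rw [Nat.card_congr e, Nat.card_prod]
  have h2 : Nat.card ↥s = s.ncard := rfl
  have h4 := Set.ncard_add_ncard_compl ({a, b} : Set Ω)
  rw [Set.ncard_pair hab, ← hs'] at h4
  have h5 : Nat.card Ω - 2 = Nat.card (Quotient (MulAction.orbitRel ↥H ↥s)) * Nat.card ↥H := by
    omega
  rw [h5]
  exact Dvd.intro_left _ rfl

/-- A Zassenhaus group whose two-point stabilisers have order `n - 1` is sharply triply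
transitive. -/
theorem zass_sharp3 [Finite G] [Finite Ω] (hZ : Cfsg.IsZassenhausGroup G Ω) {a b : Ω}
    (hab : a ≠ b)
    (hcard : Nat.card ↥(MulAction.stabilizer G a ⊓ MulAction.stabilizer G b) + 2 = Nat.card Ω) :
    Sharp3 G Ω := by
  have h3 := hZ.2.2.1
  obtain ⟨H, hH⟩ : ∃ H : Subgroup G,
    H = MulAction.stabilizer G a ⊓ MulAction.stabilizer G b := ⟨_, rfl⟩
  rw [← hH] at hcard
  have memH : ∀ g : G, g ∈ H ↔ g • a = a ∧ g • b = b := by
    intro g
    rw [hH, Subgroup.mem_inf, MulAction.mem_stabilizer_iff, MulAction.mem_stabilizer_iff]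
  obtain ⟨s, hs⟩ : ∃ s : Set Ω, s = {x | x ≠ a ∧ x ≠ b} := ⟨_, rfl⟩
  have hs' : s = ({a, b} : Set Ω)ᶜ := by
    rw [hs]
    ext x
    simp
  have hscard : Nat.card ↥s = Nat.card ↥H := by
    have h2 : Nat.card ↥s = s.ncard := rfl
    have h4 := Set.ncard_add_ncard_compl ({a, b} : Set Ω)
    rw [Set.ncard_pair hab, ← hs'] at h4
    omega
  have hT : ∀ x y : Ω, x ≠ a → x ≠ b → y ≠ a → y ≠ b →
      ∃ h : G, h • a = a ∧ h • b = b ∧ h • x = y := by
    intro x y hxa hxb hya hyb
    have hmem : ∀ h : ↥H, (h : G) • x ∈ s := by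
      intro h
      obtain ⟨ha, hb⟩ := (memH _).mp h.2
      rw [hs]
      constructor
      · intro h0
        apply hxa
        have : (h : G) • x = (h : G) • a := by rw [h0, ha]
        exact MulAction.injective _ this
      · intro h0
        apply hxb
        have : (h : G) • x = (h : G) • b := by rw [h0, hb]
        exact MulAction.injective _ this
    obtain ⟨f, hf⟩ : ∃ f : ↥H → ↥s, ∀ h, (f h : Ω) = (h : G) • x :=
      ⟨fun h => ⟨(h : G) • x, hmem h⟩, fun h => rfl⟩
    have hinj : Function.Injective f := by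
      intro h h' hh
      have h2 : (h : G) • x = (h' : G) • x := by rw [← hf, ← hf, hh]
      obtain ⟨ha, hb⟩ := (memH _).mp h.2
      obtain ⟨ha', hb'⟩ := (memH _).mp h'.2
      have h4 : (h' : G)⁻¹ * (h : G) = 1 := by
        apply h3 _ a b x hab (Ne.symm hxb) (Ne.symm hxa)
        · rw [mul_smul, ha, inv_smul_eq_iff, ha']
        · rw [mul_smul, hb, inv_smul_eq_iff, hb']
        · rw [mul_smul, h2, inv_smul_smul]
      apply Subtype.ext
      exact (inv_mul_eq_one.mp h4).symm
    have hbij := hinj.bijective_of_nat_card_le hscard.le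
    have hy : y ∈ s := by rw [hs]; exact ⟨hya, hyb⟩
    obtain ⟨h, hh⟩ := hbij.2 ⟨y, hy⟩
    refine ⟨h, ((memH _).mp h.2).1, ((memH _).mp h.2).2, ?_⟩
    rw [← hf, hh]
  constructor
  · intro x y z x' y' z' hxy hxz hyz hxy' hxz' hyz'
    obtain ⟨g₁, h1x, h1y⟩ := Cfsg.Agent.Lib.Helper13.zass_two_trans hZ hxy hab
    obtain ⟨g₂, h2x, h2y⟩ := Cfsg.Agent.Lib.Helper13.zass_two_trans hZ hxy' hab
    have hu : g₁ • z ≠ a ∧ g₁ • z ≠ b := by
      constructor
      · intro h
        apply hxz
        have : g₁ • x = g₁ • z := by rw [h, h1x]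
        exact MulAction.injective _ this
      · intro h
        apply hyz
        have : g₁ • y = g₁ • z := by rw [h, h1y]
        exact MulAction.injective _ this
    have hu' : g₂ • z' ≠ a ∧ g₂ • z' ≠ b := by
      constructor
      · intro h
        apply hxz'
        have : g₂ • x' = g₂ • z' := by rw [h, h2x]
        exact MulAction.injective _ this
      · intro h
        apply hyz'
        have : g₂ • y' = g₂ • z' := by rw [h, h2y]
        exact MulAction.injective _ this
    obtain ⟨h, hha, hhb, hhu⟩ := hT _ _ hu.1 hu.2 hu'.1 hu'.2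
    refine ⟨g₂⁻¹ * h * g₁, ?_, ?_, ?_⟩
    · rw [mul_smul, mul_smul, h1x, hha, inv_smul_eq_iff, h2x]
    · rw [mul_smul, mul_smul, h1y, hhb, inv_smul_eq_iff, h2y]
    · rw [mul_smul, mul_smul, hhu, inv_smul_smul]
  · exact h3

/-- Transport of the uniqueness of subgroups of order three from the permutation group. -/
theorem sharp3_h3sub [Finite G] [Finite Ω] [FaithfulSMul G Ω] (S : Sharp3 G Ω)
    (heven : Even (Nat.card Ω)) (h6 : 6 ≤ Nat.card Ω) {a b : Ω} (hab : a ≠ b)
    (A B : Subgroup G) (hA : A ≤ MulAction.stabilizer G a ⊓ MulAction.stabilizer G b)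
    (hB : B ≤ MulAction.stabilizer G a ⊓ MulAction.stabilizer G b)
    (hA3 : Nat.card A = 3) (hB3 : Nat.card B = 3) : A = B := by
  classical
  have : Fintype Ω := Fintype.ofFinite Ω
  have hcard : Nat.card Ω = Fintype.card Ω := Nat.card_eq_fintype_card
  obtain ⟨e, he⟩ : ∃ e : G →* ↥(MulAction.toPermHom G Ω).range,
      ∀ (g : G) (x : Ω), e g • x = g • x :=
    ⟨(MulAction.toPermHom G Ω).rangeRestrict, fun g x => rfl⟩
  have hesurj : Function.Surjective e := by
    rintro ⟨_, g, rfl⟩
    refine ⟨g, ?_⟩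
    apply Subtype.ext
    apply Equiv.ext
    intro x
    exact he g x
  have heinj : Function.Injective e := by
    intro g g' h
    apply FaithfulSMul.eq_of_smul_eq_smul (α := Ω)
    intro x
    rw [← he, ← he, h]
  have h3' : MulAction.IsMultiplyPretransitive ↥(MulAction.toPermHom G Ω).range Ω 3 := by
    constructor
    intro x y
    obtain ⟨g, h0, h1, h2⟩ := S.trans (x 0) (x 1) (x 2) (y 0) (y 1) (y 2)
      (x.injective.ne (by decide)) (x.injective.ne (by decide)) (x.injective.ne (by decide))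
      (y.injective.ne (by decide)) (y.injective.ne (by decide)) (y.injective.ne (by decide))
    refine ⟨e g, ?_⟩
    apply DFunLike.ext
    intro i
    change e g • x i = y i
    rw [he]
    fin_cases i
    · exact h0
    · exact h1
    · exact h2
  have hsharp' : ∀ x : Fin 3 ↪ Ω,
      MulAction.stabilizer ↥(MulAction.toPermHom G Ω).range x = ⊥ := by
    intro x
    rw [eq_bot_iff]
    intro g' hg'
    rw [MulAction.mem_stabilizer_iff] at hg'
    obtain ⟨g, rfl⟩ := hesurj g'
    have hfix : ∀ i : Fin 3, g • x i = x i := by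
      intro i
      rw [← he]
      exact DFunLike.congr_fun hg' i
    have hg1 : g = 1 := S.sharp g (x 0) (x 1) (x 2) (x.injective.ne (by decide))
      (x.injective.ne (by decide)) (x.injective.ne (by decide)) (hfix 0) (hfix 1) (hfix 2)
    rw [hg1, map_one]
    exact Subgroup.one_mem _
  have hmap : ∀ C : Subgroup G, C ≤ MulAction.stabilizer G a ⊓ MulAction.stabilizer G b →
      C.map e ≤ MulAction.stabilizer ↥(MulAction.toPermHom G Ω).range a ⊓
        MulAction.stabilizer ↥(MulAction.toPermHom G Ω).range b := by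
    intro C hC
    rintro _ ⟨g, hg, rfl⟩
    have h1 := hC hg
    rw [Subgroup.mem_inf, MulAction.mem_stabilizer_iff, MulAction.mem_stabilizer_iff] at h1 ⊢
    rw [he, he]
    exact h1
  have h := Cfsg.Agent.S0728.result (by rw [← hcard]; exact heven) (by rw [← hcard]; exact h6)
    (MulAction.toPermHom G Ω).range h3' hsharp' hab (A.map e) (B.map e) (hmap A hA) (hmap B hB)
    (by rw [Subgroup.card_map_of_injective heinj]; exact hA3)
    (by rw [Subgroup.card_map_of_injective heinj]; exact hB3)
  exact Subgroup.map_injective heinj h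

/-- In a simple Zassenhaus group with two-point stabilisers of even order `d` and degree `n + 1`,
`2 d = n - 1`. -/
theorem zass_simple_even [Finite G] [Finite Ω] (hZ : Cfsg.IsZassenhausGroup G Ω)
    [IsSimpleGroup G] {a b : Ω} (hab : a ≠ b)
    (heven : Even (Nat.card ↥(MulAction.stabilizer G a ⊓ MulAction.stabilizer G b))) :
    2 * Nat.card ↥(MulAction.stabilizer G a ⊓ MulAction.stabilizer G b) + 2 = Nat.card Ω := by
  classical
  have : Fintype Ω := Fintype.ofFinite Ω
  have hfaith := hZ.1
  have h741 := Cfsg.Agent.S0741.result hZ hab heven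
  rw [← Nat.card_eq_fintype_card] at h741
  have h3le := zass_three_le hZ
  obtain ⟨q, hq⟩ := stab_card_dvd hZ.2.2.1 hab
  have hdpos : 0 < Nat.card ↥(MulAction.stabilizer G a ⊓ MulAction.stabilizer G b) := Nat.card_pos
  obtain ⟨d, hd⟩ : ∃ d : ℕ,
    d = Nat.card ↥(MulAction.stabilizer G a ⊓ MulAction.stabilizer G b) := ⟨_, rfl⟩
  rw [← hd] at h741 hq hdpos heven ⊢
  have hd2 : 2 ≤ d := by
    obtain ⟨m, hm⟩ := heven
    omega
  have hq1 : 1 ≤ q := by
    rcases Nat.eq_zero_or_pos q with h | h
    · rw [h, mul_zero] at hq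
      omega
    · exact h
  have hq2 : q ≤ 2 := by
    by_contra hcon
    have h3q : 3 ≤ q := by omega
    have : d * 3 ≤ d * q := Nat.mul_le_mul_left d h3q
    omega
  rcases Nat.lt_or_ge q 2 with hlt | hge
  · exfalso
    have hq' : q = 1 := by omega
    rw [hq', mul_one] at hq
    have hcard : Nat.card ↥(MulAction.stabilizer G a ⊓ MulAction.stabilizer G b) + 2
        = Nat.card Ω := by rw [← hd]; omega
    have S := zass_sharp3 hZ hab hcard
    have hevenΩ : Even (Nat.card Ω) := by
      obtain ⟨m, hm⟩ := heven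
      exact ⟨m + 1, by omega⟩
    have h4 : 4 ≤ Nat.card Ω := by omega
    have hidx : HasIdx2 ↥(MulAction.stabilizer G a ⊓ MulAction.stabilizer G b) := by
      by_cases h6 : 6 ≤ Nat.card Ω
      · exact S.hasIdx2 hab hevenΩ h4 (fun A B hA hB hA3 hB3 =>
          sharp3_h3sub S hevenΩ h6 hab A B hA hB hA3 hB3)
      · refine ⟨⊥, ?_⟩
        rw [Subgroup.index_bot, ← hd]
        obtain ⟨m, hm⟩ := heven
        omega
    obtain ⟨L, hL⟩ := S.index_two hab hevenΩ h4 hidx
    have hLn : L.Normal := Subgroup.normal_of_index_eq_two hL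
    rcases hLn.eq_bot_or_eq_top with h | h
    · rw [h, Subgroup.index_bot] at hL
      have hsurj : Function.Surjective (fun g : G => g • a) := by
        intro x
        by_cases hx : x = a
        · exact ⟨1, by rw [hx]; exact one_smul G a⟩
        · obtain ⟨g, hg, -⟩ := Cfsg.Agent.Lib.Helper13.zass_two_trans hZ hab hx
          exact ⟨g, hg⟩
      have := Nat.card_le_card_of_surjective _ hsurj
      omega
    · rw [h, Subgroup.index_top] at hL
      omega
  · have hq' : q = 2 := by omega
    rw [hq'] at hq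
    omega

end ZassSimple

end Cfsg.Agent.Lib.Helper83
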